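/-
Lifting invariant idempotents from the residue field to the local ring.
-/
import Cfsg.Agent.Lib.DefOne.Ring
import Cfsg.Agent.Lib.BrauerPairs.Concrete
import Cfsg.Agent.Lib.BrauerPairs.FusionBridge
import Mathlib.RingTheory.IntegralClosure.IsIntegral.Basic
import Mathlib.RingTheory.Finiteness.Finsupp
import Mathlib.RingTheory.Coprime.Lemmas

set_option linter.unusedSectionVars false
set_option linter.style.haveILetI false

namespace Cfsg.Agent.Star

open Cfsg MonoidAlgebra Polynomial Cfsg.Agent.Blocks Cfsg.Agent.BrauerPairs

universe u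

variable {G : Type u} [Group G] [Fintype G]

section Inv

variable {R : Type*} [CommRing R]

theorem isInvElt_one (H : Subgroup G) : IsInvElt H (1 : MonoidAlgebra R G) :=
  IsClassElt.isInvElt IsClassElt.one H

theorem isInvElt_mul' {H : Subgroup G} {x y : MonoidAlgebra R G} (hx : IsInvElt H x)
    (hy : IsInvElt H y) : IsInvElt H (x * y) := fun u hu g => by
  rw [coeff_mul_univ, coeff_mul_univ]
  symm
  refine Fintype.sum_equiv (MulAut.conj u).toEquiv _ _ fun a => ?_
  simp only [MulEquiv.toEquiv_eq_coe, MulEquiv.coe_toEquiv, MulAut.conj_apply]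
  rw [hx u hu a, show (u * a * u⁻¹)⁻¹ * (u * g * u⁻¹) = u * (a⁻¹ * g) * u⁻¹ by group,
    hy u hu (a⁻¹ * g)]

theorem isInvElt_add {H : Subgroup G} {x y : MonoidAlgebra R G} (hx : IsInvElt H x)
    (hy : IsInvElt H y) : IsInvElt H (x + y) := fun u hu g => by
  simp [hx u hu g, hy u hu g]

theorem isInvElt_smul {H : Subgroup G} {x : MonoidAlgebra R G} (hx : IsInvElt H x) (c : R) :
    IsInvElt H (c • x) := fun u hu g => by simp [hx u hu g]

theorem isInvElt_sub {H : Subgroup G} {x y : MonoidAlgebra R G} (hx : IsInvElt H x)
    (hy : IsInvElt H y) : IsInvElt H (x - y) := fun u hu g => by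
  simp [hx u hu g, hy u hu g]

theorem isInvElt_sum {H : Subgroup G} {ι : Type*} (s : Finset ι) (f : ι → MonoidAlgebra R G)
    (h : ∀ i ∈ s, IsInvElt H (f i)) : IsInvElt H (∑ i ∈ s, f i) :=
  Finset.sum_induction f (IsInvElt H) (fun _ _ => isInvElt_add)
    (fun _ _ _ => by simp) h

/-- The algebra of invariants of a subgroup. -/
def invAlg (R : Type*) [CommRing R] (H : Subgroup G) : Subalgebra R (MonoidAlgebra R G) where
  carrier := {x | IsInvElt H x}
  mul_mem' := isInvElt_mul'
  one_mem' := isInvElt_one H
  add_mem' := isInvElt_add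
  zero_mem' := fun _ _ _ => by simp
  algebraMap_mem' c := by
    rw [Algebra.algebraMap_eq_smul_one]
    exact isInvElt_smul (isInvElt_one H) c

theorem mem_invAlg {H : Subgroup G} {x : MonoidAlgebra R G} :
    x ∈ invAlg R H ↔ IsInvElt H x := Iff.rfl

theorem isInvElt_aeval {H : Subgroup G} {x : MonoidAlgebra R G} (hx : IsInvElt H x) (f : R[X]) :
    IsInvElt H (aeval x f) :=
  Algebra.adjoin_le (S := invAlg R H) (Set.singleton_subset_iff.2 hx)
    (aeval_mem_adjoin_singleton R x)

theorem isInvElt_mono {H K : Subgroup G} (h : H ≤ K) {x : MonoidAlgebra R G}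
    (hx : IsInvElt K x) : IsInvElt H x := fun u hu => hx u (h hu)

/-- Evaluation of a polynomial at an idempotent. -/
theorem aeval_idem {A : Type*} [Ring A] [Algebra R A] {e : A} (he : e * e = e) (f : R[X]) :
    aeval e f = f.eval 1 • e + f.eval 0 • (1 - e) := by
  induction f using Polynomial.induction_on with
  | C a => simp [Algebra.algebraMap_eq_smul_one, smul_sub]
  | add f g hf hg => rw [map_add, hf, hg, eval_add, eval_add]; simp only [add_smul]; abel
  | monomial n a _ =>
    simp only [map_mul, aeval_C, map_pow, aeval_X, eval_mul, eval_C, eval_pow, eval_X, one_pow,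
      mul_one, zero_pow (Nat.succ_ne_zero n), mul_zero, zero_smul, add_zero]
    rw [Algebra.algebraMap_eq_smul_one, smul_mul_assoc, one_mul,
      show e ^ (n + 1) = e from IsIdempotentElem.pow_succ_eq n he]

theorem aeval_commute {A : Type*} [Ring A] [Algebra R A] {x y : A} (h : Commute y x) (f : R[X]) :
    Commute y (aeval x f) := by
  induction f using Polynomial.induction_on with
  | C a => rw [aeval_C]; exact Algebra.commute_algebraMap_right a y
  | add f g hf hg => rw [map_add]; exact hf.add_right hg
  | monomial n a _ =>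
    rw [map_mul, aeval_C, map_pow, aeval_X]
    exact (Algebra.commute_algebraMap_right a y).mul_right (h.pow_right _)

end Inv

variable {M : Ideal AlgInt} [M.IsPrime]

/-- An invariant element of the residual group algebra lifts to an invariant element. -/
theorem exists_inv_lift {H : Subgroup G} {y : MonoidAlgebra (resField M) G} (hy : IsInvElt H y) :
    ∃ x : MonoidAlgebra (locRing M) G, IsInvElt H x ∧ resG x = y := by
  refine ⟨gaOfFun fun g => Function.surjInv res_surjective (y.coeff g), fun u hu g => ?_,
    gaExt fun g => ?_⟩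
  · simp [hy u hu g]
  · simp [coeff_resG, Function.surjInv_eq res_surjective]

/-- Monic polynomials over the local ring split, and the roots split by their residues. -/
theorem exists_root_split (P : (locRing M)[X]) (hP : P.Monic) :
    ∃ q r : (locRing M)[X], P = q * r ∧ IsCoprime q r ∧ (q.map (res M)).eval 0 ≠ 0 ∧
      ∃ b : ℕ, r.map (res M) = X ^ b := by
  classical
  have hsplit : (P.map (locRing M).subtype).Splits := IsAlgClosed.splits _
  let rts := (P.map (locRing M).subtype).roots
  have hmem : ∀ z ∈ rts, z ∈ locRing M := fun z hz =>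
    DefOne.mem_locRing_of_root hP (by rw [← eval_map]; exact (mem_roots'.1 hz).2)
  let s : Multiset (locRing M) := rts.pmap (fun z hz => ⟨z, hz⟩) hmem
  have hs : s.map (fun a : locRing M => (a : ℂ)) = rts := by
    simp [s, Multiset.map_pmap, Multiset.pmap_eq_map]
  have hPs : P = (s.map fun a => X - C a).prod := by
    refine Polynomial.map_injective _ (locRing M).subtype_injective ?_
    rw [Polynomial.map_multiset_prod, Multiset.map_map]
    conv_lhs => rw [hsplit.eq_prod_roots, (hP.map _).leadingCoeff, map_one, one_mul]
    rw [show (P.map (locRing M).subtype).roots = rts from rfl, ← hs, Multiset.map_map]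
    exact congrArg Multiset.prod (Multiset.map_congr rfl fun a _ => by simp)
  refine ⟨((s.filter fun a => res M a ≠ 0).map fun a => X - C a).prod,
    ((s.filter fun a => ¬ res M a ≠ 0).map fun a => X - C a).prod, ?_, ?_, ?_, ?_⟩
  · rw [← Multiset.prod_add, ← Multiset.map_add, Multiset.filter_add_not, ← hPs]
  · have key : ∀ (t : Multiset (locRing M)) (y : (locRing M)[X]),
        (∀ a ∈ t, IsCoprime (X - C a) y) → IsCoprime (t.map fun a => X - C a).prod y := by
      intro t y
      induction t using Multiset.induction_on with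
      | empty => intro _; simp [isCoprime_one_left]
      | cons a t ih =>
        intro h
        rw [Multiset.map_cons, Multiset.prod_cons]
        exact (h a (Multiset.mem_cons_self _ _)).mul_left
          (ih fun b hb => h b (Multiset.mem_cons_of_mem hb))
    refine key _ _ fun a ha => (key _ _ fun b hb => ?_).symm
    refine Polynomial.isCoprime_X_sub_C_of_isUnit_sub ?_
    by_contra hu
    have h0 : res M (b - a) = 0 :=
      IsLocalRing.residue_eq_zero_iff _ |>.2 ((IsLocalRing.mem_maximalIdeal _).2 hu)
    rw [map_sub, not_not.1 (Multiset.mem_filter.1 hb).2, zero_sub, neg_eq_zero] at h0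
    exact (Multiset.mem_filter.1 ha).2 h0
  · rw [Polynomial.map_multiset_prod, eval_multiset_prod, Multiset.map_map, Multiset.map_map]
    refine Multiset.prod_ne_zero ?_
    simp
  · refine ⟨Multiset.card (s.filter fun a => ¬ res M a ≠ 0), ?_⟩
    rw [Polynomial.map_multiset_prod, Multiset.map_map]
    rw [Multiset.map_congr rfl (g := fun _ => (X : (resField M)[X])) fun a ha => by
      simp [not_not.1 (Multiset.mem_filter.1 ha).2]]
    simp [Multiset.map_const']

theorem resG_aeval (x : MonoidAlgebra (locRing M) G) (f : (locRing M)[X]) :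
    resG (aeval x f) = aeval (resG x) (f.map (res M)) := by
  induction f using Polynomial.induction_on with
  | C a =>
    simp only [Polynomial.map_C, aeval_C, Algebra.algebraMap_eq_smul_one, resG_smul, map_one]
  | add f g hf hg => rw [map_add, map_add, Polynomial.map_add, map_add, hf, hg]
  | monomial n a _ =>
    simp only [map_mul, Polynomial.map_mul, Polynomial.map_C, Polynomial.map_pow, Polynomial.map_X,
      aeval_C, map_pow, aeval_X, Algebra.algebraMap_eq_smul_one, smul_mul_assoc, one_mul,
      resG_smul]

/-- A residual idempotent lifts to an idempotent polynomial in any lift. -/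
theorem exists_idem_poly (x : MonoidAlgebra (locRing M) G) (h : resG x * resG x = resG x) :
    ∃ f : (locRing M)[X], aeval x f * aeval x f = aeval x f ∧ resG (aeval x f) = resG x := by
  haveI : Module.Finite (locRing M) (MonoidAlgebra (locRing M) G) :=
    Module.Finite.equiv (MonoidAlgebra.coeffLinearEquiv (locRing M)).symm
  obtain ⟨P, hP, hPx⟩ := IsIntegral.of_finite (locRing M) x
  rw [← aeval_def] at hPx
  obtain ⟨q, r, rfl, hco, hq0, b, hr⟩ := exists_root_split P hP
  obtain ⟨u, v, huv⟩ := id hco
  rcases Nat.eq_zero_or_pos b with hb | hb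
  · refine ⟨1, by simp, ?_⟩
    rw [map_one, map_one]
    have h0 := congrArg resG hPx
    rw [resG_aeval, map_zero, Polynomial.map_mul, hr, hb, pow_zero, mul_one, aeval_idem h] at h0
    have h1 := congrArg (fun y => (1 - resG x) * y) h0
    simp only [mul_add, mul_smul_comm, sub_mul, one_mul, mul_sub, mul_one, h, sub_self,
      smul_zero, sub_zero, zero_add, mul_zero] at h1
    exact (sub_eq_zero.1 ((smul_eq_zero.1 h1).resolve_left hq0))
  · refine ⟨v * r, ?_, ?_⟩
    · rw [← map_mul]
      have e : v * r * (v * r) = v * r - u * v * (q * r) := by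
        linear_combination (v * r) * huv
      rw [e, map_sub, map_mul _ (u * v), hPx, mul_zero, sub_zero]
    · rw [resG_aeval, aeval_idem h]
      have hv0 : ((v * r).map (res M)).eval 0 = 0 := by
        rw [Polynomial.map_mul, hr, eval_mul, eval_pow, eval_X, zero_pow hb.ne', mul_zero]
      rw [hv0, zero_smul, add_zero]
      have h0 := congrArg resG hPx
      rw [resG_aeval, map_zero, aeval_idem h, show ((q * r).map (res M)).eval 0 = 0 by
        rw [Polynomial.map_mul, hr, eval_mul, eval_pow, eval_X, zero_pow hb.ne', mul_zero],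
        zero_smul, add_zero, Polynomial.map_mul, hr, eval_mul, eval_pow, eval_X, one_pow,
        mul_one] at h0
      have h1 := congrArg (fun f => ((f : (locRing M)[X]).map (res M)).eval 1 • resG x) huv
      simp only [Polynomial.map_add, Polynomial.map_mul, eval_add, eval_mul, Polynomial.map_one,
        eval_one, one_smul, add_smul, mul_smul, h0, smul_zero, zero_add] at h1
      rw [Polynomial.map_mul, eval_mul, mul_smul]
      exact h1

/-- An invariant residual idempotent lifts to an invariant idempotent. -/
theorem exists_idem_lift {H : Subgroup G} {ε : MonoidAlgebra (resField M) G}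
    (hε : ε * ε = ε) (hinv : IsInvElt H ε) :
    ∃ e : MonoidAlgebra (locRing M) G, e * e = e ∧ IsInvElt H e ∧ resG e = ε := by
  obtain ⟨x, hx, rfl⟩ := exists_inv_lift hinv
  obtain ⟨f, h1, h2⟩ := exists_idem_poly x hε
  exact ⟨_, h1, isInvElt_aeval hx f, h2⟩

/-- An element reducing to one has a polynomial inverse. -/
theorem exists_inv_poly (w : MonoidAlgebra (locRing M) G) (h : resG w = 1) :
    ∃ f : (locRing M)[X], aeval w f * w = 1 := by
  haveI : Module.Finite (locRing M) (MonoidAlgebra (locRing M) G) :=
    Module.Finite.equiv (MonoidAlgebra.coeffLinearEquiv (locRing M)).symm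
  obtain ⟨P, hP, hPw⟩ := IsIntegral.of_finite (locRing M) w
  rw [← aeval_def] at hPw
  obtain ⟨q, r, rfl, hco, hq0, b, hr⟩ := exists_root_split P hP
  obtain ⟨u, v, huv⟩ := id hco
  have he : aeval w (v * r) = 1 := by
    have hid : aeval w (1 - v * r) * aeval w (1 - v * r) = aeval w (1 - v * r) := by
      rw [← map_mul, show (1 - v * r) * (1 - v * r) = (1 - v * r) - u * v * (q * r) by
        linear_combination (v * r) * huv]
      rw [map_sub _ (1 - v * r), map_mul _ (u * v), hPw, mul_zero, sub_zero]
    have h0 : resG (aeval w (q * r)) = 0 := by rw [hPw, map_zero]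
    have hz : resG (aeval w (1 - v * r)) = 0 := by
      rw [← huv, add_sub_cancel_right, map_mul, map_mul, resG_aeval w q]
      rw [map_mul, map_mul, resG_aeval w q, resG_aeval w r, hr, h, map_pow, aeval_X, one_pow,
        mul_one] at h0
      rw [h, h0, mul_zero]
    have := eq_zero_of_idem hid hz
    rw [map_sub, map_one, sub_eq_zero] at this
    exact this.symm
  have hq : aeval w q = 0 := by
    rw [← one_mul (aeval w q), ← he, ← map_mul, show v * r * q = v * (q * r) by ring, map_mul, hPw,
      mul_zero]
  have hu : IsUnit (q.eval 0) := by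
    by_contra hu
    refine hq0 ?_
    rw [Polynomial.eval_map, ← map_zero (res M), eval₂_hom]
    exact IsLocalRing.residue_eq_zero_iff _ |>.2 ((IsLocalRing.mem_maximalIdeal _).2 hu)
  obtain ⟨c, hc⟩ := hu.exists_left_inv
  refine ⟨-(C c * q.divX), ?_⟩
  have hX : -(C c * q.divX) * X = 1 - C c * q := by
    have h1 : C c * C (q.coeff 0) = 1 := by
      rw [← C_mul, coeff_zero_eq_eval_zero, hc, C_1]
    linear_combination -(C c) * divX_mul_X_add q + h1
  have h2 := congrArg (aeval w) hX
  rw [map_mul, aeval_X, map_sub, map_one, map_mul, hq, mul_zero, sub_zero] at h2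
  exact h2

end Cfsg.Agent.Star
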