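/-
Primitive idempotents of a finite dimensional algebra over an algebraically closed field.
-/
import Cfsg.Agent.Lib.BlockAlg.Corner
import Mathlib.RingTheory.SimpleModule.IsAlgClosed
import Mathlib.RingTheory.Jacobson.Semiprimary
import Mathlib.RingTheory.Artinian.Module
import Mathlib.LinearAlgebra.Matrix.Rank
import Mathlib.LinearAlgebra.Matrix.Charpoly.Coeff
import Mathlib.RingTheory.Nilpotent.Lemmas

set_option linter.unusedSectionVars false
set_option linter.style.haveILetI false

namespace Cfsg.Agent.Star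

open Matrix

variable {k : Type*} [Field k] {A : Type*} [Ring A] [Algebra k A]

/-- A minimal nonzero idempotent. -/
structure IsPrim (j : A) : Prop where
  idem : j * j = j
  ne_zero : j ≠ 0
  min : ∀ x, x * x = x → j * x = x → x * j = x → x = 0 ∨ x = j

/-- A map onto a product of matrix algebras with nil kernel. -/
structure Splitting (k A : Type*) [Field k] [Ring A] [Algebra k A] where
  r : ℕ
  d : Fin r → ℕ
  q : A →ₐ[k] Π i, Matrix (Fin (d i)) (Fin (d i)) k
  surj : Function.Surjective q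
  nil : ∀ x, q x = 0 → IsNilpotent x

theorem nonempty_splitting [IsAlgClosed k] [FiniteDimensional k A] :
    Nonempty (Splitting k A) := by
  haveI : IsArtinianRing A := IsArtinianRing.of_finite k A
  let J : Ideal A := Ring.jacobson A
  haveI : IsSemisimpleRing (A ⧸ J) := IsSemiprimaryRing.isSemisimpleRing
  obtain ⟨r, d, -, ⟨φ⟩⟩ := IsSemisimpleRing.exists_algEquiv_pi_matrix_of_isAlgClosed k (A ⧸ J)
  let q : A →ₐ[k] (Π i, Matrix (Fin (d i)) (Fin (d i)) k) :=
    φ.toAlgHom.comp (Ideal.Quotient.mkₐ k J)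
  refine ⟨⟨r, d, q, φ.surjective.comp (Ideal.Quotient.mkₐ_surjective k J), fun x hx => ?_⟩⟩
  have h0 : Ideal.Quotient.mkₐ k J x = 0 := φ.injective (by rw [map_zero]; exact hx)
  have hJ : x ∈ J := Ideal.Quotient.eq_zero_iff_mem.1 h0
  obtain ⟨n, hn⟩ : IsNilpotent J := IsSemiprimaryRing.isNilpotent
  have hp : ∀ m : ℕ, x ^ (m + 1) ∈ J ^ (m + 1) := fun m => by
    induction m with
    | zero => rwa [zero_add, Submodule.pow_one, pow_one]
    | succ m ih => rw [pow_succ, Submodule.pow_succ]; exact Submodule.mul_mem_mul ih hJ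
  refine ⟨n + 1, ?_⟩
  have h := hp n
  rw [Submodule.pow_succ, hn] at h
  simpa using h

theorem trace_rankOne {n : ℕ} (v f : Fin n → k) (h : f ⬝ᵥ v = 1) :
    (vecMulVec v f).trace = 1 := by
  rw [trace_vecMulVec, dotProduct_comm, h]

theorem rank_rankOne {n : ℕ} (v f : Fin n → k) (h : f ⬝ᵥ v = 1) :
    (vecMulVec v f).rank = 1 := by
  refine le_antisymm (rank_vecMulVec_le _ _) ?_
  rw [Nat.one_le_iff_ne_zero]
  intro h0
  have h1 : vecMulVec v f = 0 := by
    have h2 : LinearMap.range (vecMulVec v f).mulVecLin = ⊥ := Submodule.finrank_eq_zero.1 h0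
    rw [LinearMap.range_eq_bot] at h2
    exact Matrix.ext_of_mulVec_single fun i => by
      rw [← mulVecLin_apply, h2]; simp only [LinearMap.zero_apply, zero_mulVec]
  have := trace_rankOne v f h
  rw [h1, trace_zero] at this
  exact zero_ne_one this

theorem rank_add_of_orth {n : ℕ} {P Q : Matrix (Fin n) (Fin n) k} (hP : P * P = P)
    (hQ : Q * Q = Q) (hPQ : P * Q = 0) (hQP : Q * P = 0) : (P + Q).rank = P.rank + Q.rank := by
  have e1 : ∀ w, (P + Q) *ᵥ (P *ᵥ w) = P *ᵥ w := fun w => by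
    rw [mulVec_mulVec, add_mul, hP, hQP, add_zero]
  have e2 : ∀ w, (P + Q) *ᵥ (Q *ᵥ w) = Q *ᵥ w := fun w => by
    rw [mulVec_mulVec, add_mul, hQ, hPQ, zero_add]
  have hsup : LinearMap.range (P + Q).mulVecLin =
      LinearMap.range P.mulVecLin ⊔ LinearMap.range Q.mulVecLin := by
    refine le_antisymm ?_ (sup_le ?_ ?_)
    · rintro _ ⟨w, rfl⟩
      rw [mulVecLin_apply, add_mulVec]
      exact Submodule.add_mem_sup ⟨w, rfl⟩ ⟨w, rfl⟩
    · rintro _ ⟨w, rfl⟩
      exact ⟨P *ᵥ w, e1 w⟩
    · rintro _ ⟨w, rfl⟩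
      exact ⟨Q *ᵥ w, e2 w⟩
  have hinf : LinearMap.range P.mulVecLin ⊓ LinearMap.range Q.mulVecLin = ⊥ := by
    refine (Submodule.eq_bot_iff _).2 ?_
    rintro _ ⟨⟨w, rfl⟩, ⟨w', hw'⟩⟩
    simp only [mulVecLin_apply] at hw' ⊢
    calc P *ᵥ w = P *ᵥ (P *ᵥ w) := by rw [mulVec_mulVec, hP]
      _ = P *ᵥ (Q *ᵥ w') := by rw [hw']
      _ = 0 := by rw [mulVec_mulVec, hPQ, zero_mulVec]
  have h := Submodule.finrank_sup_add_finrank_inf_eq (LinearMap.range P.mulVecLin)
    (LinearMap.range Q.mulVecLin)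
  rw [hinf, finrank_bot, add_zero, ← hsup] at h
  exact h

namespace Splitting

variable (S : Splitting k A)

theorem idem_eq_zero {e : A} (he : e * e = e) (h : S.q e = 0) : e = 0 := by
  obtain ⟨n, hn⟩ := S.nil e h
  rcases Nat.eq_zero_or_pos n with h0 | h0
  · rw [h0, pow_zero] at hn
    rw [← mul_one e, hn, mul_zero]
  · rwa [IsIdempotentElem.pow_eq he h0.ne'] at hn

/-- The total rank. -/
noncomputable def tot (x : A) : ℕ := ∑ l, (S.q x l).rank

theorem tot_pos {e : A} (he : e * e = e) (h0 : e ≠ 0) : 0 < S.tot e := by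
  refine Nat.pos_of_ne_zero fun h => h0 (S.idem_eq_zero he (funext fun l => ?_))
  have h1 : (S.q e l).rank = 0 := Finset.sum_eq_zero_iff.1 h l (Finset.mem_univ _)
  have h2 : LinearMap.range (S.q e l).mulVecLin = ⊥ := Submodule.finrank_eq_zero.1 h1
  rw [LinearMap.range_eq_bot] at h2
  exact Matrix.ext_of_mulVec_single fun i => by
    rw [← mulVecLin_apply, h2]; simp only [LinearMap.zero_apply, Pi.zero_apply, zero_mulVec]

theorem q_orth {e f : A} (hef : e * f = 0) (l : Fin S.r) : S.q e l * S.q f l = 0 := by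
  rw [← Pi.mul_apply, ← map_mul, hef, map_zero, Pi.zero_apply]

theorem q_idem {e : A} (he : e * e = e) (l : Fin S.r) : S.q e l * S.q e l = S.q e l := by
  rw [← Pi.mul_apply, ← map_mul, he]

theorem rank_q_add {e f : A} (he : e * e = e) (hf : f * f = f) (hef : e * f = 0)
    (hfe : f * e = 0) (l : Fin S.r) :
    (S.q (e + f) l).rank = (S.q e l).rank + (S.q f l).rank := by
  rw [map_add, Pi.add_apply]
  exact rank_add_of_orth (S.q_idem he l) (S.q_idem hf l) (S.q_orth hef l) (S.q_orth hfe l)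

include S in
/-- Every idempotent is an orthogonal sum of minimal ones. -/
theorem exists_decomp (e : A) (he : e * e = e) : ∃ D : Finset A,
    (∀ j ∈ D, IsPrim j ∧ e * j = j ∧ j * e = j) ∧
    (∀ j ∈ D, ∀ j' ∈ D, j ≠ j' → j * j' = 0) ∧ ∑ j ∈ D, j = e := by
  classical
  induction hn : S.tot e using Nat.strong_induction_on generalizing e with
  | _ n ih =>
    by_cases h0 : e = 0
    · exact ⟨∅, by simp, by simp, by simp [h0]⟩
    by_cases hp : IsPrim e
    · refine ⟨{e}, fun j hj => ?_, fun j hj j' hj' h => ?_, Finset.sum_singleton _ _⟩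
      · obtain rfl := Finset.mem_singleton.1 hj
        exact ⟨hp, he, he⟩
      · exact absurd ((Finset.mem_singleton.1 hj).trans (Finset.mem_singleton.1 hj').symm) h
    obtain ⟨x, hx, hex, hxe, hx0, hxne⟩ : ∃ x, x * x = x ∧ e * x = x ∧ x * e = x ∧ x ≠ 0 ∧
        x ≠ e := by
      by_contra hc
      push Not at hc
      exact hp ⟨he, h0, fun x h1 h2 h3 => or_iff_not_imp_left.2 (hc x h1 h2 h3)⟩
    have hy : (e - x) * (e - x) = e - x := by
      rw [sub_mul, mul_sub, mul_sub, he, hex, hxe, hx, sub_self, sub_zero]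
    have hxy : x * (e - x) = 0 := by rw [mul_sub, hxe, hx, sub_self]
    have hyx : (e - x) * x = 0 := by rw [sub_mul, hex, hx, sub_self]
    have htot : S.tot x + S.tot (e - x) = n := by
      rw [← hn, tot, tot, tot, ← Finset.sum_add_distrib]
      refine Finset.sum_congr rfl fun l _ => ?_
      rw [← S.rank_q_add hx hy hxy hyx l, add_sub_cancel]
    have h1 := S.tot_pos hx hx0
    have h2 := S.tot_pos hy (sub_ne_zero.2 (Ne.symm hxne))
    obtain ⟨D1, hD1, hO1, hs1⟩ := ih _ (by omega) x hx rfl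
    obtain ⟨D2, hD2, hO2, hs2⟩ := ih _ (by omega) (e - x) hy rfl
    have hcross : ∀ j ∈ D1, ∀ j' ∈ D2, j * j' = 0 ∧ j' * j = 0 := fun j hj j' hj' => by
      obtain ⟨-, a1, a2⟩ := hD1 j hj
      obtain ⟨-, b1, b2⟩ := hD2 j' hj'
      refine ⟨?_, ?_⟩
      · rw [← a2, ← b1, mul_assoc, ← mul_assoc x, hxy, zero_mul, mul_zero]
      · rw [← b2, ← a1, mul_assoc, ← mul_assoc (e - x), hyx, zero_mul, mul_zero]
    have hdis : Disjoint D1 D2 := Finset.disjoint_left.2 fun j hj hj' => by
      have := (hcross j hj j hj').1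
      rw [(hD1 j hj).1.idem] at this
      exact (hD1 j hj).1.ne_zero this
    refine ⟨D1 ∪ D2, fun j hj => ?_, fun j hj j' hj' hne => ?_, ?_⟩
    · rcases Finset.mem_union.1 hj with h | h
      · obtain ⟨a, b, c⟩ := hD1 j h
        exact ⟨a, by rw [← b, ← mul_assoc, hex], by rw [← c, mul_assoc, hxe]⟩
      · obtain ⟨a, b, c⟩ := hD2 j h
        refine ⟨a, ?_, ?_⟩
        · rw [← b, ← mul_assoc, mul_sub, he, hex]
        · rw [← c, mul_assoc, sub_mul, he, hxe]
    · rcases Finset.mem_union.1 hj with h | h <;> rcases Finset.mem_union.1 hj' with h' | h'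
      · exact hO1 j h j' h' hne
      · exact (hcross j h j' h').1
      · exact (hcross j' h' j h).2
      · exact hO2 j h j' h' hne
    · rw [Finset.sum_union hdis, hs1, hs2, add_sub_cancel]

/-- The image of a minimal idempotent. -/
theorem prim_image {j : A} (hj : IsPrim j) : ∃ (l : Fin S.r) (v f : Fin (S.d l) → k),
    f ⬝ᵥ v = 1 ∧ S.q j = Pi.single l (vecMulVec v f) := by
  classical
  obtain ⟨l, hl⟩ : ∃ l, S.q j l ≠ 0 := by
    by_contra hc
    push Not at hc
    exact hj.ne_zero (S.idem_eq_zero hj.idem (funext hc))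
  obtain ⟨b, a, hba⟩ : ∃ b a, S.q j l b a ≠ 0 := by
    by_contra hc
    push Not at hc
    exact hl (Matrix.ext hc)
  set P := S.q j l with hPdef
  have hP : P * P = P := S.q_idem hj.idem l
  let v : Fin (S.d l) → k := fun i => P i a
  let f : Fin (S.d l) → k := fun i => (P b a)⁻¹ * P b i
  have hfv : f ⬝ᵥ v = 1 := by
    have h := congrFun (congrFun hP b) a
    simp only [Matrix.mul_apply] at h
    simp only [dotProduct, f, v, mul_assoc, ← Finset.mul_sum, h]
    exact inv_mul_cancel₀ hba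
  set E := vecMulVec v f with hE
  have hEE : E * E = E := by
    rw [hE, vecMulVec_mul_vecMulVec, hfv, one_smul]
  have hPE : P * E = E := by
    rw [hE, mul_vecMulVec]
    congr 1
    funext i
    exact congrFun (congrFun hP i) a
  have hEP : E * P = E := by
    rw [hE, vecMulVec_mul]
    congr 1
    funext i
    have h := congrFun (congrFun hP b) i
    simp only [Matrix.mul_apply] at h
    simp only [vecMul, dotProduct, f, mul_assoc, ← Finset.mul_sum, h]
  obtain ⟨y, hy⟩ := S.surj (Pi.single l E)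
  set z := j * y * j with hz
  have hqz : S.q z = Pi.single l E := by
    funext i
    rw [hz, map_mul, map_mul, hy]
    simp only [Pi.mul_apply]
    by_cases hi : i = l
    · subst hi; rw [Pi.single_eq_same, ← hPdef, hPE, hEP]
    · rw [Pi.single_eq_of_ne hi, mul_zero, zero_mul]
  have hEs : (Pi.single l E : Π i, Matrix (Fin (S.d i)) (Fin (S.d i)) k) * Pi.single l E =
      Pi.single l E := by
    rw [← Pi.single_mul, hEE]
  obtain ⟨n, hn, hid⟩ := BlockAlg.exists_idem_lift (y := z) (S.nil _ (by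
    rw [map_sub, map_mul, hqz, hEs, sub_self]))
  set e₀ := 1 - (1 - z ^ n) ^ n with he₀
  have hqe : S.q e₀ = Pi.single l E := by
    have h1 := IsIdempotentElem.pow_eq (show IsIdempotentElem _ from hEs) hn.ne'
    have h2 := IsIdempotentElem.pow_eq (IsIdempotentElem.one_sub (show IsIdempotentElem _ from hEs))
      hn.ne'
    rw [he₀, map_sub, map_one, map_pow, map_sub, map_one, map_pow, hqz, h1, h2, sub_sub_cancel]
  have hjz : j * z = z := by rw [hz, ← mul_assoc, ← mul_assoc, hj.idem]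
  have hzj : z * j = z := by rw [hz, mul_assoc (j * y), hj.idem]
  have hc : Commute j e₀ := by
    have hcz : Commute j z := hjz.trans hzj.symm
    exact (Commute.one_right j).sub_right
      (((Commute.one_right j).sub_right (hcz.pow_right n)).pow_right n)
  have hid' : j * e₀ * (j * e₀) = j * e₀ := by
    rw [mul_assoc, ← mul_assoc e₀, ← hc.eq, mul_assoc j e₀, hid, ← mul_assoc, hj.idem]
  have hqje : S.q (j * e₀) = Pi.single l E := by
    funext i
    rw [map_mul, hqe, Pi.mul_apply]
    by_cases hi : i = l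
    · subst hi; rw [Pi.single_eq_same, ← hPdef, hPE]
    · rw [Pi.single_eq_of_ne hi, mul_zero]
  rcases hj.min _ hid' (by rw [← mul_assoc, hj.idem])
    (by rw [hc.eq, mul_assoc, hj.idem]) with h | h
  · exfalso
    rw [h, map_zero] at hqje
    have hE0 : E = 0 := by
      have := congrFun hqje l
      rw [Pi.single_eq_same] at this
      exact this.symm
    have := trace_rankOne v f hfv
    rw [← hE, hE0, trace_zero] at this
    exact zero_ne_one this
  · exact ⟨l, v, f, hfv, by rw [← hqje, h]⟩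

/-- The component of a minimal idempotent. -/
noncomputable def cl {j : A} (hj : IsPrim j) : Fin S.r := (S.prim_image hj).choose

theorem cl_spec {j : A} (hj : IsPrim j) : ∃ v f : Fin (S.d (S.cl hj)) → k,
    f ⬝ᵥ v = 1 ∧ S.q j = Pi.single (S.cl hj) (vecMulVec v f) :=
  (S.prim_image hj).choose_spec

theorem q_ne_zero_iff {j : A} (hj : IsPrim j) (l : Fin S.r) : S.q j l ≠ 0 ↔ l = S.cl hj := by
  obtain ⟨v, f, hfv, hq⟩ := S.cl_spec hj
  constructor
  · intro h
    by_contra hl
    exact h (by rw [hq, Pi.single_eq_of_ne hl])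
  · rintro rfl h
    rw [hq, Pi.single_eq_same] at h
    have := trace_rankOne v f hfv
    rw [h, trace_zero] at this
    exact zero_ne_one this

theorem rank_q_prim {j : A} (hj : IsPrim j) (l : Fin S.r) :
    (S.q j l).rank = if S.cl hj = l then 1 else 0 := by
  obtain ⟨v, f, hfv, hq⟩ := S.cl_spec hj
  split_ifs with h
  · subst h
    rw [hq, Pi.single_eq_same, rank_rankOne v f hfv]
  · rw [hq, Pi.single_eq_of_ne (Ne.symm h), rank_zero]

theorem trace_q_prim {j : A} (hj : IsPrim j) (l : Fin S.r) :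
    (S.q j l).trace = if S.cl hj = l then 1 else 0 := by
  obtain ⟨v, f, hfv, hq⟩ := S.cl_spec hj
  split_ifs with h
  · subst h
    rw [hq, Pi.single_eq_same, trace_rankOne v f hfv]
  · rw [hq, Pi.single_eq_of_ne (Ne.symm h), trace_zero]

include S in
/-- The corner of a minimal idempotent is local. -/
theorem corner_scalar {j : A} (hj : IsPrim j) (y : A) :
    ∃ c : k, IsNilpotent (j * y * j - c • j) := by
  obtain ⟨v, f, hfv, hq⟩ := S.cl_spec hj
  refine ⟨(f ᵥ* S.q y (S.cl hj)) ⬝ᵥ v, S.nil _ (funext fun i => ?_)⟩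
  rw [map_sub, map_mul, map_mul, map_smul, hq]
  simp only [Pi.sub_apply, Pi.mul_apply, Pi.smul_apply, Pi.zero_apply]
  by_cases hi : i = S.cl hj
  · subst hi
    rw [Pi.single_eq_same, vecMulVec_mul, vecMulVec_mul_vecMulVec, vecMulVec_smul, sub_self]
  · rw [Pi.single_eq_of_ne hi, zero_mul, zero_mul, smul_zero, sub_zero]

end Splitting

/-- An element of a corner that is a unit modulo nilpotents is invertible there. -/
theorem exists_corner_inv {j z : A} (hj : j * j = j) (h1 : j * z = z) (h2 : z * j = z) {c : k}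
    (hc : c ≠ 0) (h : IsNilpotent (z - c • j)) :
    ∃ w, j * w = w ∧ w * j = w ∧ z * w = j ∧ w * z = j := by
  set ν := c⁻¹ • z - j with hν
  have hνn : IsNilpotent ν := by
    have : ν = c⁻¹ • (z - c • j) := by rw [hν, smul_sub, inv_smul_smul₀ hc]
    rw [this]; exact h.smul _
  obtain ⟨u, hu⟩ := hνn.isUnit_one_add
  have hjν : j * ν = ν := by rw [hν, mul_sub, mul_smul_comm, h1, hj]
  have hνj : ν * j = ν := by rw [hν, sub_mul, smul_mul_assoc, h2, hj]
  have hcu : Commute j (u : A) := by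
    rw [hu]; exact (Commute.one_right j).add_right (hjν.trans hνj.symm)
  have hcui : Commute j (↑u⁻¹ : A) := hcu.units_inv_right
  have hz : z = c • (j * u) := by
    rw [hu, mul_add, mul_one, hjν, hν, add_sub_cancel, smul_inv_smul₀ hc]
  refine ⟨c⁻¹ • (j * ↑u⁻¹), ?_, ?_, ?_, ?_⟩
  · rw [mul_smul_comm, ← mul_assoc, hj]
  · rw [smul_mul_assoc, hcui.eq, mul_assoc, hj]
  · rw [hz, smul_mul_smul_comm, mul_inv_cancel₀ hc, one_smul, hcu.eq, mul_assoc, ← mul_assoc j, hj,
      hcui.eq, Units.mul_inv_cancel_left]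
  · rw [hz, smul_mul_smul_comm, inv_mul_cancel₀ hc, one_smul, hcui.eq, mul_assoc, ← mul_assoc j,
      hj, hcu.eq, Units.inv_mul_cancel_left]

namespace Splitting

variable (S : Splitting k A)

/-- Minimal idempotents in the same component are equivalent. -/
theorem equiv_of_cl {j j' : A} (hj : IsPrim j) (hj' : IsPrim j') (h : S.cl hj = S.cl hj') :
    ∃ x y, j * x * j' = x ∧ j' * y * j = y ∧ x * y = j ∧ y * x = j' := by
  obtain ⟨v, f, hfv, hq⟩ := S.cl_spec hj
  obtain ⟨v', f', hfv', hq'⟩ := S.cl_spec hj'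
  revert v' f' hfv' hq'
  rw [← h]
  intro v' f' hfv' hq'
  obtain ⟨X, hX⟩ := S.surj (Pi.single (S.cl hj) (vecMulVec v f'))
  obtain ⟨Y, hY⟩ := S.surj (Pi.single (S.cl hj) (vecMulVec v' f))
  set x := j * X * j' with hx
  set y₀ := j' * Y * j with hy₀
  have e1 : j * x * j' = x := by
    rw [hx, show j * (j * X * j') * j' = j * j * X * (j' * j') by simp only [mul_assoc], hj.idem,
      hj'.idem]
  have e1' : j * x = x := by rw [hx, ← mul_assoc, ← mul_assoc, hj.idem]
  have e2 : y₀ * j = y₀ := by rw [hy₀, mul_assoc, hj.idem]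
  have e3 : j' * y₀ = y₀ := by rw [hy₀, ← mul_assoc, ← mul_assoc, hj'.idem]
  have hqxy : S.q (x * y₀ - (1 : k) • j) = 0 := by
    funext i
    rw [map_sub, map_smul, hx, hy₀]
    simp only [map_mul, hX, hY, hq, hq', Pi.sub_apply, Pi.mul_apply, Pi.smul_apply, Pi.zero_apply,
      one_smul]
    by_cases hi : i = S.cl hj
    · subst hi
      simp only [Pi.single_eq_same, vecMulVec_mul_vecMulVec, hfv, hfv', one_smul, sub_self]
    · simp [Pi.single_eq_of_ne hi]
  obtain ⟨w, hw1, hw2, hw3, -⟩ := exists_corner_inv (z := x * y₀) hj.idem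
    (by rw [← mul_assoc, e1']) (by rw [mul_assoc, e2]) one_ne_zero (S.nil _ hqxy)
  refine ⟨x, y₀ * w, e1, ?_, by rw [← mul_assoc, hw3], ?_⟩
  · rw [← mul_assoc, e3, mul_assoc, hw2]
  · have hxy : x * (y₀ * w) = j := by rw [← mul_assoc, hw3]
    have e4 : x * j' = x := by rw [hx, mul_assoc, hj'.idem]
    refine (hj'.min _ ?_ ?_ ?_).resolve_left fun h0 => ?_
    · rw [mul_assoc (y₀ * w) x, ← mul_assoc x, hxy, e1']
    · rw [← mul_assoc j' (y₀ * w) x, ← mul_assoc j' y₀ w, e3]
    · rw [mul_assoc (y₀ * w), e4]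
    · refine hj.ne_zero ?_
      calc j = x * (y₀ * w) * (x * (y₀ * w)) := by rw [hxy, hj.idem]
        _ = x * (y₀ * w * x) * (y₀ * w) := by simp only [mul_assoc]
        _ = 0 := by rw [h0, mul_zero, zero_mul]

/-- Equivalent minimal idempotents have the same component. -/
theorem cl_of_equiv {j j' x y : A} (hj : IsPrim j) (hj' : IsPrim j') (h1 : x * y = j)
    (h2 : y * x = j') : S.cl hj = S.cl hj' := by
  refine (S.q_ne_zero_iff hj' _).1 fun h => ?_
  refine (S.q_ne_zero_iff hj _).2 rfl ?_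
  have hje : j = x * j' * y := by rw [← h2, ← mul_assoc, h1, mul_assoc, h1, hj.idem]
  rw [congrArg S.q hje, map_mul, map_mul, Pi.mul_apply, Pi.mul_apply, h, mul_zero, zero_mul]

/-- The number of summands in each component. -/
theorem rank_q_sum {e : A} (D : Finset A) (hD : ∀ j ∈ D, IsPrim j)
    (hO : ∀ j ∈ D, ∀ j' ∈ D, j ≠ j' → j * j' = 0) (hs : ∑ j ∈ D, j = e) (l : Fin S.r) :
    (S.q e l).rank = ∑ j ∈ D, (S.q j l).rank := by
  classical
  subst hs
  induction D using Finset.induction_on with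
  | empty => simp
  | @insert a D ha ih =>
    have hD' : ∀ j ∈ D, IsPrim j := fun j hj => hD j (Finset.mem_insert_of_mem hj)
    have hO' : ∀ j ∈ D, ∀ j' ∈ D, j ≠ j' → j * j' = 0 := fun j hj j' hj' =>
      hO j (Finset.mem_insert_of_mem hj) j' (Finset.mem_insert_of_mem hj')
    have hsum : (∑ j ∈ D, j) * (∑ j ∈ D, j) = ∑ j ∈ D, j := by
      rw [Finset.sum_mul_sum]
      refine Finset.sum_congr rfl fun j hj => ?_
      rw [Finset.sum_eq_single j (fun j' hj' h => hO' j hj j' hj' (Ne.symm h))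
        (fun h => absurd hj h), (hD' j hj).idem]
    rw [Finset.sum_insert ha, Finset.sum_insert ha, ← ih hD' hO']
    refine S.rank_q_add (hD a (Finset.mem_insert_self _ _)).idem hsum ?_ ?_ l
    · rw [Finset.mul_sum]
      exact Finset.sum_eq_zero fun j hj => hO a (Finset.mem_insert_self _ _) j
        (Finset.mem_insert_of_mem hj) fun h => ha (h ▸ hj)
    · rw [Finset.sum_mul]
      exact Finset.sum_eq_zero fun j hj => hO j (Finset.mem_insert_of_mem hj) a
        (Finset.mem_insert_self _ _) fun h => ha (h ▸ hj)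

end Splitting

theorem isPrim_equiv {B : Type*} [Ring B] [Algebra k B] (σ : A ≃ₐ[k] B) {j : A} (hj : IsPrim j) :
    IsPrim (σ j) := by
  refine ⟨by rw [← map_mul, hj.idem], fun h => hj.ne_zero (σ.injective (by rw [h, map_zero])),
    fun x h1 h2 h3 => ?_⟩
  rcases hj.min (σ.symm x) (by rw [← map_mul, h1])
    (σ.injective (by rw [map_mul, σ.apply_symm_apply, h2]))
    (σ.injective (by rw [map_mul, σ.apply_symm_apply, h3])) with h | h
  · left; rw [← σ.apply_symm_apply x, h, map_zero]
  · right; rw [← σ.apply_symm_apply x, h]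

theorem sum_range_orbit {ι M : Type*} [Fintype ι] [DecidableEq ι] [LinearOrder ι] [AddCommMonoid M]
    {p : ℕ} (hp : p.Prime) (π : Equiv.Perm ι) (hπ : π ^ p = 1) (n : ι → ℕ)
    (hn : ∀ l, n (π l) = n l) (hfix : ∀ l, π l = l → p ∣ n l) (g : ι → M) :
    ∃ w : ι → ℕ, (∀ l, w l ≠ 0 → n l ≠ 0) ∧
      ∑ l, n l • g l = ∑ l, w l • ∑ m ∈ Finset.range p, g ((π ^ m) l) := by
  classical
  have hfree : ∀ {l}, π l ≠ l → ∀ a < p, ∀ b < p, (π ^ a) l = (π ^ b) l → a = b := by
    intro l hl a ha b hb hab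
    by_contra hne
    wlog hlt : a < b generalizing a b
    · exact this b hb a ha hab.symm (Ne.symm hne) (by omega)
    have h1 : (π ^ (b - a)) l = l := by
      refine (π ^ a).injective ?_
      rw [← Equiv.Perm.mul_apply, ← pow_add, Nat.add_sub_cancel' hlt.le, hab]
    refine hl ?_
    have hdvd : ∀ t : ℕ, (π ^ ((b - a) * t)) l = l := fun t => by
      rw [pow_mul]
      induction t with
      | zero => rfl
      | succ t ih => rw [pow_succ, Equiv.Perm.mul_apply, h1, ih]
    obtain ⟨t, ht⟩ := Nat.exists_mul_mod_eq_one_of_coprime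
      (show (b - a).Coprime p from ((hp.coprime_iff_not_dvd).2 fun h =>
        absurd (Nat.le_of_dvd (by omega) h) (by omega)).symm) hp.one_lt
    have := hdvd t
    rw [← Nat.div_add_mod ((b - a) * t) p, pow_add, pow_mul, hπ, one_pow, one_mul, ht.2,
      pow_one] at this
    exact this
  have hnp : ∀ (m : ℕ) l, n ((π ^ m) l) = n l := fun m l => by
    induction m with
    | zero => rfl
    | succ m ih => rw [pow_succ', Equiv.Perm.mul_apply, hn, ih]
  have hmodp : ∀ (m : ℕ) l, (π ^ m) l = (π ^ (m % p)) l := fun m l => by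
    conv_lhs => rw [← Nat.div_add_mod m p, pow_add, pow_mul, hπ, one_pow, one_mul]
  let O : Finset ι := Finset.univ.filter fun l => π l ≠ l ∧ ∀ m, l ≤ (π ^ m) l
  have hmov : ∀ (m : ℕ) l, π l ≠ l → π ((π ^ m) l) ≠ (π ^ m) l := fun m l hl h => hl
    ((π ^ m).injective (by rw [← Equiv.Perm.mul_apply, ← pow_succ, pow_succ',
      Equiv.Perm.mul_apply, h]))
  refine ⟨fun l => if π l = l then n l / p else if l ∈ O then n l else 0, fun l hw h0 => ?_, ?_⟩
  · apply hw
    simp [h0]
  have hsum : ∑ l ∈ Finset.univ.filter (fun l => ¬ π l = l), n l • g l =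
      ∑ l ∈ O, n l • ∑ m ∈ Finset.range p, g ((π ^ m) l) := by
    simp only [Finset.smul_sum]
    rw [← Finset.sum_product']
    refine (Finset.sum_bij (fun q _ => (π ^ q.2) q.1) ?_ ?_ ?_ ?_).symm
    · rintro ⟨l, m⟩ hq
      obtain ⟨hl, -⟩ := Finset.mem_product.1 hq
      exact Finset.mem_filter.2 ⟨Finset.mem_univ _, hmov m l (Finset.mem_filter.1 hl).2.1⟩
    · rintro ⟨l, m⟩ hq ⟨l', m'⟩ hq' he
      obtain ⟨hl, hm⟩ := Finset.mem_product.1 hq
      obtain ⟨hl', hm'⟩ := Finset.mem_product.1 hq'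
      rw [Finset.mem_range] at hm hm'
      have key : ∀ (a b : ι) (x y : ℕ), x < p → (π ^ x) a = (π ^ y) b →
          a = (π ^ (p - x + y)) b := fun a b x y hx h => by
        rw [pow_add, Equiv.Perm.mul_apply, ← h, ← Equiv.Perm.mul_apply, ← pow_add,
          Nat.sub_add_cancel hx.le, hπ, Equiv.Perm.one_apply]
      have hle : l ≤ l' := by
        rw [key l' l m' m hm' he.symm]
        exact (Finset.mem_filter.1 hl).2.2 _
      have hge : l' ≤ l := by
        rw [key l l' m m' hm he]
        exact (Finset.mem_filter.1 hl').2.2 _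
      obtain rfl : l = l' := le_antisymm hle hge
      obtain rfl := hfree (Finset.mem_filter.1 hl).2.1 m hm m' hm' he
      rfl
    · intro l hl
      have hl' := (Finset.mem_filter.1 hl).2
      obtain ⟨m₀, -, hmin⟩ := Finset.exists_min_image (Finset.range p) (fun m => (π ^ m) l)
        ⟨0, Finset.mem_range.2 hp.pos⟩
      refine ⟨((π ^ m₀) l, (p - m₀ % p) % p), Finset.mem_product.2
        ⟨Finset.mem_filter.2 ⟨Finset.mem_univ _, hmov m₀ l hl', fun m => ?_⟩,
          Finset.mem_range.2 (Nat.mod_lt _ hp.pos)⟩, ?_⟩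
      · rw [← Equiv.Perm.mul_apply, ← pow_add, hmodp (m + m₀)]
        exact hmin _ (Finset.mem_range.2 (Nat.mod_lt _ hp.pos))
      · rw [← hmodp, hmodp m₀, ← Equiv.Perm.mul_apply, ← pow_add,
          Nat.sub_add_cancel (Nat.mod_lt _ hp.pos).le, hπ, Equiv.Perm.one_apply]
    · rintro ⟨l, m⟩ -
      rw [hnp]
  rw [← Finset.sum_filter_add_sum_filter_not Finset.univ (fun l => π l = l) (fun l => n l • g l),
    hsum, ← Finset.sum_filter_add_sum_filter_not Finset.univ (fun l => π l = l)
      (fun l => _ • ∑ m ∈ Finset.range p, g ((π ^ m) l))]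
  congr 1
  · refine Finset.sum_congr rfl fun l hl => ?_
    have hfl := (Finset.mem_filter.1 hl).2
    rw [if_pos hfl, Finset.sum_congr rfl fun m _ => show g ((π ^ m) l) = g l by
      rw [Equiv.Perm.pow_apply_eq_self_of_apply_eq_self hfl],
      Finset.sum_const, Finset.card_range, ← mul_nsmul', Nat.div_mul_cancel (hfix l hfl)]
  · have hE : ∀ l ∈ Finset.univ.filter (fun l => ¬ π l = l),
        (if π l = l then n l / p else if l ∈ O then n l else 0) •
          ∑ m ∈ Finset.range p, g ((π ^ m) l) =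
        if l ∈ O then n l • ∑ m ∈ Finset.range p, g ((π ^ m) l) else 0 := fun l hl => by
      rw [if_neg (Finset.mem_filter.1 hl).2, ite_smul, zero_smul]
    rw [Finset.sum_congr rfl hE, Finset.sum_ite_mem, Finset.inter_eq_right.2 fun l hl =>
      Finset.mem_filter.2 ⟨Finset.mem_univ _, (Finset.mem_filter.1 hl).2.1⟩]

/-- A functional that sees only the components of minimal idempotents takes, on a relative
trace, values that are sums over the conjugates. -/
theorem exists_weights [IsAlgClosed k] [FiniteDimensional k A] {p : ℕ} (hp : p.Prime) [CharP k p]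
    (σ : A ≃ₐ[k] A) (hσp : ∀ x, (σ ^ p) x = x) {e a : A} (he : e * e = e) (hσe : σ e = e)
    (ha : e * a * e = a) (hsum : ∑ m ∈ Finset.range p, (σ ^ m) a = e) {M : Type*}
    [AddCommMonoid M] (H : A → M)
    (hH : ∀ (D : Finset A), (∀ j ∈ D, j * j = j) → (∀ j ∈ D, ∀ j' ∈ D, j ≠ j' → j * j' = 0) →
      H (∑ j ∈ D, j) = ∑ j ∈ D, H j)
    (hE : ∀ j j' x y, IsPrim j → IsPrim j' → j * x * j' = x → j' * y * j = y → x * y = j →
      y * x = j' → H j = H j') :
    ∃ w : A →₀ ℕ, (∀ j ∈ w.support, IsPrim j ∧ e * j = j) ∧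
      H e = w.sum fun j n => n • ∑ m ∈ Finset.range p, H ((σ ^ m) j) := by
  classical
  obtain ⟨S⟩ := nonempty_splitting (k := k) (A := A)
  obtain ⟨D, hD, hO, hs⟩ := S.exists_decomp e he
  let ι := {l : Fin S.r // ∃ (j : A) (hj : IsPrim j), j ∈ D ∧ S.cl hj = l}
  choose rep hrepP hrepD hrepcl using fun l : ι => l.2
  let n : ι → ℕ := fun l => (S.q e l.1).rank
  have hnl : ∀ l : Fin S.r, (S.q e l).rank =
      (D.filter fun j => ∃ hj : IsPrim j, S.cl hj = l).card := by
    intro l
    rw [S.rank_q_sum D (fun j hj => (hD j hj).1) hO hs, Finset.card_filter]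
    refine Finset.sum_congr rfl fun j hj => ?_
    rw [S.rank_q_prim (hD j hj).1]
    exact if_congr ⟨fun h => ⟨_, h⟩, fun ⟨_, h⟩ => h⟩ rfl rfl
  have hrep : ∀ (j : A) (hj : IsPrim j) (l : ι), S.cl hj = l.1 → H j = H (rep l) := by
    intro j hj l hl
    obtain ⟨x, y, h1, h2, h3, h4⟩ := S.equiv_of_cl hj (hrepP l) (hl.trans (hrepcl l).symm)
    exact hE _ _ x y hj (hrepP l) h1 h2 h3 h4
  have hHe : H e = ∑ l : ι, n l • H (rep l) := by
    let g : {j // j ∈ D} → ι := fun j => ⟨S.cl (hD j j.2).1, j, (hD j j.2).1, j.2, rfl⟩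
    rw [← hs, hH D (fun j hj => (hD j hj).1.idem) hO]
    refine ((Finset.sum_coe_sort D (fun j => H j)).symm.trans ((Finset.sum_congr rfl fun (j : {j // j ∈ D}) _ =>
      hrep j (hD j j.2).1 (g j) rfl).trans
      ((Finset.sum_fiberwise' Finset.univ g (fun l => H (rep l))).symm.trans ?_)))
    · refine Finset.sum_congr rfl fun l _ => ?_
      simp only [Finset.sum_const, n, hnl l.1]
      congr 1
      refine Finset.card_bij (fun j _ => (j : A)) (fun j hj => ?_) (fun a _ b _ h => Subtype.ext h)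
        (fun j hj => ?_)
      · exact Finset.mem_filter.2 ⟨j.2, (hD j j.2).1, congrArg Subtype.val (Finset.mem_filter.1 hj).2⟩
      · obtain ⟨hjD, hjP, hjl⟩ := Finset.mem_filter.1 hj
        exact ⟨⟨j, hjD⟩, Finset.mem_filter.2 ⟨Finset.mem_univ _, Subtype.ext hjl⟩, rfl⟩
  have hσcl : ∀ (j j' : A) (hj : IsPrim j) (hj' : IsPrim j'), S.cl hj = S.cl hj' →
      S.cl (isPrim_equiv σ hj) = S.cl (isPrim_equiv σ hj') := by
    intro j j' hj hj' h
    obtain ⟨x, y, -, -, h3, h4⟩ := S.equiv_of_cl hj hj' h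
    exact S.cl_of_equiv _ _ (x := σ x) (y := σ y) (by rw [← map_mul, h3]) (by rw [← map_mul, h4])
  have hσrank : ∀ (j : A) (hj : IsPrim j), j ∈ D →
      (S.q e (S.cl (isPrim_equiv σ hj))).rank = (S.q e (S.cl hj)).rank := by
    intro j hj hjD
    have hsσ : ∑ i ∈ D.image σ, i = e := by
      rw [Finset.sum_image fun a _ b _ h => σ.injective h, ← map_sum, hs, hσe]
    rw [S.rank_q_sum (D.image σ) ?_ ?_ hsσ, hnl, Finset.sum_image fun a _ b _ h => σ.injective h,
      Finset.card_filter]
    · refine Finset.sum_congr rfl fun i hi => ?_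
      rw [S.rank_q_prim (isPrim_equiv σ (hD i hi).1)]
      refine if_congr ⟨fun h => ⟨(hD i hi).1, ?_⟩, fun ⟨hi', h⟩ => hσcl i j hi' hj h⟩ rfl rfl
      obtain ⟨x, y, -, -, h3, h4⟩ := S.equiv_of_cl (isPrim_equiv σ (hD i hi).1)
        (isPrim_equiv σ hj) h
      exact S.cl_of_equiv _ _ (x := σ.symm x) (y := σ.symm y)
        (σ.injective (by rw [map_mul, σ.apply_symm_apply, σ.apply_symm_apply, h3]))
        (σ.injective (by rw [map_mul, σ.apply_symm_apply, σ.apply_symm_apply, h4]))
    · intro i hi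
      obtain ⟨i', hi', rfl⟩ := Finset.mem_image.1 hi
      exact isPrim_equiv σ (hD i' hi').1
    · intro i hi i' hi' hne
      obtain ⟨a1, ha1, rfl⟩ := Finset.mem_image.1 hi
      obtain ⟨a2, ha2, rfl⟩ := Finset.mem_image.1 hi'
      rw [← map_mul, hO a1 ha1 a2 ha2 fun h => hne (by rw [h]), map_zero]
  have hex : ∀ l : ι, ∃ (j : A) (hj : IsPrim j), j ∈ D ∧
      S.cl hj = S.cl (isPrim_equiv σ (hrepP l)) := by
    intro l
    have h1 := hσrank _ (hrepP l) (hrepD l)
    rw [hnl, hnl] at h1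
    have hpos : 0 < (D.filter fun j => ∃ hj : IsPrim j, S.cl hj = S.cl (hrepP l)).card :=
      Finset.card_pos.2 ⟨rep l, Finset.mem_filter.2 ⟨hrepD l, hrepP l, rfl⟩⟩
    rw [← h1] at hpos
    obtain ⟨j, hj⟩ := Finset.card_pos.1 hpos
    obtain ⟨hjD, hjP, hjl⟩ := Finset.mem_filter.1 hj
    exact ⟨j, hjP, hjD, hjl⟩
  let π₀ : ι → ι := fun l => ⟨S.cl (isPrim_equiv σ (hrepP l)), hex l⟩
  have hiter : ∀ (m : ℕ) (l : ι) (hP : IsPrim ((σ ^ m) (rep l))),
      S.cl hP = (π₀^[m] l).1 := by
    intro m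
    induction m with
    | zero => intro l hP; exact hrepcl l
    | succ m ih =>
      intro l hP
      have hP' : IsPrim ((σ ^ m) (rep l)) := isPrim_equiv (σ ^ m) (hrepP l)
      have h1 : S.cl hP = S.cl (isPrim_equiv σ hP') := by
        congr 1
        rw [pow_succ', AlgEquiv.mul_apply]
      rw [h1, hσcl _ _ hP' (hrepP (π₀^[m] l)) ((ih l hP').trans (hrepcl _).symm),
        Function.iterate_succ_apply']
  have hper : ∀ l : ι, π₀^[p] l = l := fun l => by
    refine Subtype.ext ?_
    rw [← hiter p l (by rw [hσp]; exact hrepP l)]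
    exact (show S.cl _ = S.cl (hrepP l) by congr 1; rw [hσp]).trans (hrepcl l)
  let π : Equiv.Perm ι :=
    { toFun := π₀
      invFun := π₀^[p - 1]
      left_inv := fun l => by
        rw [← Function.iterate_succ_apply, Nat.succ_eq_add_one, Nat.sub_add_cancel hp.pos, hper]
      right_inv := fun l => by
        rw [← Function.iterate_succ_apply' π₀, Nat.succ_eq_add_one, Nat.sub_add_cancel hp.pos,
          hper] }
  have hπpow : ∀ m l, (π ^ m) l = π₀^[m] l := fun m l => by
    rw [← Equiv.Perm.iterate_eq_pow]; rfl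
  have hnπ : ∀ l, n (π l) = n l := fun l => by
    show (S.q e (S.cl (isPrim_equiv σ (hrepP l)))).rank = (S.q e l.1).rank
    rw [hσrank _ (hrepP l) (hrepD l), hrepcl]
  have hfix : ∀ l, π l = l → p ∣ n l := by
    intro l hl
    have hl' : S.cl (isPrim_equiv σ (hrepP l)) = l.1 := congrArg Subtype.val hl
    have htrσ : ∀ b, e * b * e = b → (S.q (σ b) l.1).trace = (S.q b l.1).trace := by
      intro b hb
      have hb' : b = ∑ j ∈ D, ∑ j' ∈ D, j * b * j' := by
        conv_lhs => rw [← hb, ← hs, Finset.sum_mul, Finset.sum_mul]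
        exact Finset.sum_congr rfl fun j _ => Finset.mul_sum _ _ _
      have hterm : ∀ j ∈ D, ∀ j' ∈ D, (S.q (σ (j * b * j')) l.1).trace =
          (S.q (j * b * j') l.1).trace := by
        intro j hj j' hj'
        by_cases hjj : j = j'
        · subst hjj
          have hjP := (hD j hj).1
          obtain ⟨c, hc⟩ := S.corner_scalar hjP b
          have htrn : ∀ z : A, IsNilpotent z → (S.q z l.1).trace = 0 := fun z hz =>
            (Matrix.isNilpotent_trace_of_isNilpotent
              ((hz.map S.q).map (Pi.evalAlgHom k _ l.1))).eq_zero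
          have e1 := htrn _ hc
          have e2 := htrn _ (hc.map σ)
          rw [map_sub, map_smul, Pi.sub_apply, Pi.smul_apply, trace_sub, trace_smul,
            sub_eq_zero] at e1
          rw [map_sub σ, map_smul σ, map_sub S.q, map_smul S.q, Pi.sub_apply, Pi.smul_apply,
            trace_sub, trace_smul, sub_eq_zero] at e2
          rw [e1, e2, S.trace_q_prim (isPrim_equiv σ hjP), S.trace_q_prim hjP]
          congr 1
          refine if_congr ⟨fun h => ?_, fun h => ?_⟩ rfl rfl
          · obtain ⟨x, y, -, -, h3, h4⟩ := S.equiv_of_cl (isPrim_equiv σ hjP)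
              (isPrim_equiv σ (hrepP l)) (h.trans hl'.symm)
            rw [← hrepcl l]
            exact S.cl_of_equiv _ _ (x := σ.symm x) (y := σ.symm y)
              (σ.injective (by rw [map_mul, σ.apply_symm_apply, σ.apply_symm_apply, h3]))
              (σ.injective (by rw [map_mul, σ.apply_symm_apply, σ.apply_symm_apply, h4]))
          · rw [hσcl j (rep l) hjP (hrepP l) (h.trans (hrepcl l).symm), hl']
        · have h0 := hO j' hj' j hj (Ne.symm hjj)
          rw [map_mul S.q (j * b), Pi.mul_apply, trace_mul_comm, ← Pi.mul_apply, ← map_mul,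
            ← mul_assoc, h0, zero_mul, map_mul σ (j * b), map_mul S.q (σ (j * b)), Pi.mul_apply,
            trace_mul_comm, ← Pi.mul_apply, ← map_mul, ← map_mul, ← mul_assoc, h0, zero_mul,
            map_zero]
      rw [hb']
      simp only [map_sum, Finset.sum_apply, trace_sum]
      exact Finset.sum_congr rfl fun j hj => Finset.sum_congr rfl fun j' hj' => hterm j hj j' hj'
    have hcorner : ∀ m : ℕ, e * (σ ^ m) a * e = (σ ^ m) a := fun m => by
      induction m with
      | zero => exact ha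
      | succ m ih =>
        rw [pow_succ', AlgEquiv.mul_apply]
        conv_lhs => rw [← hσe, ← map_mul, ← map_mul, ih]
    have hpow : ∀ m : ℕ, (S.q ((σ ^ m) a) l.1).trace = (S.q a l.1).trace := fun m => by
      induction m with
      | zero => rfl
      | succ m ih => rw [pow_succ', AlgEquiv.mul_apply, htrσ _ (hcorner m), ih]
    have htr : (S.q e l.1).trace = (n l : k) := by
      simp only [n, hnl]
      rw [← hs]
      simp only [map_sum, Finset.sum_apply, trace_sum, Finset.card_filter, Nat.cast_sum]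
      refine Finset.sum_congr rfl fun j hj => ?_
      rw [S.trace_q_prim (hD j hj).1]
      push_cast
      exact if_congr ⟨fun h => ⟨_, h⟩, fun ⟨_, h⟩ => h⟩ rfl rfl
    rw [← CharP.cast_eq_zero_iff k p, ← htr, ← hsum]
    rw [map_sum, Finset.sum_apply, trace_sum, Finset.sum_congr rfl fun m _ => hpow m,
      Finset.sum_const, Finset.card_range, nsmul_eq_mul, CharP.cast_eq_zero, zero_mul]
  obtain ⟨w, -, hw⟩ := sum_range_orbit hp π (Equiv.ext fun l => by
    rw [hπpow, hper]; rfl) n hnπ hfix fun l => H (rep l)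
  refine ⟨∑ l : ι, Finsupp.single (rep l) (w l), fun j hj => ?_, ?_⟩
  · obtain ⟨l, -, hl⟩ := Finset.mem_biUnion.1 (Finsupp.support_finsetSum hj)
    obtain rfl := Finset.mem_singleton.1 (Finsupp.support_single_subset hl)
    exact ⟨hrepP l, (hD _ (hrepD l)).2.1⟩
  · rw [hHe, hw, ← Finsupp.sum_finsetSum_index
      (h := fun j n => n • ∑ m ∈ Finset.range p, H ((σ ^ m) j)) (fun _ => zero_smul ℕ _)
      (fun _ _ _ => add_smul _ _ _)]
    refine Finset.sum_congr rfl fun l _ => ?_
    rw [Finsupp.sum_single_index (h := fun j n => n • ∑ m ∈ Finset.range p, H ((σ ^ m) j))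
      (zero_smul ℕ _)]
    congr 1
    refine Finset.sum_congr rfl fun m _ => ?_
    exact (hrep _ (isPrim_equiv (σ ^ m) (hrepP l)) _ ((hiter m l _).trans
      (congrArg Subtype.val (hπpow m l).symm))).symm

end Cfsg.Agent.Star
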