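/-
Minimal invariant idempotents and Brauer pairs: the theorem of Alperin and Broue on the pairs
below a point, and relative traces when the Brauer image vanishes.
-/
import Cfsg.Agent.Lib.Star.Lift
import Cfsg.Agent.Lib.Star.Points
import Cfsg.Agent.Lib.BrauerPairs.Pairs

set_option linter.unusedSectionVars false
set_option linter.style.haveILetI false

namespace Cfsg.Agent.Star

open Cfsg MonoidAlgebra Matrix Cfsg.Agent.Blocks Cfsg.Agent.BrauerPairs

section Gen

variable {k : Type*} [Field k] {A : Type*} [Ring A] [Algebra k A]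

theorem eq_zero_of_idem_nilpotent {e : A} (he : e * e = e) (h : IsNilpotent e) : e = 0 := by
  obtain ⟨n, hn⟩ := h
  rcases Nat.eq_zero_or_pos n with h0 | h0
  · rw [h0, pow_zero] at hn
    rw [← mul_one e, hn, mul_zero]
  · rwa [IsIdempotentElem.pow_eq he h0.ne'] at hn

theorem smul_idem_nilpotent {e : A} (he : e * e = e) {c : k} (h : IsNilpotent (c • e)) :
    c = 0 ∨ e = 0 := by
  refine or_iff_not_imp_left.2 fun hc => eq_zero_of_idem_nilpotent he ?_
  have := h.smul c⁻¹
  rwa [inv_smul_smul₀ hc] at this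

/-- The scalar functional of a local corner. -/
theorem exists_corner_fun [IsAlgClosed k] [FiniteDimensional k A] {j : A} (hj : IsPrim j) :
    ∃ φ : A →ₗ[k] k, φ j = 1 ∧ ∀ y, IsNilpotent (j * y * j - φ y • j) := by
  obtain ⟨S⟩ := nonempty_splitting (k := k) (A := A)
  obtain ⟨v, f, hfv, hq⟩ := S.cl_spec hj
  let φ : A →ₗ[k] k :=
    { toFun := fun y => (f ᵥ* S.q y (S.cl hj)) ⬝ᵥ v
      map_add' := fun x y => by rw [map_add, Pi.add_apply, vecMul_add, add_dotProduct]
      map_smul' := fun c x => by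
        rw [map_smul, Pi.smul_apply, vecMul_smul, smul_dotProduct]; rfl }
  have hsc : ∀ y, IsNilpotent (j * y * j - φ y • j) := fun y => S.nil _ (funext fun i => by
    rw [map_sub, map_mul, map_mul, map_smul, hq]
    simp only [Pi.sub_apply, Pi.mul_apply, Pi.smul_apply, Pi.zero_apply]
    by_cases hi : i = S.cl hj
    · subst hi
      rw [Pi.single_eq_same, vecMulVec_mul, vecMulVec_mul_vecMulVec, vecMulVec_smul]
      exact sub_self _
    · rw [Pi.single_eq_of_ne hi, zero_mul, zero_mul, smul_zero, sub_zero])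
  refine ⟨φ, ?_, hsc⟩
  have h := hsc j
  rw [hj.idem, hj.idem] at h
  rw [show j - φ j • j = (1 - φ j) • j by rw [sub_smul, one_smul]] at h
  rcases smul_idem_nilpotent hj.idem h with h | h
  · exact (sub_eq_zero.1 h).symm
  · exact absurd h hj.ne_zero

end Gen

variable {G : Type*} [Group G] [Fintype G] {k : Type*} [Field k] [SplitCenter k G]

theorem isInvElt_sup {H K : Subgroup G} {y : MonoidAlgebra k G} (hH : IsInvElt H y)
    (hK : IsInvElt K y) : IsInvElt (H ⊔ K) y := by
  let F : Subgroup G :=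
    { carrier := {u | cj u y = y}
      one_mem' := cj_one y
      mul_mem' := fun {a b} (ha : cj a y = y) (hb : cj b y = y) => by
        show cj (a * b) y = y
        rw [← cj_cj, hb, ha]
      inv_mem' := fun {a} (ha : cj a y = y) => by
        show cj a⁻¹ y = y
        conv_lhs => rw [← ha, cj_inv_cj] }
  rw [isInvElt_iff_cj] at hH hK ⊢
  exact fun u hu => (sup_le (c := F) hH hK) hu

theorem isInvElt_of_supp_centralizer {U : Subgroup G} {y : MonoidAlgebra k G}
    (h : ∀ g, g ∉ Subgroup.centralizer (U : Set G) → y.coeff g = 0) : IsInvElt U y := by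
  intro u hu g
  by_cases hg : g ∈ Subgroup.centralizer (U : Set G)
  · rw [Subgroup.mem_centralizer_iff.1 hg u hu, mul_inv_cancel_right]
  · rw [h g hg, h _ fun h' => hg ((mem_centralizer_conj_iff (Subgroup.le_normalizer hu)).1 h')]

theorem supp_mul {X : Subgroup G} {x y : MonoidAlgebra k G} (hx : ∀ g, g ∉ X → x.coeff g = 0)
    (hy : ∀ g, g ∉ X → y.coeff g = 0) : ∀ g, g ∉ X → (x * y).coeff g = 0 := fun g hg => by
  rw [coeff_mul_univ]
  refine Finset.sum_eq_zero fun a _ => ?_
  by_cases ha : a ∈ X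
  · rw [hy _ (fun h => hg (by simpa using mul_mem ha h)), mul_zero]
  · rw [hx a ha, zero_mul]

theorem supp_inf_top {H : Subgroup G} {y : MonoidAlgebra k G}
    (h : ∀ g, g ∉ H → y.coeff g = 0) : ∀ g, g ∉ (⊤ : Subgroup G) ⊓ H → y.coeff g = 0 :=
  fun g hg => h g fun hh => hg ⟨Subgroup.mem_top g, hh⟩

/-- Elements of a join with a centralising subgroup are products. -/
theorem exists_mul_of_mem_sup {U S : Subgroup G} (hSU : S ≤ Subgroup.centralizer (U : Set G))
    {h : G} (hh : h ∈ U ⊔ S) : ∃ u ∈ U, ∃ s ∈ S, u * s = h := by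
  rw [← SetLike.mem_coe, Subgroup.coe_mul_of_right_le_normalizer_left U S
    (hSU.trans (Subgroup.centralizer_le_normalizer _))] at hh
  exact hh

variable {p : ℕ} [Fact p.Prime]

/-- A `p`-element commuting with a `p'`-element is fixed by whatever fixes the product. -/
theorem mem_of_mul_mem {K : Subgroup G} {w σ : G} (hw : ∃ a, orderOf w = p ^ a)
    (hσ : ¬ p ∣ orderOf σ) (hc : Commute w σ) (h : w * σ ∈ K) : w ∈ K := by
  obtain ⟨a, ha⟩ := hw
  have h1 : (w * σ) ^ orderOf σ = w ^ orderOf σ := by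
    rw [hc.mul_pow, pow_orderOf_eq_one, mul_one]
  have h2 := K.pow_mem h (orderOf σ)
  rw [h1] at h2
  have hco : (orderOf σ).Coprime (orderOf w) := by
    rw [ha]
    exact ((Nat.Prime.coprime_iff_not_dvd Fact.out).2 hσ).symm.pow_right a
  obtain ⟨m, hm⟩ := exists_pow_eq_self_of_coprime hco
  rw [← hm]
  exact K.pow_mem h2 m

variable [CharP k p]

/-- At the top, a minimal invariant idempotent selects one block. -/
theorem exists_pair_of_prim [IsAlgClosed k] [FiniteDimensional k (MonoidAlgebra k G)]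
    {U S : Subgroup G} (hU : IsPGroup p U) (hSU : S ≤ Subgroup.centralizer (U : Set G))
    {j : invAlg k (U ⊔ S)} (hj : IsPrim j)
    (hne : brTrunc U (j : MonoidAlgebra k G) ≠ 0) :
    ∃ z, IsPair p ⊤ ((U, z) : Pr k G) ∧
      brTrunc U (j : MonoidAlgebra k G) * z = brTrunc U (j : MonoidAlgebra k G) := by
  set e := brTrunc U (j : MonoidAlgebra k G) with he_def
  have hjU : IsInvElt U (j : MonoidAlgebra k G) := isInvElt_mono le_sup_left j.2
  have hjj : (j : MonoidAlgebra k G) * j = j := congrArg Subtype.val hj.idem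
  have hee : e * e = e := by rw [he_def, ← brTrunc_mul hU hjU hjU, hjj]
  obtain ⟨φ, -, hφ⟩ := exists_corner_fun (k := k) hj
  have key : ∀ z ∈ blks k ((⊤ : Subgroup G) ⊓ Subgroup.centralizer (U : Set G)),
      e * z = e ∨ e * z = 0 := by
    intro z hz
    have hzB := isBlk_of_mem hz
    have hesupp : ∀ g, g ∉ (⊤ : Subgroup G) ⊓ Subgroup.centralizer (U : Set G) → e.coeff g = 0 :=
      supp_inf_top fun g hg => coeff_brTrunc_neg hg
    have hsupp := supp_mul hesupp hzB.inZ.supp
    have hsupp' : ∀ g, g ∉ Subgroup.centralizer (U : Set G) → (e * z).coeff g = 0 :=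
      fun g hg => hsupp g fun h => hg h.2
    have hinv : IsInvElt (U ⊔ S) (e * z) := isInvElt_sup (isInvElt_of_supp_centralizer hsupp')
      (isInvElt_mul (isInvElt_brTrunc (hSU.trans (Subgroup.centralizer_le_normalizer _))
        (isInvElt_mono le_sup_right j.2))
        (fun s hs => hzB.inZ.inv s ⟨Subgroup.mem_top s, hSU hs⟩))
    have hc : z * e = e * z := hzB.inZ.comm hesupp
    have hn := (hφ ⟨e * z, hinv⟩).map (invAlg k (U ⊔ S)).val
    simp only [map_sub, map_mul, map_smul, Subalgebra.coe_val] at hn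
    have hyU : IsInvElt U (e * z) := isInvElt_mono le_sup_left hinv
    have hn' := isNilpotent_brTrunc hU
      (isInvElt_sub (isInvElt_mul (isInvElt_mul hjU hyU) hjU) (isInvElt_smul hjU _)) hn
    rw [brTrunc_sub, brTrunc_smul, brTrunc_mul hU (isInvElt_mul hjU hyU) hjU,
      brTrunc_mul hU hjU hyU, brTrunc_eq_self hsupp', ← he_def, ← mul_assoc e, hee, mul_assoc,
      hc, ← mul_assoc, hee] at hn'
    refine or_iff_not_imp_left.2 fun hne' => ?_
    have hidem : (e - e * z) * (e - e * z) = e - e * z := by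
      rw [sub_mul, mul_sub, mul_sub, hee, ← mul_assoc e e, hee, mul_assoc e z e, hc,
        ← mul_assoc e e, hee, mul_assoc e z (e * z), ← mul_assoc z e, hc, mul_assoc e z z,
        hzB.idem, ← mul_assoc e e, hee]
      abel
    have hmul : (e * z - φ ⟨e * z, hinv⟩ • e) * (1 - z) =
        (-φ ⟨e * z, hinv⟩) • (e - e * z) := by
      rw [mul_sub, mul_one, sub_mul, mul_assoc, hzB.idem, smul_mul_assoc, neg_smul, smul_sub]
      abel
    have hcomm : Commute (e * z - φ ⟨e * z, hinv⟩ • e) (1 - z) := by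
      have h1 : Commute e z := hc.symm
      exact (((Commute.one_right _).sub_right (h1.mul_left (Commute.refl z)))).sub_left
        (((Commute.one_right e).sub_right h1).smul_left _)
    have hn'' := hcomm.isNilpotent_mul_right hn'
    rw [hmul] at hn''
    rcases smul_idem_nilpotent hidem hn'' with h | h
    · rw [neg_eq_zero] at h
      rw [h, zero_smul, sub_zero] at hn'
      refine eq_zero_of_idem_nilpotent ?_ hn'
      rw [mul_assoc e z, ← mul_assoc z, hc, mul_assoc e z z, hzB.idem, ← mul_assoc, hee]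
    · exact absurd (sub_eq_zero.1 h).symm hne'
  obtain ⟨z, hz, hez⟩ := exists_block_mul_ne_zero
    (H := (⊤ : Subgroup G) ⊓ Subgroup.centralizer (U : Set G)) hne
  exact ⟨z, ⟨hU, le_top, isBlk_of_mem hz⟩, (key z hz).resolve_right hez⟩

/-- Below a selected pair, the Brauer images are selected by the smaller pairs. -/
theorem brTrunc_mul_below [IsAlgClosed k] [FiniteDimensional k (MonoidAlgebra k G)]
    {U S : Subgroup G} (hU : IsPGroup p U) (hSU : S ≤ Subgroup.centralizer (U : Set G))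
    {j : invAlg k (U ⊔ S)} (hj : IsPrim j) (hne : brTrunc U (j : MonoidAlgebra k G) ≠ 0)
    {z : MonoidAlgebra k G} (hz : IsPair p ⊤ ((U, z) : Pr k G))
    (hjz : brTrunc U (j : MonoidAlgebra k G) * z = brTrunc U (j : MonoidAlgebra k G)) :
    ∀ (Q : Subgroup G) (f : MonoidAlgebra k G), SubLE p ⊤ ((Q, f) : Pr k G) (U, z) →
      brTrunc Q (j : MonoidAlgebra k G) * f = brTrunc Q (j : MonoidAlgebra k G) := by
  classical
  suffices h : ∀ (n : ℕ) (Q : Subgroup G) (f : MonoidAlgebra k G),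
      Nat.card U - Nat.card Q = n → SubLE p ⊤ ((Q, f) : Pr k G) (U, z) →
      brTrunc Q (j : MonoidAlgebra k G) * f = brTrunc Q (j : MonoidAlgebra k G) from
    fun Q f => h _ Q f rfl
  intro n
  induction n using Nat.strong_induction_on with
  | _ n ih =>
  intro Q f hn hQf
  have hQU : Q ≤ U := hQf.le
  rcases eq_or_lt_of_le hQU with rfl | hlt
  · rw [(existsUnique_below hz le_rfl).unique hQf Relation.ReflTransGen.refl]
    exact hjz
  have hQp : IsPGroup p Q := hU.to_le hQU
  have hjinv : ∀ {K : Subgroup G}, K ≤ U → IsInvElt K (j : MonoidAlgebra k G) :=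
    fun hK => isInvElt_mono (hK.trans le_sup_left) j.2
  have hR : Q < U ⊓ Subgroup.normalizer (Q : Set G) :=
    Fusion.lt_inf_normalizer hU.isNilpotent hlt
  set R := U ⊓ Subgroup.normalizer (Q : Set G) with hRdef
  set e := brTrunc Q (j : MonoidAlgebra k G) with he_def
  -- the pairs between
  have hmid : ∀ R' : Subgroup G, Q < R' → R' ≤ R →
      IsInvElt R' f ∧ brTrunc R' (e * (1 - f)) = 0 := by
    intro R' hQR' hR'R
    obtain ⟨f', hf', -⟩ := existsUnique_below hz (hR'R.trans inf_le_left : R' ≤ U)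
    have hpair := hf'.left hz
    obtain ⟨f'', hf'', -⟩ := existsUnique_nsub hpair hQR'.le (hR'R.trans inf_le_right)
    have : f'' = f := (existsUnique_below hz hQU).unique
      (Relation.ReflTransGen.head hf'' hf') hQf
    subst this
    refine ⟨hf''.inv, ?_⟩
    have hlt' : Nat.card U - Nat.card R' < n := by
      have h1 : Nat.card Q < Nat.card R' := lt_of_le_of_ne (Subgroup.card_le_of_le hQR'.le)
        fun he => hQR'.ne (Subgroup.eq_of_le_of_card_ge hQR'.le he.ge)
      have h2 := Subgroup.card_le_of_le (hR'R.trans inf_le_left : R' ≤ U)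
      omega
    have h0 := ih _ hlt' R' f' rfl hf'
    have he' : IsInvElt R' e := isInvElt_brTrunc (hR'R.trans inf_le_right)
      (hjinv (hR'R.trans inf_le_left))
    rw [mul_sub, mul_one, brTrunc_sub, brTrunc_mul hpair.pgroup he' hf''.inv, he_def,
      brTrunc_brTrunc hQR'.le]
    have hcm : f' * brTrunc R' f'' = f' := by
      rw [hpair.blk.inZ.comm (supp_inf_top fun g hg => coeff_brTrunc_neg hg)]
      exact hf''.occ
    have h3 : brTrunc R' (j : MonoidAlgebra k G) * brTrunc R' f'' =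
        brTrunc R' (j : MonoidAlgebra k G) := by
      conv_lhs => rw [← h0, mul_assoc, hcm]
      exact h0
    rw [h3, sub_self]
  have hfR : IsInvElt R f := (hmid R hR le_rfl).1
  have hfpair := hQf.left hz
  have hesupp : ∀ g, g ∉ (⊤ : Subgroup G) ⊓ Subgroup.centralizer (Q : Set G) → e.coeff g = 0 :=
    supp_inf_top fun g hg => coeff_brTrunc_neg hg
  have hee : e * e = e := by
    rw [he_def, ← brTrunc_mul hQp (hjinv hQU) (hjinv hQU)]
    exact congrArg _ (congrArg Subtype.val hj.idem)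
  have hcomm : f * e = e * f := hfpair.blk.inZ.comm hesupp
  set c := e * (1 - f) with hc_def
  have hcsupp : ∀ g, g ∉ Subgroup.centralizer (Q : Set G) → c.coeff g = 0 := fun g hg =>
    supp_mul hesupp ((InZ.one _).sub hfpair.blk.inZ).supp g fun h => hg h.2
  have hcR : IsInvElt R c := isInvElt_mul (isInvElt_brTrunc inf_le_right (hjinv inf_le_left))
    (isInvElt_sub (isInvElt_one R) hfR)
  have hQS : S ≤ Subgroup.centralizer (Q : Set G) := hSU.trans (Subgroup.centralizer_le hQU)
  have hcS : IsInvElt S c := isInvElt_mul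
    (isInvElt_brTrunc (hQS.trans (Subgroup.centralizer_le_normalizer _))
      (isInvElt_mono le_sup_right j.2))
    (isInvElt_sub (isInvElt_one S) fun s hs => hfpair.blk.inZ.inv s ⟨Subgroup.mem_top s, hQS hs⟩)
  -- stabilisers of the support
  have hstab : ∀ x, c.coeff x ≠ 0 → U ⊓ Subgroup.centralizer ({x} : Set G) = Q := by
    intro x hx
    have hxQ : x ∈ Subgroup.centralizer (Q : Set G) := not_not.1 fun h => hx (hcsupp x h)
    have hle : Q ≤ U ⊓ Subgroup.centralizer ({x} : Set G) :=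
      le_inf hQU (le_centralizer_singleton_iff.2 hxQ)
    by_contra hne'
    have h1 := Fusion.lt_inf_normalizer (hU.to_le inf_le_left).isNilpotent
      (lt_of_le_of_ne hle (Ne.symm hne'))
    have h2 := (hmid _ h1 (inf_le_inf_right _ inf_le_left)).2
    have h3 := congrArg (fun y : MonoidAlgebra k G => y.coeff x) h2
    simp only [MonoidAlgebra.coeff_zero, Finsupp.coe_zero, Pi.zero_apply] at h3
    rw [coeff_brTrunc_pos (le_centralizer_singleton_iff.1 (inf_le_left.trans inf_le_right))] at h3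
    exact hx h3
  have hnorm : ∀ v ∈ U, ∀ x, c.coeff x ≠ 0 → c.coeff (v⁻¹ * x * v) ≠ 0 → v ∈ R := by
    intro v hv x h1 h2
    refine ⟨hv, ?_⟩
    have h3 : cjS v⁻¹ Q = Q := by
      conv_lhs => rw [← hstab x h1]
      rw [cjS_inf, cjS_self (inv_mem hv), cjS_centralizer_singleton, inv_inv]
      exact hstab _ h2
    simpa using inv_mem (mem_normalizer_of_cjS_eq h3)
  have huniq : ∀ u ∈ U, ∀ u' ∈ U, ∀ g, (cj u c).coeff g ≠ 0 → (cj u' c).coeff g ≠ 0 →
      (cj u' c).coeff g = (cj u c).coeff g := by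
    intro u hu u' hu' g h1 h2
    rw [coeff_cj] at h1 h2
    have hv : u⁻¹ * u' ∈ R := hnorm _ (mul_mem (inv_mem hu) hu') (u⁻¹ * g * u) h1
      (by convert h2 using 2; group)
    rw [show u' = u * (u⁻¹ * u') by group, ← cj_cj, (isInvElt_iff_cj.1 hcR) _ hv]
  let y : MonoidAlgebra k G := gaOfFun fun g =>
    if h : ∃ u ∈ U, (cj u c).coeff g ≠ 0 then (cj h.choose c).coeff g else 0
  have hy : ∀ g, ∀ u ∈ U, (cj u c).coeff g ≠ 0 → y.coeff g = (cj u c).coeff g := by
    intro g u hu h
    have he : ∃ u ∈ U, (cj u c).coeff g ≠ 0 := ⟨u, hu, h⟩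
    simp only [y, coeff_gaOfFun, dif_pos he]
    exact huniq u hu _ he.choose_spec.1 g h he.choose_spec.2
  have hy0 : ∀ g, (∀ u ∈ U, (cj u c).coeff g = 0) → y.coeff g = 0 := by
    intro g h
    simp only [y, coeff_gaOfFun]
    rw [dif_neg]
    rintro ⟨u, hu, h'⟩
    exact h' (h u hu)
  have hyU : IsInvElt U y := by
    intro w hw g
    have e1 : ∀ u, (cj (w * u) c).coeff (w * g * w⁻¹) = (cj u c).coeff g := fun u => by
      rw [coeff_cj, coeff_cj]; congr 1; group
    by_cases he : ∃ u ∈ U, (cj u c).coeff g ≠ 0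
    · obtain ⟨u, hu, h⟩ := he
      rw [hy g u hu h, hy _ (w * u) (mul_mem hw hu) (by rw [e1]; exact h), e1]
    · push Not at he
      rw [hy0 g he, hy0 _ fun u hu => ?_]
      rw [show u = w * (w⁻¹ * u) by group, e1]
      exact he _ (mul_mem (inv_mem hw) hu)
  have hyS : IsInvElt S y := by
    intro s hs g
    have e1 : ∀ u ∈ U, (cj u c).coeff (s * g * s⁻¹) = (cj u c).coeff g := fun u hu => by
      rw [coeff_cj, coeff_cj, ← hcS s hs (u⁻¹ * g * u)]
      congr 1
      have h1 : Commute u s := Subgroup.mem_centralizer_iff.1 (hSU hs) u hu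
      rw [show u⁻¹ * (s * g * s⁻¹) * u = u⁻¹ * s * g * (s⁻¹ * u) by group, h1.inv_left.eq,
        ← h1.inv_right.eq]
      group
    by_cases he : ∃ u ∈ U, (cj u c).coeff g ≠ 0
    · obtain ⟨u, hu, h⟩ := he
      rw [hy g u hu h, hy _ u hu (by rw [e1 u hu]; exact h), e1 u hu]
    · push Not at he
      rw [hy0 g he, hy0 _ fun u hu => by rw [e1 u hu]; exact he u hu]
  have hBrU : brTrunc U y = 0 := by
    refine gaExt fun g => ?_
    rw [MonoidAlgebra.coeff_zero, Finsupp.coe_zero, Pi.zero_apply]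
    by_cases hg : g ∈ Subgroup.centralizer (U : Set G)
    · rw [coeff_brTrunc_pos hg]
      refine hy0 g fun u hu => not_not.1 fun h => hlt.ne ?_
      rw [coeff_cj, mul_assoc, ← Subgroup.mem_centralizer_iff.1 hg u hu,
        inv_mul_cancel_left] at h
      rw [← hstab g h, inf_eq_left.2 (le_centralizer_singleton_iff.2 hg)]
    · rw [coeff_brTrunc_neg hg]
  have hBrQ : brTrunc Q y = c := by
    refine gaExt fun g => ?_
    by_cases hg : g ∈ Subgroup.centralizer (Q : Set G)
    · rw [coeff_brTrunc_pos hg]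
      by_cases hcg : c.coeff g = 0
      · rw [hcg]
        refine hy0 g fun u hu => not_not.1 fun h => ?_
        rw [coeff_cj] at h
        have h1 : cjS u Q ≥ Q := by
          intro q hq
          rw [← hstab _ h]
          refine mem_cjS.2 ⟨U.mul_mem (U.mul_mem (U.inv_mem hu) (hQU hq)) hu,
            Subgroup.mem_centralizer_singleton_iff.2 ?_⟩
          have h2 := Subgroup.mem_centralizer_iff.1 hg q hq
          calc u⁻¹ * q * u * (u⁻¹ * g * u) = u⁻¹ * (q * g) * u := by group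
            _ = u⁻¹ * (g * q) * u := by rw [h2]
            _ = u⁻¹ * g * u * (u⁻¹ * q * u) := by group
        have h2 : cjS u Q = Q := (Subgroup.eq_of_le_of_card_ge h1 (card_cjS u Q).le).symm
        have h3 := (isInvElt_iff_cj.1 hcR) u ⟨hu, mem_normalizer_of_cjS_eq h2⟩
        rw [← coeff_cj u g c, h3] at h
        exact h hcg
      · rw [hy g 1 U.one_mem (by rw [cj_one]; exact hcg), cj_one]
    · rw [coeff_brTrunc_neg hg, hcsupp g hg]
  -- the local corner kills `y`
  obtain ⟨φ, -, hφ⟩ := exists_corner_fun (k := k) hj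
  have hn1 := (hφ ⟨y, isInvElt_sup hyU hyS⟩).map (invAlg k (U ⊔ S)).val
  simp only [map_sub, map_mul, map_smul, Subalgebra.coe_val] at hn1
  have hjy : ∀ {K : Subgroup G}, K ≤ U → IsInvElt K ((j : MonoidAlgebra k G) * y) :=
    fun hK => isInvElt_mul (hjinv hK) (isInvElt_mono hK hyU)
  have hn2 := isNilpotent_brTrunc hU (isInvElt_sub (isInvElt_mul (hjy le_rfl) (hjinv le_rfl))
    (isInvElt_smul (hjinv le_rfl) _)) hn1
  rw [brTrunc_sub, brTrunc_smul, brTrunc_mul hU (hjy le_rfl) (hjinv le_rfl),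
    brTrunc_mul hU (hjinv le_rfl) hyU, hBrU, mul_zero, zero_mul, zero_sub, ← neg_smul] at hn2
  have hidU : brTrunc U (j : MonoidAlgebra k G) * brTrunc U (j : MonoidAlgebra k G) =
      brTrunc U (j : MonoidAlgebra k G) := by
    rw [← brTrunc_mul hU (hjinv le_rfl) (hjinv le_rfl)]
    exact congrArg _ (congrArg Subtype.val hj.idem)
  have hφ0 := neg_eq_zero.1 ((smul_idem_nilpotent hidU hn2).resolve_right hne)
  rw [hφ0, zero_smul, sub_zero] at hn1
  have hn3 := isNilpotent_brTrunc hQp (isInvElt_mul (hjy hQU) (hjinv hQU)) hn1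
  rw [brTrunc_mul hQp (hjy hQU) (hjinv hQU), brTrunc_mul hQp (hjinv hQU) (isInvElt_mono hQU hyU),
    hBrQ, ← he_def] at hn3
  have hce : e * c = c := by rw [hc_def, ← mul_assoc, hee]
  have hec : c * e = c := by
    rw [hc_def, mul_assoc, sub_mul, one_mul, hcomm, mul_sub, ← mul_assoc, hee, mul_sub, mul_one]
  rw [hce, hec] at hn3
  have hcc : c * c = c := by
    calc c * c = c * e * (1 - f) := by rw [hc_def]; simp only [mul_assoc]
      _ = e * ((1 - f) * (1 - f)) := by rw [hec, hc_def, mul_assoc]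
      _ = c := by
        rw [hc_def, sub_mul 1 f, one_mul, mul_sub f, mul_one, hfpair.blk.idem, sub_self, sub_zero]
  have hc0 := eq_zero_of_idem_nilpotent hcc hn3
  rw [hc_def, mul_sub, mul_one, sub_eq_zero] at hc0
  exact hc0.symm

/-- A normal subgroup of index `p` above a proper subgroup. -/
theorem exists_maximal_step {U T : Subgroup G} (hU : IsPGroup p U) (hT : T < U) :
    ∃ (V : Subgroup G) (u₀ : G), T ≤ V ∧ V < U ∧ U ≤ Subgroup.normalizer (V : Set G) ∧ u₀ ∈ U ∧
      u₀ ^ p ∈ V ∧ (∀ m, m < p → u₀ ^ m ∈ V → m = 0) ∧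
      ∀ u ∈ U, ∃ m, m < p ∧ (u₀ ^ m)⁻¹ * u ∈ V := by
  classical
  have hp : p.Prime := Fact.out
  obtain ⟨V, hVm, hmax⟩ := Finset.exists_max_image
    (Finset.univ.filter fun R : Subgroup G => T ≤ R ∧ R < U) (fun R : Subgroup G => Nat.card R)
    ⟨T, Finset.mem_filter.2 ⟨Finset.mem_univ _, le_rfl, hT⟩⟩
  simp only [Finset.mem_filter, Finset.mem_univ, true_and] at hVm hmax
  have hmax' : ∀ R, V < R → R ≤ U → R = U := fun R h1 h2 => by
    by_contra hne
    have := hmax R ⟨hVm.1.trans h1.le, lt_of_le_of_ne h2 hne⟩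
    exact h1.ne (Subgroup.eq_of_le_of_card_ge h1.le this)
  have hN : U ≤ Subgroup.normalizer (V : Set G) := by
    have h1 := Fusion.lt_inf_normalizer hU.isNilpotent hVm.2
    exact inf_eq_left.1 (hmax' _ h1 inf_le_left)
  obtain ⟨u, huU, huV⟩ := SetLike.exists_of_lt hVm.2
  obtain ⟨a, ha⟩ := IsPGroup.iff_orderOf.1 hU ⟨u, huU⟩
  rw [Subgroup.orderOf_mk] at ha
  have hex : ∃ i, u ^ p ^ i ∈ V := ⟨a, by rw [← ha, pow_orderOf_eq_one]; exact V.one_mem⟩
  set i := Nat.find hex with hi
  have hipos : 0 < i := Nat.pos_of_ne_zero fun h0 => huV (by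
    have := Nat.find_spec hex
    rwa [← hi, h0, pow_zero, pow_one] at this)
  set u₀ := u ^ p ^ (i - 1) with hu₀
  have hu₀U : u₀ ∈ U := pow_mem huU _
  have hu₀V : u₀ ∉ V := Nat.find_min hex (show i - 1 < i by omega)
  have hpow : u₀ ^ p ∈ V := by
    rw [hu₀, ← pow_mul, ← pow_succ, show i - 1 + 1 = i by omega]
    exact Nat.find_spec hex
  refine ⟨V, u₀, hVm.1, hVm.2, hN, hu₀U, hpow, fun m hm hmV => ?_, fun w hw => ?_⟩
  · by_contra hm0
    obtain ⟨t, -, ht⟩ := Nat.exists_mul_mod_eq_one_of_coprime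
      (show m.Coprime p from ((hp.coprime_iff_not_dvd).2 fun h =>
        absurd (Nat.le_of_dvd (Nat.pos_of_ne_zero hm0) h) (not_le.2 hm)).symm)
      hp.one_lt
    refine hu₀V ?_
    have h1 := V.pow_mem hmV t
    rw [← pow_mul, ← Nat.div_add_mod (m * t) p, ht, pow_add, pow_one, pow_mul] at h1
    exact (V.mul_mem_cancel_left (V.pow_mem hpow _)).1 h1
  · have hZ : V ⊔ Subgroup.zpowers u₀ = U := hmax' _
      (lt_of_le_of_ne le_sup_left fun h => hu₀V (h ▸ (le_sup_right : _ ≤ V ⊔ _)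
        (Subgroup.mem_zpowers u₀))) (sup_le hVm.2.le (Subgroup.zpowers_le.2 hu₀U))
    rw [← hZ, sup_comm, ← SetLike.mem_coe, Subgroup.coe_mul_of_left_le_normalizer_right _ _
      (Subgroup.zpowers_le.2 (hN hu₀U))] at hw
    obtain ⟨z, hz, v, hv, rfl⟩ := hw
    obtain ⟨n, rfl⟩ := (isOfFinOrder_of_finite u₀).mem_powers_iff_mem_zpowers.2 hz
    refine ⟨n % p, Nat.mod_lt _ hp.pos, ?_⟩
    show (u₀ ^ (n % p))⁻¹ * (u₀ ^ n * v) ∈ V
    rw [← mul_assoc]
    refine V.mul_mem ?_ hv
    have e : u₀ ^ n = u₀ ^ (n % p) * (u₀ ^ p) ^ (n / p) := by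
      conv_lhs => rw [← Nat.mod_add_div n p, pow_add, pow_mul]
    rw [e, inv_mul_cancel_left]
    exact V.pow_mem hpow _

/-- A minimal invariant idempotent without Brauer image is a relative trace. -/
theorem exists_trace_of_br_eq_zero [IsAlgClosed k] [FiniteDimensional k (MonoidAlgebra k G)]
    {U S : Subgroup G} (hU : IsPGroup p U) (hSU : S ≤ Subgroup.centralizer (U : Set G))
    (hS : ∀ s ∈ S, ¬ p ∣ orderOf s) {j : invAlg k (U ⊔ S)} (hj : IsPrim j)
    (h0 : brTrunc U (j : MonoidAlgebra k G) = 0) :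
    ∃ (V : Subgroup G) (u₀ : G) (a : MonoidAlgebra k G), V < U ∧
      U ≤ Subgroup.normalizer (V : Set G) ∧ u₀ ∈ U ∧ u₀ ^ p ∈ V ∧
      (∀ m, m < p → u₀ ^ m ∈ V → m = 0) ∧ (∀ u ∈ U, ∃ m, m < p ∧ (u₀ ^ m)⁻¹ * u ∈ V) ∧
      IsInvElt (V ⊔ S) a ∧ (j : MonoidAlgebra k G) * a * j = a ∧
      ∑ m ∈ Finset.range p, cj (u₀ ^ m) a = (j : MonoidAlgebra k G) := by
  classical
  obtain ⟨φ, hφj, hφ⟩ := exists_corner_fun (k := k) hj
  let cls : G → invAlg k (U ⊔ S) := fun t =>
    ⟨classSumIn k (U ⊔ S) t, isInvElt_classSumIn _ t⟩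
  obtain ⟨t, htC, htφ⟩ : ∃ t, t ∉ Subgroup.centralizer (U : Set G) ∧ φ (cls t) ≠ 0 := by
    have key : ∀ y, IsInvElt (U ⊔ S) y → ∀ hy : IsInvElt (U ⊔ S) y,
        (∀ g ∈ Subgroup.centralizer (U : Set G), y.coeff g = 0) → φ ⟨y, hy⟩ ≠ 0 →
        ∃ t, t ∉ Subgroup.centralizer (U : Set G) ∧ φ (cls t) ≠ 0 := by
      refine invElt_induction ?_ ?_
      · intro hy _ h
        exact absurd (by rw [show (⟨0, hy⟩ : invAlg k (U ⊔ S)) = 0 from Subtype.ext rfl, map_zero]) h
      · intro y t hy ht hsub ih hy' hs hl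
        by_cases hc : φ (cls t) = 0
        · have hy'' : IsInvElt (U ⊔ S) (y - y.coeff t • classSumIn k (U ⊔ S) t) :=
            isInvElt_sub hy (isInvElt_smul (isInvElt_classSumIn _ t) _)
          refine ih hy'' (fun g hg => not_not.1 fun h => hsub g h (hs g hg)) ?_
          rw [show (⟨_, hy''⟩ : invAlg k (U ⊔ S)) = ⟨y, hy'⟩ - y.coeff t • cls t from
            Subtype.ext rfl, map_sub, map_smul, hc, smul_zero, sub_zero]
          exact hl
        · exact ⟨t, fun h => ht (hs t h), hc⟩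
    refine key _ j.2 j.2 (fun g hg => ?_) ?_
    · have := congrArg (fun y : MonoidAlgebra k G => y.coeff g) h0
      simpa [coeff_brTrunc_pos hg] using this
    · rw [show (⟨(j : MonoidAlgebra k G), j.2⟩ : invAlg k (U ⊔ S)) = j from rfl, hφj]
      exact one_ne_zero
  have hT : U ⊓ Subgroup.centralizer ({t} : Set G) < U := lt_of_le_of_ne inf_le_left fun h =>
    htC (le_centralizer_singleton_iff.1 (inf_eq_left.1 h))
  obtain ⟨V, u₀, hTV, hVU, hN, hu₀, hu₀p, hfree, hcov⟩ := exists_maximal_step hU hT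
  have hVS : V ⊔ S ≤ U ⊔ S := sup_le_sup_right hVU.le S
  have htr : classSumIn k (U ⊔ S) t =
      ∑ m ∈ Finset.range p, cj (u₀ ^ m) (classSumIn k (V ⊔ S) t) := by
    refine gaExt fun x => ?_
    rw [MonoidAlgebra.coeff_sum, Finset.sum_apply']
    have hiff : ∀ m, ((cj (u₀ ^ m) (classSumIn k (V ⊔ S) t)).coeff x =
        if ∃ n ∈ V ⊔ S, u₀ ^ m * n * t * (u₀ ^ m * n)⁻¹ = x then 1 else 0) := by
      intro m
      rw [coeff_cj]
      split_ifs with h
      · obtain ⟨n, hn, rfl⟩ := h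
        exact coeff_classSumIn_pos ⟨n, hn, by group⟩
      · refine coeff_classSumIn_neg fun ⟨n, hn, hnx⟩ => h ⟨n, hn, ?_⟩
        calc u₀ ^ m * n * t * (u₀ ^ m * n)⁻¹ = u₀ ^ m * (n * t * n⁻¹) * (u₀ ^ m)⁻¹ := by group
          _ = x := by rw [hnx]; group
    simp only [hiff]
    by_cases hx : ∃ n ∈ U ⊔ S, n * t * n⁻¹ = x
    · rw [coeff_classSumIn_pos hx]
      obtain ⟨n, hn, rfl⟩ := hx
      obtain ⟨u, hu, s, hs, rfl⟩ := exists_mul_of_mem_sup hSU hn
      obtain ⟨m, hm, hmV⟩ := hcov u hu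
      rw [Finset.sum_eq_single m, if_pos]
      · exact ⟨(u₀ ^ m)⁻¹ * u * s, mul_mem (le_sup_left (b := S) hmV) (le_sup_right (a := V) hs),
          by group⟩
      · intro m' hm' hne
        refine if_neg fun ⟨n', hn', he⟩ => hne ?_
        obtain ⟨v', hv', s', hs', rfl⟩ :=
          exists_mul_of_mem_sup (hSU.trans (Subgroup.centralizer_le hVU.le)) hn'
        have hc1 : ∀ a ∈ U, ∀ b ∈ S, Commute a b := fun a ha b hb =>
          Subgroup.mem_centralizer_iff.1 (hSU hb) a ha
        have hw : u⁻¹ * (u₀ ^ m' * v') ∈ U :=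
          mul_mem (inv_mem hu) (mul_mem (pow_mem hu₀ _) (hVU.le hv'))
        have hσ : s⁻¹ * s' ∈ S := mul_mem (inv_mem hs) hs'
        have hmem : u⁻¹ * (u₀ ^ m' * v') * (s⁻¹ * s') ∈ Subgroup.centralizer ({t} : Set G) := by
          rw [Subgroup.mem_centralizer_singleton_iff]
          have e1 : u⁻¹ * (u₀ ^ m' * v') * (s⁻¹ * s') = (u * s)⁻¹ * (u₀ ^ m' * (v' * s')) := by
            rw [← mul_assoc, (hc1 _ hw _ (inv_mem hs)).eq]
            group
          rw [e1]
          calc (u * s)⁻¹ * (u₀ ^ m' * (v' * s')) * t =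
              (u * s)⁻¹ * (u₀ ^ m' * (v' * s') * t * (u₀ ^ m' * (v' * s'))⁻¹) *
                (u₀ ^ m' * (v' * s')) := by group
            _ = t * ((u * s)⁻¹ * (u₀ ^ m' * (v' * s'))) := by rw [he]; group
        obtain ⟨b, hb⟩ := IsPGroup.iff_orderOf.1 hU ⟨_, hw⟩
        rw [Subgroup.orderOf_mk] at hb
        have hwT := hTV ⟨hw, mem_of_mul_mem ⟨b, hb⟩ (hS _ hσ) (hc1 _ hw _ hσ) hmem⟩
        have hmm : (u₀ ^ m)⁻¹ * u₀ ^ m' ∈ V := by
          have := mul_mem (mul_mem hmV hwT) (inv_mem hv')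
          convert this using 1
          group
        rcases le_total m m' with hle | hle
        · rw [← Nat.add_sub_cancel' hle, pow_add, inv_mul_cancel_left] at hmm
          have := hfree _ (by have := Finset.mem_range.1 hm'; omega) hmm
          omega
        · rw [← Nat.add_sub_cancel' hle, pow_add, _root_.mul_inv_rev, mul_assoc, inv_mul_cancel,
            mul_one] at hmm
          have := hfree _ (by omega) (inv_mem_iff.1 hmm)
          omega
      · intro h; exact absurd (Finset.mem_range.2 hm) h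
    · rw [coeff_classSumIn_neg hx]
      refine (Finset.sum_eq_zero fun m _ => if_neg fun ⟨n, hn, he⟩ => hx ⟨_, ?_, he⟩).symm
      exact mul_mem (le_sup_left (b := S) (pow_mem hu₀ m)) (hVS hn)
  obtain ⟨w, hw1, hw2, hw3, -⟩ := exists_corner_inv (z := j * cls t * j) hj.idem
    (by rw [← mul_assoc, ← mul_assoc, hj.idem]) (by rw [mul_assoc (j * cls t), hj.idem]) htφ
    (hφ _)
  have hjj : (j : MonoidAlgebra k G) * j = j := congrArg Subtype.val hj.idem
  have hwj : (w : MonoidAlgebra k G) * j = w := congrArg Subtype.val hw2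
  refine ⟨V, u₀, (j : MonoidAlgebra k G) * classSumIn k (V ⊔ S) t * j * (w : MonoidAlgebra k G),
    hVU, hN, hu₀, hu₀p, hfree, hcov, ?_, ?_, ?_⟩
  · exact isInvElt_mul (isInvElt_mul (isInvElt_mul (isInvElt_mono hVS j.2)
      (isInvElt_classSumIn _ t)) (isInvElt_mono hVS j.2)) (isInvElt_mono hVS w.2)
  · rw [← mul_assoc, ← mul_assoc, ← mul_assoc, hjj,
      mul_assoc _ (w : MonoidAlgebra k G) (j : MonoidAlgebra k G), hwj]
  · have hfix : ∀ (y : invAlg k (U ⊔ S)) (m : ℕ),
        cj (u₀ ^ m) (y : MonoidAlgebra k G) = (y : MonoidAlgebra k G) := fun y m =>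
      isInvElt_iff_cj.1 y.2 _ (le_sup_left (b := S) (pow_mem hu₀ m))
    simp only [map_mul, hfix, ← Finset.sum_mul, ← Finset.mul_sum, ← htr]
    exact congrArg Subtype.val hw3

end Cfsg.Agent.Star
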