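/-
The value of an ordinary character at an idempotent only depends on the Brauer image.
-/
import Cfsg.Agent.Lib.Star.Lift
import Cfsg.Agent.Lib.Blocks.SecondIdem
import Cfsg.Agent.Lib.Char.Complete

set_option linter.unusedSectionVars false
set_option linter.style.haveILetI false

namespace Cfsg.Agent.Star

open Cfsg MonoidAlgebra Cfsg.Agent.Blocks Cfsg.Agent.BrauerPairs Cfsg.Agent.Char
  Cfsg.Agent.Blocks.Orbit
open scoped ComplexConjugate

universe u

variable {G : Type u} [Group G] [Fintype G] {p : ℕ} {M : Ideal AlgInt} [M.IsPrime]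

/-- The trace of `g * x` on the module of a character. -/
noncomputable def chiTr (χ : IrrCharacter G) (x : MonoidAlgebra (locRing M) G) (g : G) : ℂ :=
  ∑ v, (x.coeff v : ℂ) * (χ : G → ℂ) (g * v)

theorem chiTr_add (χ : IrrCharacter G) (x y : MonoidAlgebra (locRing M) G) (g : G) :
    chiTr χ (x + y) g = chiTr χ x g + chiTr χ y g := by
  simp [chiTr, add_mul, Finset.sum_add_distrib]

theorem chiTr_zero (χ : IrrCharacter G) (g : G) :
    chiTr χ (0 : MonoidAlgebra (locRing M) G) g = 0 := by simp [chiTr]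

theorem chiTr_one (χ : IrrCharacter G) (g : G) :
    chiTr χ (1 : MonoidAlgebra (locRing M) G) g = (χ : G → ℂ) g := by
  classical
  rw [chiTr, Finset.sum_eq_single 1]
  · simp [MonoidAlgebra.one_def]
  · intro v _ hv; simp [MonoidAlgebra.one_def, Ne.symm hv]
  · simp

/-- The permutation trace of an idempotent, as a combination of the character values. -/
theorem sum_lMat_shift [DecidableEq G] (x : MonoidAlgebra (locRing M) G) (a c y z : G) :
    ((∑ j, (permMat (shiftPerm y z) * lMat x : Matrix G G (locRing M)) (shiftPerm a c j) j :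
        locRing M) : ℂ) =
      ∑ χ : IrrCharacter G, conj ((χ : G → ℂ) (c⁻¹ * z)) * chiTr χ x (a⁻¹ * y) := by
  classical
  have hent : ∀ l : G, ((permMat (shiftPerm y z) * lMat x : Matrix G G (locRing M))
      (shiftPerm a c l) l : ℂ) = (x.coeff (y⁻¹ * a * (l * (c⁻¹ * z) * l⁻¹)) : ℂ) := by
    intro l
    rw [permMat_mul_apply, show (shiftPerm y z).symm (shiftPerm a c l) =
      y⁻¹ * (a * l * c⁻¹) * z from by
        rw [Equiv.symm_apply_eq, shiftPerm_apply, shiftPerm_apply]; group]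
    simp only [lMat, Matrix.of_apply]
    simp only [mul_assoc]
  rw [AddSubmonoidClass.coe_finset_sum]
  simp only [hent]
  rw [← Finset.sum_fiberwise_of_maps_to (g := fun l : G => l * (c⁻¹ * z) * l⁻¹)
    (t := Finset.univ) fun _ _ => Finset.mem_univ _]
  simp only [chiTr, Finset.mul_sum]
  rw [Finset.sum_comm (γ := IrrCharacter G)]
  refine Fintype.sum_equiv (Equiv.mulLeft (y⁻¹ * a)) _ _ fun v => ?_
  rw [Finset.sum_congr rfl fun l hl => show
    (x.coeff (y⁻¹ * a * (l * (c⁻¹ * z) * l⁻¹)) : ℂ) = (x.coeff (y⁻¹ * a * v) : ℂ) by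
      rw [(Finset.mem_filter.1 hl).2]]
  rw [Finset.sum_const, nsmul_eq_mul]
  refine Eq.trans (b := (∑ χ : IrrCharacter G, (χ : G → ℂ) v * conj ((χ : G → ℂ) (c⁻¹ * z))) *
    (x.coeff (y⁻¹ * a * v) : ℂ)) ?_ ?_
  · congr 1
    convert (column_orth_count v (c⁻¹ * z)).symm using 0
    exact ⟨fun h => by convert h; rfl, fun h => by convert h; rfl⟩
  rw [Finset.sum_mul]
  refine Finset.sum_congr rfl fun χ _ => ?_
  simp only [Equiv.coe_mulLeft]
  rw [show a⁻¹ * y * (y⁻¹ * a * v) = v by group]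
  ring

/-- Idempotents with the same Brauer image at `u` have the same traces at the section of `u`. -/
theorem chiTr_congr (hM : IsPModular p M) {u s : G} (hu : ∃ i, orderOf u = p ^ i)
    (hs : ¬ p ∣ orderOf s) (hus : Commute u s) {H : Subgroup G} (huH : u ∈ H) (hsH : s ∈ H)
    {e e' : MonoidAlgebra (locRing M) G} (he : e * e = e) (he' : e' * e' = e')
    (hi : IsInvElt H e) (hi' : IsInvElt H e')
    (hres : ∀ g ∈ Subgroup.centralizer ({u} : Set G), res M (e.coeff g) = res M (e'.coeff g))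
    (χ : IrrCharacter G) : chiTr χ e (u * s) = chiTr χ e' (u * s) := by
  classical
  obtain ⟨i, hi0⟩ := hu
  have key : ∀ g : G, ∑ φ : IrrCharacter G,
      conj ((φ : G → ℂ) g) * (chiTr φ e (u * s) - chiTr φ e' (u * s)) = 0 := by
    intro g
    obtain ⟨c, hc⟩ := exists_isPPart hM.1 g
    obtain ⟨w, hcw_eq, hcw, ⟨j, hcj⟩, hw⟩ := hc
    have hm := not_dvd_mul_orders hM hs hw
    have hD : ∀ {x : MonoidAlgebra (locRing M) G}, x * x = x → IsInvElt H x →
        TraceDatum M (shiftPerm u⁻¹ c⁻¹) (lMat x) (permMat (shiftPerm s w))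
          (orderOf s * orderOf w) := fun {x} hx hxi =>
      traceDatum_lMat hx (hxi _ (inv_mem huH)) (hxi _ hsH) hus.inv_left hcw.inv_left
        (by rw [pow_mul, pow_orderOf_eq_one, one_pow])
        (by rw [mul_comm, pow_mul, pow_orderOf_eq_one, one_pow])
    have hσ := shiftPerm_pow_eq_one (p := p) (a := u⁻¹) (b := c⁻¹) (i := i) (j := j)
      (by rw [orderOf_inv, hi0]) (by rw [orderOf_inv, hcj])
    have h := trace_perm_congr hM hσ hσ hm (hD he hi) (hD he' hi') (Equiv.refl _) ?_
      (by ext a b; rfl)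
    · rw [sum_lMat_shift, sum_lMat_shift, inv_inv, inv_inv, hcw_eq] at h
      simp only [mul_sub, Finset.sum_sub_distrib, h, sub_self]
    · refine Matrix.ext fun a b => ?_
      simp only [fixRes, Matrix.of_apply, Matrix.submatrix_apply, lMat, Equiv.refl_apply]
      refine hres _ (Subgroup.mem_centralizer_singleton_iff.2 ?_)
      have ha : u⁻¹ * (a : G) = a * c⁻¹ := mul_inv_eq_iff_eq_mul.1 a.2
      have hb : u⁻¹ * (b : G) = b * c⁻¹ := mul_inv_eq_iff_eq_mul.1 b.2
      have h1 : u⁻¹ * ((a : G) * (b : G)⁻¹) = (a : G) * (b : G)⁻¹ * u⁻¹ := by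
        calc u⁻¹ * ((a : G) * (b : G)⁻¹) = a * c⁻¹ * (b : G)⁻¹ := by rw [← mul_assoc, ha]
          _ = (a : G) * (b : G)⁻¹ * ((b : G) * c⁻¹) * (b : G)⁻¹ := by group
          _ = (a : G) * (b : G)⁻¹ * (u⁻¹ * b) * (b : G)⁻¹ := by rw [hb]
          _ = (a : G) * (b : G)⁻¹ * u⁻¹ := by group
      calc (a : G) * (b : G)⁻¹ * u = u * (u⁻¹ * ((a : G) * (b : G)⁻¹)) * u := by group
        _ = u * ((a : G) * (b : G)⁻¹) := by rw [h1]; group
  have h0 : ∑ φ : IrrCharacter G,
      conj (chiTr φ e (u * s) - chiTr φ e' (u * s)) • (φ : G → ℂ) = 0 := by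
    funext g
    rw [Finset.sum_apply, Pi.zero_apply, ← map_eq_zero (starRingEnd ℂ), map_sum, ← key g]
    refine Finset.sum_congr rfl fun φ _ => ?_
    simp only [Pi.smul_apply, smul_eq_mul, map_mul, Complex.conj_conj]
    ring
  have h1 := classInner_combination
    (fun φ : IrrCharacter G => conj (chiTr φ e (u * s) - chiTr φ e' (u * s))) χ
  rw [h0, classInner_zero_left] at h1
  rw [← sub_eq_zero, ← map_eq_zero (starRingEnd ℂ)]
  exact h1.symm

/-- The representation attached to an element of the group algebra. -/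
theorem exists_chiTr_rep (χ : IrrCharacter G) :
    ∃ (n : ℕ) (ρ : Representation ℂ G (Fin n → ℂ))
      (E : MonoidAlgebra (locRing M) G →+* Module.End ℂ (Fin n → ℂ)),
      (∀ x g, chiTr χ x g = LinearMap.trace ℂ _ (ρ g * E x)) ∧
      (∀ (x : MonoidAlgebra (locRing M) G) (g : G),
        (∀ v, x.coeff (g * v * g⁻¹) = x.coeff v) → Commute (ρ g) (E x)) := by
  classical
  obtain ⟨f, n, ρ, -, rfl⟩ := χ
  let E : MonoidAlgebra (locRing M) G →+* Module.End ℂ (Fin n → ℂ) :=
    MonoidAlgebra.liftNCRingHom ((algebraMap ℂ _).comp (locRing M).subtype) ρ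
      fun c g => Algebra.commutes _ _
  have hE : ∀ x, E x = ∑ v, (x.coeff v : ℂ) • ρ v := fun x => by
    show MonoidAlgebra.liftNC _ ρ x = _
    rw [MonoidAlgebra.liftNC, AddMonoidHom.coe_comp, Function.comp_apply]
    rw [Finsupp.liftAddHom_apply]
    refine (Finsupp.sum_fintype _ _ (by simp)).trans (Finset.sum_congr rfl fun v _ => ?_)
    simp [Algebra.smul_def]
  refine ⟨n, ρ, E, fun x g => ?_, fun x g hx => ?_⟩
  · rw [hE, Finset.mul_sum, map_sum, chiTr]
    refine Finset.sum_congr rfl fun v _ => ?_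
    rw [mul_smul_comm, map_smul, ← map_mul, smul_eq_mul]
    rfl
  · rw [hE, commute_iff_eq, Finset.mul_sum, Finset.sum_mul]
    refine Fintype.sum_equiv (MulAut.conj g).toEquiv _ _ fun v => ?_
    simp only [MulEquiv.toEquiv_eq_coe, MulEquiv.coe_toEquiv, MulAut.conj_apply, mul_smul_comm,
      smul_mul_assoc, ← map_mul, hx v, inv_mul_cancel_right]

/-- The trace is cyclic along elements commuting with the translation. -/
theorem chiTr_mul_comm (χ : IrrCharacter G) {x : MonoidAlgebra (locRing M) G}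
    (y : MonoidAlgebra (locRing M) G) {g : G} (hx : ∀ v, x.coeff (g * v * g⁻¹) = x.coeff v) :
    chiTr χ (x * y) g = chiTr χ (y * x) g := by
  obtain ⟨n, ρ, E, hE, hcomm⟩ := exists_chiTr_rep (M := M) χ
  rw [hE, hE, map_mul E, map_mul E, ← mul_assoc (ρ g), (hcomm x g hx).eq, mul_assoc (E x),
    LinearMap.trace_mul_comm, mul_assoc (ρ g)]

/-- An invariant idempotent gives a character of the subgroup. -/
theorem isCharacter_chiTr (χ : IrrCharacter G) {H : Subgroup G}
    {e : MonoidAlgebra (locRing M) G} (he : e * e = e) (hi : IsInvElt H e) :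
    IsCharacter H fun h : H => chiTr χ e (h : G) := by
  obtain ⟨n, ρ, E, hE, hcomm⟩ := exists_chiTr_rep (M := M) χ
  let V := LinearMap.range (E e)
  have hinv : ∀ h : H, ∀ v ∈ V, ρ (h : G) v ∈ V := by
    rintro h _ ⟨w, rfl⟩
    exact ⟨ρ (h : G) w, (LinearMap.congr_fun (hcomm e h (hi h h.2)).eq w).symm⟩
  let σ : Representation ℂ H V :=
    { toFun := fun h => (ρ (h : G)).restrict (hinv h)
      map_one' := LinearMap.ext fun v => Subtype.ext (by simp)
      map_mul' := fun a b => LinearMap.ext fun v => Subtype.ext (by simp) }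
  have h := isCharacter_of_rep σ
  convert h using 1
  funext h
  rw [hE]
  have hp : ∀ v ∈ V, E e v = v := by
    rintro _ ⟨w, rfl⟩
    rw [← Module.End.mul_apply, ← map_mul, he]
  show _ = LinearMap.trace ℂ V (σ h)
  rw [show σ h = (E e).rangeRestrict ∘ₗ (ρ (h : G) ∘ₗ V.subtype) from LinearMap.ext fun v =>
      Subtype.ext (hp _ (hinv h v v.2)).symm, LinearMap.trace_comp_comm']
  rfl

/-- Conjugating the element conjugates the place of evaluation. -/
theorem chiTr_conj (χ : IrrCharacter G) {x x' : MonoidAlgebra (locRing M) G} {a : G}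
    (h : ∀ v, x'.coeff (a * v * a⁻¹) = x.coeff v) (g : G) :
    chiTr χ x' (a * g * a⁻¹) = chiTr χ x g := by
  refine (Fintype.sum_equiv (MulAut.conj a).toEquiv _ _ fun v => ?_).symm
  simp only [MulEquiv.toEquiv_eq_coe, MulEquiv.coe_toEquiv, MulAut.conj_apply, h v]
  rw [show a * g * a⁻¹ * (a * v * a⁻¹) = a * (g * v) * a⁻¹ by group, irr_conj_invariant]

end Cfsg.Agent.Star
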