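/-
The value of a character at a residual idempotent on a section.
-/
import Cfsg.Agent.Lib.Star.Trace
import Cfsg.Agent.Lib.BrauerPairs.Bridge
import Cfsg.Agent.Lib.Blocks.SecondMain

set_option linter.unusedSectionVars false
set_option linter.style.haveILetI false

namespace Cfsg.Agent.Star

open Cfsg MonoidAlgebra Cfsg.Agent.Blocks Cfsg.Agent.BrauerPairs Cfsg.Agent.Char
open Polynomial (aeval)
open scoped ComplexConjugate

universe u

variable {G : Type u} [Group G] [Fintype G] {p : ℕ} {M : Ideal AlgInt} [M.IsPrime]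

/-- A commuting pair of a `p`-element and a `p'`-element. -/
structure IsSec (p : ℕ) (u s : G) : Prop where
  pow : ∃ i, orderOf u = p ^ i
  reg : ¬ p ∣ orderOf s
  comm : Commute u s

theorem IsSec.conj {u s : G} (h : IsSec p u s) (g : G) :
    IsSec p (g * u * g⁻¹) (g * s * g⁻¹) := by
  refine ⟨?_, ?_, ?_⟩
  · rw [← MulAut.conj_apply, MulEquiv.orderOf_eq]; exact h.pow
  · rw [← MulAut.conj_apply, MulEquiv.orderOf_eq]; exact h.reg
  · show g * u * g⁻¹ * (g * s * g⁻¹) = g * s * g⁻¹ * (g * u * g⁻¹)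
    calc g * u * g⁻¹ * (g * s * g⁻¹) = g * (u * s) * g⁻¹ := by group
      _ = g * (s * u) * g⁻¹ := by rw [h.comm.eq]
      _ = _ := by group

/-- The subgroup generated by both parts. -/
abbrev secGrp (u s : G) : Subgroup G := Subgroup.zpowers u ⊔ Subgroup.zpowers s

theorem mem_secGrp_left (u s : G) : u ∈ secGrp u s :=
  Subgroup.mem_sup_left (Subgroup.mem_zpowers u)

theorem mem_secGrp_right (u s : G) : s ∈ secGrp u s :=
  Subgroup.mem_sup_right (Subgroup.mem_zpowers s)

theorem secGrp_le {u s : G} {H : Subgroup G} (hu : u ∈ H) (hs : s ∈ H) : secGrp u s ≤ H :=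
  sup_le (Subgroup.zpowers_le.2 hu) (Subgroup.zpowers_le.2 hs)

/-- The value at a residual idempotent. -/
noncomputable def tau (χ : IrrCharacter G) (u s : G) (ε : MonoidAlgebra (resField M) G) : ℂ := by
  classical
  exact if h : ∃ e : MonoidAlgebra (locRing M) G, e * e = e ∧ IsInvElt (secGrp u s) e ∧ resG e = ε then
      chiTr χ h.choose (u * s) else 0

theorem tau_eq (hM : IsPModular p M) {u s : G} (h : IsSec p u s) {H : Subgroup G} (huH : u ∈ H)
    (hsH : s ∈ H) (χ : IrrCharacter G) {e : MonoidAlgebra (locRing M) G} (he : e * e = e)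
    (hi : IsInvElt H e) {ε : MonoidAlgebra (resField M) G} (hε : ε * ε = ε)
    (hεi : IsInvElt (secGrp u s) ε)
    (hres : ∀ g ∈ Subgroup.centralizer ({u} : Set G), res M (e.coeff g) = ε.coeff g) :
    tau χ u s ε = chiTr χ e (u * s) := by
  classical
  have hex := exists_idem_lift hε hεi
  rw [tau, dif_pos hex]
  obtain ⟨h1, h2, h3⟩ := hex.choose_spec
  refine chiTr_congr hM h.pow h.reg h.comm (mem_secGrp_left u s) (mem_secGrp_right u s) h1 he h2
    (isInvElt_mono (secGrp_le huH hsH) hi) (fun g hg => ?_) χ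
  rw [hres g hg, ← coeff_resG, h3]

theorem tau_zero (hM : IsPModular p M) {u s : G} (h : IsSec p u s) (χ : IrrCharacter G) :
    tau χ u s (0 : MonoidAlgebra (resField M) G) = 0 := by
  rw [tau_eq hM h (mem_secGrp_left u s) (mem_secGrp_right u s) χ
    (e := 0) (mul_zero 0) (fun _ _ _ => by simp) (mul_zero 0) (fun _ _ _ => by simp)
    fun g _ => by simp, chiTr_zero]

/-- Orthogonal invariant residual idempotents lift to orthogonal invariant idempotents. -/
theorem exists_orth_lift {H : Subgroup G} {ε ε' : MonoidAlgebra (resField M) G} (hε : ε * ε = ε)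
    (hi : IsInvElt H ε) (hε' : ε' * ε' = ε') (hi' : IsInvElt H ε') (h1 : ε * ε' = 0)
    (h2 : ε' * ε = 0) :
    ∃ e e' : MonoidAlgebra (locRing M) G, e * e = e ∧ IsInvElt H e ∧ resG e = ε ∧ e' * e' = e' ∧
      IsInvElt H e' ∧ resG e' = ε' ∧ (e + e') * (e + e') = e + e' := by
  have hsum : (ε + ε') * (ε + ε') = ε + ε' := by
    rw [add_mul, mul_add, mul_add, hε, hε', h1, h2, add_zero, zero_add]
  obtain ⟨E, hE, hEi, hEr⟩ := exists_idem_lift hsum (isInvElt_add hi hi')
  obtain ⟨x, hx, hxr⟩ := exists_inv_lift hi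
  set y := E * x * E with hy
  have hyr : resG y = ε := by
    rw [hy, map_mul, map_mul, hEr, hxr, add_mul, hε, h2, add_zero, mul_add, hε, h1, add_zero]
  obtain ⟨f, hf1, hf2⟩ := exists_idem_poly y (by rw [hyr]; exact hε)
  have hcy : Commute E y := by
    show E * (E * x * E) = E * x * E * E
    rw [← mul_assoc, ← mul_assoc, hE, mul_assoc (E * x) E, hE]
  have hcf : Commute E (aeval y f) := aeval_commute hcy f
  have hee : E * aeval y f * (E * aeval y f) = E * aeval y f := by
    rw [mul_assoc E, ← mul_assoc (aeval y f), ← hcf.eq, mul_assoc E (aeval y f), hf1, ← mul_assoc,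
      hE]
  have hEe : E * (E * aeval y f) = E * aeval y f := by rw [← mul_assoc, hE]
  have heE : E * aeval y f * E = E * aeval y f := by rw [mul_assoc, ← hcf.eq, ← mul_assoc, hE]
  have hei : IsInvElt H (E * aeval y f) := isInvElt_mul' hEi
    (isInvElt_aeval (isInvElt_mul' (isInvElt_mul' hEi hx) hEi) f)
  have her : resG (E * aeval y f) = ε := by
    rw [map_mul, hf2, hyr, hEr, add_mul, hε, h2, add_zero]
  refine ⟨E * aeval y f, E - E * aeval y f, hee, hei, her, ?_, isInvElt_sub hEi hei, ?_, ?_⟩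
  · rw [sub_mul, mul_sub, mul_sub, hE, hEe, heE, hee, sub_self, sub_zero]
  · rw [map_sub, her, hEr, add_sub_cancel_left]
  · rw [add_sub_cancel]
    exact hE

theorem tau_add (hM : IsPModular p M) {u s : G} (h : IsSec p u s) (χ : IrrCharacter G)
    {ε ε' : MonoidAlgebra (resField M) G} (hε : ε * ε = ε) (hi : IsInvElt (secGrp u s) ε)
    (hε' : ε' * ε' = ε') (hi' : IsInvElt (secGrp u s) ε') (h1 : ε * ε' = 0) (h2 : ε' * ε = 0) :
    tau χ u s (ε + ε') = tau χ u s ε + tau χ u s ε' := by
  obtain ⟨e, e', he, hei, her, he', hei', her', hsum⟩ := exists_orth_lift hε hi hε' hi' h1 h2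
  have hu := mem_secGrp_left u s
  have hs := mem_secGrp_right u s
  rw [tau_eq hM h hu hs χ he hei hε hi (fun g _ => by rw [← her, coeff_resG]),
    tau_eq hM h hu hs χ he' hei' hε' hi' (fun g _ => by rw [← her', coeff_resG]),
    tau_eq hM h hu hs χ hsum (isInvElt_add hei hei')
      (by rw [add_mul, mul_add, mul_add, hε, hε', h1, h2, add_zero, zero_add])
      (isInvElt_add hi hi') (fun g _ => by rw [← her, ← her', ← map_add, coeff_resG]), chiTr_add]

theorem tau_sum (hM : IsPModular p M) {u s : G} (h : IsSec p u s) (χ : IrrCharacter G)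
    {ι : Type*} (D : Finset ι) (f : ι → MonoidAlgebra (resField M) G)
    (hid : ∀ i ∈ D, f i * f i = f i) (hi : ∀ i ∈ D, IsInvElt (secGrp u s) (f i))
    (hO : ∀ i ∈ D, ∀ i' ∈ D, i ≠ i' → f i * f i' = 0) :
    tau χ u s (∑ i ∈ D, f i) = ∑ i ∈ D, tau χ u s (f i) := by
  classical
  induction D using Finset.induction_on with
  | empty => rw [Finset.sum_empty, Finset.sum_empty, tau_zero hM h]
  | @insert a D ha ih =>
    have hm : ∀ {i}, i ∈ D → i ∈ insert a D := fun h => Finset.mem_insert_of_mem h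
    have ha' := Finset.mem_insert_self a D
    have hsum : (∑ i ∈ D, f i) * (∑ i ∈ D, f i) = ∑ i ∈ D, f i := by
      rw [Finset.sum_mul_sum]
      refine Finset.sum_congr rfl fun i hi' => ?_
      rw [Finset.sum_eq_single i (fun j hj hne => hO i (hm hi') j (hm hj) (Ne.symm hne))
        (fun h => absurd hi' h), hid i (hm hi')]
    rw [Finset.sum_insert ha, Finset.sum_insert ha, tau_add hM h χ (hid a ha') (hi a ha') hsum
      (isInvElt_sum _ _ fun i hi' => hi i (hm hi'))
      (by rw [Finset.mul_sum]; exact Finset.sum_eq_zero fun i hi' =>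
        hO a ha' i (hm hi') fun h => ha (h ▸ hi'))
      (by rw [Finset.sum_mul]; exact Finset.sum_eq_zero fun i hi' =>
        hO i (hm hi') a ha' fun h => ha (h ▸ hi')),
      ih (fun i hi' => hid i (hm hi')) (fun i hi' => hi i (hm hi'))
        fun i hi' j hj => hO i (hm hi') j (hm hj)]

/-- Equivalent idempotents have the same value. -/
theorem tau_equiv (hM : IsPModular p M) {u s : G} (h : IsSec p u s) (χ : IrrCharacter G)
    {x y : MonoidAlgebra (resField M) G} (hx : IsInvElt (secGrp u s) x)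
    (hy : IsInvElt (secGrp u s) y) (h1 : x * y * (x * y) = x * y) (h2 : y * x * (y * x) = y * x) :
    tau χ u s (x * y) = tau χ u s (y * x) := by
  obtain ⟨e, he, hei, her⟩ := exists_idem_lift h1 (isInvElt_mul' hx hy)
  obtain ⟨e', he', hei', her'⟩ := exists_idem_lift h2 (isInvElt_mul' hy hx)
  obtain ⟨x₁, hx₁, hxr⟩ := exists_inv_lift hx
  obtain ⟨y₁, hy₁, hyr⟩ := exists_inv_lift hy
  set X := e * x₁ * e' with hXdef
  set Y := e' * y₁ * e with hYdef
  have hX : IsInvElt (secGrp u s) X := isInvElt_mul' (isInvElt_mul' hei hx₁) hei'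
  have hY : IsInvElt (secGrp u s) Y := isInvElt_mul' (isInvElt_mul' hei' hy₁) hei
  set w := X * Y + (1 - e) with hw
  have e1 : e * (X * Y) = X * Y := by rw [hXdef]; simp only [← mul_assoc, he]
  have e2 : X * Y * e = X * Y := by rw [hYdef]; simp only [mul_assoc, he]
  have e3 : e * (1 - e) = 0 := by rw [mul_sub, mul_one, he, sub_self]
  have e4 : (1 - e) * e = 0 := by rw [sub_mul, one_mul, he, sub_self]
  have h1' : ∀ z, x * (y * (x * (y * z))) = x * (y * z) := fun z => by
    have h' := congrArg (· * z) h1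
    simpa only [mul_assoc] using h'
  have h1'' : x * (y * (x * y)) = x * y := by simpa only [mul_assoc] using h1
  have hwr : resG w = 1 := by
    rw [hw, hXdef, hYdef]
    simp only [map_add, map_sub, map_mul, map_one, her, her', hxr, hyr, mul_assoc, h1', h1'']
    exact add_sub_cancel _ _
  obtain ⟨f, hf⟩ := exists_inv_poly w hwr
  have hcw : Commute e w := by
    show e * (X * Y + (1 - e)) = (X * Y + (1 - e)) * e
    rw [mul_add, add_mul, e1, e2, e3, e4]
  set W := aeval w f with hW
  have hcW : Commute e W := aeval_commute hcw f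
  have hWw : Commute w W := aeval_commute (Commute.refl w) f
  have hWi : IsInvElt (secGrp u s) W := isInvElt_aeval (isInvElt_add (isInvElt_mul' hX hY)
    (isInvElt_sub (isInvElt_one _) hei)) f
  have hwe : w * e = X * Y := by rw [hw, add_mul, e2, e4, add_zero]
  have hXYW : X * Y * W = e := by
    rw [← hwe, mul_assoc, hcW.eq, ← mul_assoc, hWw.eq, hf, one_mul]
  have hWr : resG W = 1 := by
    have := congrArg resG hf
    rwa [map_mul, hwr, mul_one, map_one] at this
  have hid : Y * W * X * (Y * W * X) = Y * W * X := by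
    calc Y * W * X * (Y * W * X) = Y * (W * (X * Y * W)) * X := by simp only [mul_assoc]
      _ = Y * (W * e) * X := by rw [hXYW]
      _ = Y * e * W * X := by rw [← hcW.eq]; simp only [mul_assoc]
      _ = Y * W * X := by rw [show Y * e = Y by rw [hYdef, mul_assoc, he]]
  have hidr : resG (Y * W * X) = y * x := by
    have h2' : ∀ z, y * (x * (y * (x * z))) = y * (x * z) := fun z => by
      have h' := congrArg (· * z) h2
      simpa only [mul_assoc] using h'
    have h2'' : y * (x * (y * x)) = y * x := by simpa only [mul_assoc] using h2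
    rw [hXdef, hYdef]
    simp only [map_mul, hWr, her, her', hxr, hyr, mul_assoc, one_mul, h2', h2'']
  rw [tau_eq hM h (mem_secGrp_left u s) (mem_secGrp_right u s) χ he hei h1 (isInvElt_mul' hx hy)
      (fun g _ => by rw [← her, coeff_resG]),
    tau_eq hM h (mem_secGrp_left u s) (mem_secGrp_right u s) χ hid
      (isInvElt_mul' (isInvElt_mul' hY hWi) hX) h2 (isInvElt_mul' hy hx)
      (fun g _ => by rw [← hidr, coeff_resG]), ← hXYW, mul_assoc X]
  exact chiTr_mul_comm χ (Y * W) fun v =>
    hX _ (mul_mem (mem_secGrp_left u s) (mem_secGrp_right u s)) v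

/-- Conjugation over the local ring. -/
noncomputable def cjR (g : G) :
    MonoidAlgebra (locRing M) G ≃ₐ[locRing M] MonoidAlgebra (locRing M) G :=
  MonoidAlgebra.domCongr (locRing M) (locRing M) (MulAut.conj g)

theorem coeff_cjR (g v : G) (y : MonoidAlgebra (locRing M) G) :
    (cjR g y).coeff v = y.coeff (g⁻¹ * v * g) := by
  simp [cjR]

theorem tau_conj (hM : IsPModular p M) {u s : G} (h : IsSec p u s) (χ : IrrCharacter G) (g : G)
    {ε : MonoidAlgebra (resField M) G} (hε : ε * ε = ε) (hi : IsInvElt (secGrp u s) ε) :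
    tau χ (g * u * g⁻¹) (g * s * g⁻¹) (cj g ε) = tau χ u s ε := by
  obtain ⟨e, he, hei, her⟩ := exists_idem_lift hε hi
  have hu' : g * u * g⁻¹ ∈ cjS g (secGrp u s) := ⟨u, mem_secGrp_left u s, rfl⟩
  have hs' : g * s * g⁻¹ ∈ cjS g (secGrp u s) := ⟨s, mem_secGrp_right u s, rfl⟩
  have hinv : IsInvElt (cjS g (secGrp u s)) (cjR g e) := by
    intro v hv x
    rw [coeff_cjR, coeff_cjR, ← hei _ (mem_cjS.1 hv) (g⁻¹ * x * g)]
    group
  rw [tau_eq hM (h.conj g) hu' hs' χ (by rw [← map_mul, he]) hinv (by rw [← map_mul, hε])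
      (isInvElt_mono (secGrp_le hu' hs') (isInvElt_cj hi g))
      (fun x _ => by rw [coeff_cjR, coeff_cj, ← her, coeff_resG]),
    tau_eq hM h (mem_secGrp_left u s) (mem_secGrp_right u s) χ he hei hε hi
      (fun x _ => by rw [← her, coeff_resG]),
    show g * u * g⁻¹ * (g * s * g⁻¹) = g * (u * s) * g⁻¹ by group]
  exact chiTr_conj χ (fun v => by rw [coeff_cjR]; group) _

/-- On a block of the centraliser the value is the block part of the section. -/
theorem tau_zB [Fact p.Prime] (hM : IsPModular p M) {u s : G} (h : IsSec p u s) {C : Subgroup G}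
    (hC : C = Subgroup.centralizer ({u} : Set G)) {b : Set (IrrCharacter C)} (hb : IsPBlock M b)
    (χ : IrrCharacter G) (hs : s ∈ C) :
    tau χ u s (zB M C b) = blockPart b (secFun u C (χ : G → ℂ)) ⟨s, hs⟩ := by
  classical
  have huC : u ∈ C := by rw [hC]; exact zpowers_le_centralizer_self u (Subgroup.mem_zpowers u)
  have hinv : IsInvElt C (emb C (blockEltR M b)) := by
    intro v hv g
    by_cases hg : g ∈ C
    · rw [coeff_emb_mem C _ hg, coeff_emb_mem C _ (mul_mem (mul_mem hv hg) (inv_mem hv))]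
      exact isClassElt_blockEltR b ⟨g, hg⟩ ⟨v, hv⟩
    · rw [coeff_emb_notMem C _ hg, coeff_emb_notMem C]
      exact fun h => hg (by simpa [mul_assoc] using mul_mem (mul_mem (inv_mem hv) h) hv)
  rw [tau_eq hM h huC hs χ (by rw [← map_mul, Cfsg.Agent.Blocks.blockEltR_idem hb]) hinv
    (isBlk_zB C hb).idem (isInvElt_mono (secGrp_le huC hs) (isBlk_zB C hb).inZ.inv)
    (fun g _ => by rw [← resG_emb_blockEltR C b, coeff_resG])]
  set f := secFun u C (χ : G → ℂ) with hf
  have hfc : IsClassFunction C f :=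
    isClassFunction_secFun hC (IsCharacter.isClassFunction (irr_isCharacter χ))
  have hN : (Nat.card C : ℂ) ≠ 0 := Nat.cast_ne_zero.2 Nat.card_pos.ne'
  set σ : C := ⟨s, hs⟩ with hσ
  have key : ∑ x : C, blockCoeff b (σ⁻¹ * x) * f x = blockPart b f σ := by
    refine mul_left_cancel₀ hN ?_
    rw [blockPart_eq_pair, mul_inv_cancel_left₀ hN]
    have hj : ∀ j : C, ∑ x : C, blockCoeff b (σ⁻¹ * x) * f x =
        ∑ x : C, blockCoeff b (σ⁻¹ * j * x * j⁻¹) * f x := fun j => by
      refine (Fintype.sum_equiv (MulAut.conj j).toEquiv _ _ fun x => ?_).symm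
      simp only [MulEquiv.toEquiv_eq_coe, MulEquiv.coe_toEquiv, MulAut.conj_apply]
      rw [hfc x j]
      simp only [mul_assoc]
    calc (Nat.card C : ℂ) * ∑ x : C, blockCoeff b (σ⁻¹ * x) * f x
        = ∑ j : C, ∑ x : C, blockCoeff b (σ⁻¹ * j * x * j⁻¹) * f x := by
          rw [← Finset.sum_congr rfl fun j _ => hj j, Finset.sum_const, Finset.card_univ,
            ← Nat.card_eq_fintype_card, nsmul_eq_mul]
      _ = ∑ x : C, f x * blockPair b σ x := by
          rw [Finset.sum_comm]
          refine Finset.sum_congr rfl fun x _ => ?_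
          rw [← Finset.sum_mul, sum_blockCoeff_twist, mul_comm (f x), blockPair]
          congr 1
          refine Finset.sum_congr rfl fun φ _ => ?_
          rw [map_mul, irr_inv, Complex.conj_conj]
  rw [← key]
  have e : chiTr χ (emb C (blockEltR M b)) (u * s) =
      ∑ c : C, blockCoeff b c * (χ : G → ℂ) (u * s * c) := by
    rw [chiTr, ← Finset.sum_subset (Finset.subset_univ ((Finset.univ : Finset C).image Subtype.val))
      fun x _ hx => by
        rw [coeff_emb_notMem C _ fun h => hx (Finset.mem_image.2 ⟨⟨x, h⟩, Finset.mem_univ _, rfl⟩)]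
        simp,
      Finset.sum_image fun a _ b _ h => Subtype.ext h]
    exact Finset.sum_congr rfl fun c _ => by rw [coeff_emb_coe, coeff_blockEltR hb]
  rw [e]
  refine Fintype.sum_equiv (Equiv.mulLeft σ) _ _ fun c => ?_
  simp only [Equiv.coe_mulLeft, inv_mul_cancel_left, hf, secFun, Subgroup.coe_mul, hσ, mul_assoc]

end Cfsg.Agent.Star
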