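/-
The star product of a stable class function on a maximal pair with a character: definitions and
elementary properties.
-/
import Cfsg.Agent.Lib.Star.Tau
import Cfsg.Agent.Lib.Star.AB
import Cfsg.Agent.Lib.BrauerPairs.BlockFusion
import Cfsg.Agent.Lib.DefOne.Ring

set_option linter.unusedSectionVars false
set_option linter.style.haveILetI false

namespace Cfsg.Agent.Star

open Cfsg MonoidAlgebra Cfsg.Agent.Blocks Cfsg.Agent.BrauerPairs Cfsg.Agent.Char

universe u

variable {G : Type u} [Group G] [Fintype G] {p : ℕ} {M : Ideal AlgInt} [M.IsPrime]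

/-- The `p`-part. -/
noncomputable def pp (p : ℕ) (x : G) : G := by
  classical
  exact if h : ∃ u, IsPPart p x u then h.choose else 1

/-- The `p'`-part. -/
noncomputable def rp (p : ℕ) (x : G) : G := (pp p x)⁻¹ * x

variable [Fact p.Prime]

theorem IsSec.isPPart {u s : G} (h : IsSec p u s) : IsPPart p (u * s) u :=
  ⟨s, rfl, h.comm, h.pow, h.reg⟩

theorem pp_spec (x : G) : IsPPart p x (pp p x) := by
  classical
  have hex := exists_isPPart (p := p) Fact.out x
  rw [pp, dif_pos hex]
  exact hex.choose_spec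

theorem pp_mul_rp (x : G) : pp p x * rp p x = x := by rw [rp, mul_inv_cancel_left]

theorem isSec_parts (x : G) : IsSec p (pp p x) (rp p x) := by
  obtain ⟨y, hy, hc, hk, hr⟩ := pp_spec (p := p) x
  have e : rp p x = y := by
    rw [rp]
    conv_lhs => rw [show (pp p x)⁻¹ * x = (pp p x)⁻¹ * (pp p x * y) by rw [hy]]
    rw [inv_mul_cancel_left]
  rw [e]
  exact ⟨hk, hr, hc⟩

theorem IsSec.pp_eq {u s : G} (h : IsSec p u s) : pp p (u * s) = u :=
  isPPart_unique Fact.out (pp_spec _) h.isPPart

theorem IsSec.rp_eq {u s : G} (h : IsSec p u s) : rp p (u * s) = s := by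
  rw [rp, h.pp_eq, inv_mul_cancel_left]

theorem pp_conj (g x : G) : pp p (g * x * g⁻¹) = g * pp p x * g⁻¹ :=
  isPPart_unique Fact.out (pp_spec _) (Cfsg.Agent.Blocks.IsPPart.conj (pp_spec x) g)

theorem rp_conj (g x : G) : rp p (g * x * g⁻¹) = g * rp p x * g⁻¹ := by
  rw [rp, rp, pp_conj]; group

/-! ## The centraliser of the `p`-part -/

/-- The subgroup carrying the blocks on the section of `u`. -/
abbrev secC (u : G) : Subgroup G := ⊤ ⊓ Subgroup.centralizer (Subgroup.zpowers u : Set G)

theorem secC_eq (u : G) : secC u = Subgroup.centralizer ({u} : Set G) := by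
  rw [secC, top_inf_eq, centralizer_zpowers_eq]

theorem mem_secC {u g : G} : g ∈ secC u ↔ g * u = u * g := by
  rw [secC_eq, Subgroup.mem_centralizer_singleton_iff]

theorem mem_centralizer_zpowers {u g : G} :
    g ∈ Subgroup.centralizer (Subgroup.zpowers u : Set G) ↔ g * u = u * g := by
  rw [centralizer_zpowers_eq, Subgroup.mem_centralizer_singleton_iff]

theorem IsSec.secGrp_le_secC {u s : G} (h : IsSec p u s) : secGrp u s ≤ secC u :=
  secGrp_le (mem_secC.2 rfl) (mem_secC.2 h.comm.eq.symm)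

theorem IsSec.secGrp_le_normalizer {u s : G} (h : IsSec p u s) :
    secGrp u s ≤ Subgroup.normalizer (Subgroup.zpowers u : Set G) :=
  h.secGrp_le_secC.trans (inf_le_right.trans (Subgroup.centralizer_le_normalizer _))

theorem cjS_top (g : G) : cjS g (⊤ : Subgroup G) = ⊤ :=
  cjS_self (Subgroup.mem_top g)

theorem cjS_zpowers (g u : G) : cjS g (Subgroup.zpowers u) = Subgroup.zpowers (g * u * g⁻¹) :=
  MonoidHom.map_zpowers _ u

theorem cjS_secC (g u : G) : cjS g (secC u) = secC (g * u * g⁻¹) := by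
  rw [secC, cjS_inf, cjS_top, cjS_centralizer, cjS_zpowers]

theorem IsSec.pgroup {u s : G} (h : IsSec p u s) : IsPGroup p (Subgroup.zpowers u) := by
  obtain ⟨i, hi⟩ := h.pow
  exact IsPGroup.of_card (n := i) (by rw [Nat.card_zpowers, hi])

/-! ## The component of an idempotent at a block of the centraliser -/

/-- The component at `z`. -/
noncomputable def comp (u : G) (ε z : MonoidAlgebra (resField M) G) : MonoidAlgebra (resField M) G :=
  brTrunc (Subgroup.zpowers u) ε * z

theorem isInvElt_comp {u s : G} (h : IsSec p u s) {ε z : MonoidAlgebra (resField M) G}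
    (hi : IsInvElt (secGrp u s) ε) (hz : IsBlk (secC u) z) : IsInvElt (secGrp u s) (comp u ε z) :=
  isInvElt_mul' (isInvElt_brTrunc h.secGrp_le_normalizer hi)
    fun v hv => hz.inZ.inv v (h.secGrp_le_secC hv)

theorem blk_comm_brTrunc {u : G} {ε z : MonoidAlgebra (resField M) G} (hz : IsBlk (secC u) z) :
    z * brTrunc (Subgroup.zpowers u) ε = brTrunc (Subgroup.zpowers u) ε * z :=
  hz.inZ.comm fun _ hg => coeff_brTrunc_neg fun hh => hg ⟨Subgroup.mem_top _, hh⟩

theorem comp_mul [CharP (resField M) p] {u s : G} (h : IsSec p u s)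
    {ε ε' z : MonoidAlgebra (resField M) G} (hi : IsInvElt (secGrp u s) ε)
    (hi' : IsInvElt (secGrp u s) ε') (hz : IsBlk (secC u) z) :
    comp u ε z * comp u ε' z = comp u (ε * ε') z := by
  have hle : Subgroup.zpowers u ≤ secGrp u s := le_sup_left
  rw [comp, comp, comp, brTrunc_mul h.pgroup (isInvElt_mono hle hi) (isInvElt_mono hle hi'),
    mul_assoc _ z, ← mul_assoc z, blk_comm_brTrunc hz, mul_assoc _ z z, hz.idem, mul_assoc]

theorem comp_idem [CharP (resField M) p] {u s : G} (h : IsSec p u s)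
    {ε z : MonoidAlgebra (resField M) G} (hε : ε * ε = ε) (hi : IsInvElt (secGrp u s) ε)
    (hz : IsBlk (secC u) z) : comp u ε z * comp u ε z = comp u ε z := by
  rw [comp_mul h hi hi hz, hε]

/-! ## The star function -/

variable (p) in
/-- The value of the stable function at a subsection. -/
noncomputable def val (a : Pr (resField M) G) (η : G → ℂ) (u : G)
    (z : MonoidAlgebra (resField M) G) : ℂ := by
  classical
  exact if h : ∃ g, SubLE p ⊤ (cjP g ((Subgroup.zpowers u, z) : Pr (resField M) G)) a then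
    η (h.choose * u * h.choose⁻¹) else 0

/-- A class function on a maximal pair, stable under the fusion of the pair. -/
structure IsStarFn (p : ℕ) (a : Pr (resField M) G) (η : G → ℂ) : Prop where
  gen : IsGeneralizedCharacter a.1 fun v : a.1 => η v
  stable : ∀ (g : G) (b : Pr (resField M) G), SubLE p ⊤ b a → SubLE p ⊤ (cjP g b) a →
    ∀ u ∈ b.1, η (g * u * g⁻¹) = η u

variable {a : Pr (resField M) G} {η : G → ℂ}

theorem val_eq (hη : IsStarFn p a η) {u g : G} {z : MonoidAlgebra (resField M) G}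
    (hg : SubLE p ⊤ (cjP g ((Subgroup.zpowers u, z) : Pr (resField M) G)) a) :
    val p a η u z = η (g * u * g⁻¹) := by
  classical
  have hex : ∃ g, SubLE p ⊤ (cjP g ((Subgroup.zpowers u, z) : Pr (resField M) G)) a := ⟨g, hg⟩
  rw [val, dif_pos hex]
  set g₀ := hex.choose with hg₀
  have hg0 := hex.choose_spec
  rw [← hg₀] at hg0
  have h := hη.stable (g₀ * g⁻¹) _ hg (by rw [cjP_cjP, inv_mul_cancel_right]; exact hg0)
    (g * u * g⁻¹) ⟨u, Subgroup.mem_zpowers u, rfl⟩
  rw [← h]
  congr 1
  group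

theorem val_eq_zero {u : G} {z : MonoidAlgebra (resField M) G}
    (h : ∀ g, ¬ SubLE p ⊤ (cjP g ((Subgroup.zpowers u, z) : Pr (resField M) G)) a) :
    val p a η u z = 0 := by
  classical
  rw [val, dif_neg (fun ⟨g, hg⟩ => h g hg)]

theorem val_conj (hη : IsStarFn p a η) (x u : G) (z : MonoidAlgebra (resField M) G) :
    val p a η (x * u * x⁻¹) (cj x z) = val p a η u z := by
  classical
  have e : ∀ g, cjP g ((Subgroup.zpowers (x * u * x⁻¹), cj x z) : Pr (resField M) G) =
      cjP (g * x) ((Subgroup.zpowers u, z) : Pr (resField M) G) := fun g => by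
    rw [← cjP_cjP]
    exact congrArg (cjP g) (Prod.ext (cjS_zpowers x u).symm rfl)
  by_cases h : ∃ g, SubLE p ⊤ (cjP g ((Subgroup.zpowers u, z) : Pr (resField M) G)) a
  · obtain ⟨g, hg⟩ := h
    rw [val_eq hη hg, val_eq hη (g := g * x⁻¹) (by rw [e, inv_mul_cancel_right]; exact hg)]
    congr 1
    group
  · push Not at h
    rw [val_eq_zero h, val_eq_zero fun g => by rw [e]; exact h _]

variable (p a η) in
/-- The value on the section of `u` at `s`. -/
noncomputable def starTerm (χ : IrrCharacter G) (ε : MonoidAlgebra (resField M) G) (u s : G) : ℂ :=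
  ∑ z ∈ blks (resField M) (secC u), val p a η u z * tau χ u s (comp u ε z)

variable (p a η) in
/-- The star function of an invariant idempotent. -/
noncomputable def starFun (χ : IrrCharacter G) (ε : MonoidAlgebra (resField M) G) (x : G) : ℂ :=
  starTerm p a η χ ε (pp p x) (rp p x)

theorem starFun_of_isSec {u s : G} (h : IsSec p u s) (χ : IrrCharacter G)
    (ε : MonoidAlgebra (resField M) G) :
    starFun p a η χ ε (u * s) = starTerm p a η χ ε u s := by
  rw [starFun, h.pp_eq, h.rp_eq]

variable [CharP (resField M) p]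

theorem starTerm_eq_zero (hM : IsPModular p M) {u s : G} (h : IsSec p u s) (χ : IrrCharacter G)
    {ε : MonoidAlgebra (resField M) G} (h0 : brTrunc (Subgroup.zpowers u) ε = 0) :
    starTerm p a η χ ε u s = 0 :=
  Finset.sum_eq_zero fun z _ => by rw [comp, h0, zero_mul, tau_zero hM h, mul_zero]

theorem starTerm_sum (hM : IsPModular p M) {u s : G} (h : IsSec p u s) (χ : IrrCharacter G)
    {ι : Type*} (D : Finset ι) (f : ι → MonoidAlgebra (resField M) G)
    (hid : ∀ i ∈ D, f i * f i = f i) (hi : ∀ i ∈ D, IsInvElt (secGrp u s) (f i))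
    (hO : ∀ i ∈ D, ∀ i' ∈ D, i ≠ i' → f i * f i' = 0) :
    starTerm p a η χ (∑ i ∈ D, f i) u s = ∑ i ∈ D, starTerm p a η χ (f i) u s := by
  simp only [starTerm]
  rw [Finset.sum_comm]
  refine Finset.sum_congr rfl fun z hz => ?_
  have hzB := isBlk_of_mem hz
  rw [← Finset.mul_sum, show comp u (∑ i ∈ D, f i) z = ∑ i ∈ D, comp u (f i) z by
      rw [comp, brTrunc_sum, Finset.sum_mul]; rfl,
    tau_sum hM h χ D (fun i => comp u (f i) z) (fun i hi' => comp_idem h (hid i hi') (hi i hi') hzB)
      (fun i hi' => isInvElt_comp h (hi i hi') hzB)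
      fun i hi₁ j hj₁ hne => by
        rw [comp_mul h (hi i hi₁) (hi j hj₁) hzB, hO i hi₁ j hj₁ hne, comp, brTrunc_zero, zero_mul]]

theorem starTerm_equiv (hM : IsPModular p M) {u s : G} (h : IsSec p u s) (χ : IrrCharacter G)
    {x y : MonoidAlgebra (resField M) G} (hx : IsInvElt (secGrp u s) x)
    (hy : IsInvElt (secGrp u s) y) (h1 : x * y * (x * y) = x * y) (h2 : y * x * (y * x) = y * x) :
    starTerm p a η χ (x * y) u s = starTerm p a η χ (y * x) u s := by
  refine Finset.sum_congr rfl fun z hz => ?_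
  have hzB := isBlk_of_mem hz
  congr 1
  rw [← comp_mul h hx hy hzB, ← comp_mul h hy hx hzB]
  refine tau_equiv hM h χ (isInvElt_comp h hx hzB) (isInvElt_comp h hy hzB) ?_ ?_
  · rw [comp_mul h hx hy hzB, comp_idem h h1 (isInvElt_mul' hx hy) hzB]
  · rw [comp_mul h hy hx hzB, comp_idem h h2 (isInvElt_mul' hy hx) hzB]

theorem starTerm_conj (hM : IsPModular p M) (hη : IsStarFn p a η) {u s : G} (h : IsSec p u s)
    (χ : IrrCharacter G) (g : G) {ε : MonoidAlgebra (resField M) G} (hε : ε * ε = ε)
    (hi : IsInvElt (secGrp u s) ε) :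
    starTerm p a η χ (cj g ε) (g * u * g⁻¹) (g * s * g⁻¹) = starTerm p a η χ ε u s := by
  refine (Finset.sum_nbij' (cj g) (cj g⁻¹) ?_ ?_ ?_ ?_ ?_).symm
  · intro z hz
    have := (isBlk_of_mem hz).cj g
    rw [cjS_secC] at this
    exact mem_blks.2 this
  · intro z hz
    have := (isBlk_of_mem hz).cj g⁻¹
    rw [cjS_secC, show g⁻¹ * (g * u * g⁻¹) * g⁻¹⁻¹ = u by group] at this
    exact mem_blks.2 this
  · exact fun z _ => cj_inv_cj g z
  · exact fun z _ => cj_cj_inv g z
  · intro z hz
    have e : comp (g * u * g⁻¹) (cj g ε) (cj g z) = cj g (comp u ε z) := by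
      rw [comp, comp, map_mul, cj_brTrunc, cjS_zpowers]
    rw [val_conj hη, e, tau_conj hM h χ g (comp_idem h hε hi (isBlk_of_mem hz))
      (isInvElt_comp h hi (isBlk_of_mem hz))]

theorem starFun_conj (hM : IsPModular p M) (hη : IsStarFn p a η) (χ : IrrCharacter G) (g x : G)
    {ε : MonoidAlgebra (resField M) G} (hε : ε * ε = ε)
    (hi : IsInvElt (secGrp (pp p x) (rp p x)) ε) :
    starFun p a η χ (cj g ε) (g * x * g⁻¹) = starFun p a η χ ε x := by
  rw [starFun, starFun, pp_conj, rp_conj, starTerm_conj hM hη (isSec_parts x) χ g hε hi]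

end Cfsg.Agent.Star
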