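/-
The star product of a stable generalized character with a character is a generalized character.
-/
import Cfsg.Agent.Lib.Star.Base
import Cfsg.Agent.Lib.BrauerPairs.Maximal
import Cfsg.Agent.Lib.Char.BrauerInduction
import Cfsg.Agent.Lib.Char.PiPart

set_option linter.unusedSectionVars false
set_option linter.style.haveILetI false

namespace Cfsg.Agent.Star

open Cfsg MonoidAlgebra Cfsg.Agent.Blocks Cfsg.Agent.BrauerPairs Cfsg.Agent.Char

universe u

variable {G : Type u} [Group G] [Fintype G] {p : ℕ} [Fact p.Prime] {M : Ideal AlgInt} [M.IsPrime]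
  [CharP (resField M) p]
  {B : Set (IrrCharacter G)} {a : Pr (resField M) G} {η : G → ℂ} {U S : Subgroup G}

instance finiteDimensional_groupAlgebra :
    FiniteDimensional (resField M) (MonoidAlgebra (resField M) G) :=
  Module.Finite.equiv (MonoidAlgebra.coeffLinearEquiv (resField M)).symm

/-- Conjugation on the invariants of a normalised subgroup. -/
noncomputable def cjInv {K : Subgroup G} (g : G) (hg : g ∈ Subgroup.normalizer (K : Set G)) :
    invAlg (resField M) K ≃ₐ[resField M] invAlg (resField M) K where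
  toFun x := ⟨cj g x.1, mem_invAlg.2 (by
    have h := isInvElt_cj x.2 g
    rwa [cjS_eq_of_mem_normalizer hg] at h)⟩
  invFun x := ⟨cj g⁻¹ x.1, mem_invAlg.2 (by
    have h := isInvElt_cj x.2 g⁻¹
    rwa [cjS_eq_of_mem_normalizer (inv_mem hg)] at h)⟩
  left_inv x := Subtype.ext (cj_inv_cj g x.1)
  right_inv x := Subtype.ext (cj_cj_inv g x.1)
  map_mul' x y := Subtype.ext (map_mul (cj g) x.1 y.1)
  map_add' x y := Subtype.ext (map_add (cj g) x.1 y.1)
  commutes' c := Subtype.ext ((cj g).commutes c)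

theorem coe_cjInv_pow {K : Subgroup G} (g : G) (hg : g ∈ Subgroup.normalizer (K : Set G))
    (x : invAlg (resField M) K) (m : ℕ) :
    (((cjInv g hg ^ m) x : invAlg (resField M) K) : MonoidAlgebra (resField M) G) =
      cj (g ^ m) (x : MonoidAlgebra (resField M) G) := by
  induction m with
  | zero => rw [pow_zero, pow_zero, cj_one, AlgEquiv.one_apply]
  | succ m ih => rw [pow_succ', AlgEquiv.mul_apply, pow_succ' g, ← cj_cj, ← ih]; rfl

theorem isSec_of_mem (hU : IsPGroup p U) (hSU : S ≤ Subgroup.centralizer (U : Set G))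
    (hS : ∀ s ∈ S, ¬ p ∣ orderOf s) {u s : G} (hu : u ∈ U) (hs : s ∈ S) : IsSec p u s := by
  obtain ⟨i, hi⟩ := IsPGroup.iff_orderOf.1 hU ⟨u, hu⟩
  exact ⟨⟨i, by rw [← hi, Subgroup.orderOf_mk]⟩, hS s hs,
    Subgroup.mem_centralizer_iff.1 (hSU hs) u hu⟩

theorem pp_rp_of_mem (hU : IsPGroup p U) (hSU : S ≤ Subgroup.centralizer (U : Set G))
    (hS : ∀ s ∈ S, ¬ p ∣ orderOf s) {h : G} (hh : h ∈ U ⊔ S) :
    pp p h ∈ U ∧ rp p h ∈ S := by
  obtain ⟨u, hu, s, hs, rfl⟩ := exists_mul_of_mem_sup hSU hh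
  have hsec := isSec_of_mem hU hSU hS hu hs
  rw [hsec.pp_eq, hsec.rp_eq]
  exact ⟨hu, hs⟩

theorem secGrp_parts_le (hU : IsPGroup p U) (hSU : S ≤ Subgroup.centralizer (U : Set G))
    (hS : ∀ s ∈ S, ¬ p ∣ orderOf s) {h : G} (hh : h ∈ U ⊔ S) :
    secGrp (pp p h) (rp p h) ≤ U ⊔ S :=
  secGrp_le (Subgroup.mem_sup_left (pp_rp_of_mem hU hSU hS hh).1)
    (Subgroup.mem_sup_right (pp_rp_of_mem hU hSU hS hh).2)

/-- The case of a point with nonzero Brauer image. -/
theorem starFun_prim_pos (hM : IsPModular p M) (hmax : IsMax p (Ek M B) a)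
    (hη : IsStarFn p a η) (χ : IrrCharacter G) (hU : IsPGroup p U)
    (hSU : S ≤ Subgroup.centralizer (U : Set G)) (hS : ∀ s ∈ S, ¬ p ∣ orderOf s)
    {j : invAlg (resField M) (U ⊔ S)} (hj : IsPrim j)
    (hne : brTrunc U (j : MonoidAlgebra (resField M) G) ≠ 0) :
    IsGeneralizedCharacter ↥(U ⊔ S) fun h : ↥(U ⊔ S) =>
      starFun p a η χ (j : MonoidAlgebra (resField M) G) (h : G) := by
  classical
  haveI := DefOne.isAlgClosed_resField (M := M)
  obtain ⟨z, hz, hjz⟩ := exists_pair_of_prim hU hSU hj hne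
  have hjj : (j : MonoidAlgebra (resField M) G) * j = j := congrArg Subtype.val hj.idem
  obtain ⟨e, he, hei, her⟩ := exists_idem_lift hjj j.2
  have hval : ∀ u ∈ U, ∀ s ∈ S, ∃ zu, SubLE p ⊤ ((Subgroup.zpowers u, zu) : Pr (resField M) G) (U, z)
      ∧ starFun p a η χ (j : MonoidAlgebra (resField M) G) (u * s) =
        val p a η u zu * chiTr χ e (u * s) := by
    intro u hu s hs
    have hsec := isSec_of_mem hU hSU hS hu hs
    obtain ⟨zu, hzu, -⟩ := existsUnique_below hz (Subgroup.zpowers_le.2 hu)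
    have hb := brTrunc_mul_below hU hSU hj hne hz hjz _ _ hzu
    have hzB : IsBlk (secC u) zu := (hzu.left hz).blk
    have hinv : IsInvElt (secGrp u s) (j : MonoidAlgebra (resField M) G) :=
      isInvElt_mono (secGrp_le (Subgroup.mem_sup_left hu) (Subgroup.mem_sup_right hs)) j.2
    refine ⟨zu, hzu, ?_⟩
    rw [starFun_of_isSec hsec, starTerm, Finset.sum_eq_single zu]
    · congr 1
      refine tau_eq hM hsec (Subgroup.mem_sup_left hu) (Subgroup.mem_sup_right hs) χ he hei
        (comp_idem hsec hjj hinv hzB) (isInvElt_comp hsec hinv hzB) fun g hg => ?_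
      rw [comp, hb, coeff_brTrunc_pos, ← her, coeff_resG]
      rwa [centralizer_zpowers_eq]
    · intro z' hz' hne'
      rw [comp, ← hb, mul_assoc, hzB.mul_eq_zero (isBlk_of_mem hz') (Ne.symm hne'), mul_zero,
        tau_zero hM hsec, mul_zero]
    · exact fun h => absurd (mem_blks.2 hzB) h
  by_cases hex : ∃ g, SubLE p ⊤ (cjP g ((U, z) : Pr (resField M) G)) a
  · obtain ⟨g, hg⟩ := hex
    have hmem : ∀ h : ↥(U ⊔ S), g * pp p (h : G) * g⁻¹ ∈ a.1 := fun h =>
      hg.le ⟨pp p (h : G), (pp_rp_of_mem hU hSU hS h.2).1, rfl⟩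
    have hmul : ∀ h h' : ↥(U ⊔ S), pp p ((h : G) * h') = pp p (h : G) * pp p (h' : G) := by
      intro h h'
      obtain ⟨u, hu, s, hs, e1⟩ := exists_mul_of_mem_sup hSU h.2
      obtain ⟨u', hu', s', hs', e2⟩ := exists_mul_of_mem_sup hSU h'.2
      have hc : Commute u' s := Subgroup.mem_centralizer_iff.1 (hSU hs) u' hu'
      rw [← e1, ← e2, (isSec_of_mem hU hSU hS hu hs).pp_eq, (isSec_of_mem hU hSU hS hu' hs').pp_eq,
        show u * s * (u' * s') = u * u' * (s * s') by
          rw [mul_assoc u s, ← mul_assoc s u', ← hc.eq]; group,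
        (isSec_of_mem hU hSU hS (mul_mem hu hu') (mul_mem hs hs')).pp_eq]
    let π : ↥(U ⊔ S) →* a.1 := MonoidHom.mk' (fun h => ⟨g * pp p (h : G) * g⁻¹, hmem h⟩)
      fun h h' => Subtype.ext (by
        show g * pp p ((h : G) * h') * g⁻¹ = g * pp p (h : G) * g⁻¹ * (g * pp p (h' : G) * g⁻¹)
        rw [hmul]; group)
    have h1 := IsGeneralizedCharacter.mul (IsGeneralizedCharacter.comp hη.gen π)
      (IsGeneralizedCharacter.of_isCharacter (isCharacter_chiTr χ he hei))
    convert h1 using 1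
    funext h
    obtain ⟨u, hu, s, hs, e1⟩ := exists_mul_of_mem_sup hSU h.2
    obtain ⟨zu, hzu, hv⟩ := hval u hu s hs
    show _ = η ((π h : a.1) : G) * chiTr χ e (h : G)
    rw [← e1, hv, val_eq hη ((hzu.cjT g).trans hg)]
    congr 1
    show _ = η (g * pp p (h : G) * g⁻¹)
    rw [← e1, (isSec_of_mem hU hSU hS hu hs).pp_eq]
  · convert isGeneralizedCharacter_zero (G := ↥(U ⊔ S)) using 1
    funext h
    obtain ⟨u, hu, s, hs, e1⟩ := exists_mul_of_mem_sup hSU h.2
    obtain ⟨zu, hzu, hv⟩ := hval u hu s hs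
    rw [← e1, hv, val_eq_zero, zero_mul, Pi.zero_apply]
    intro g hg
    apply hex
    have h1 : IsPairOf p ⊤ (Ek M B) (cjP g ((Subgroup.zpowers u, zu) : Pr (resField M) G)) :=
      (hg.pairOf_iff).2 hmax.pairOf
    have h2 := (hzu.cjT g).pairOf_iff.1 h1
    obtain ⟨x, -, hx⟩ := exists_conj_subLE hmax.pairOf h2 hmax.isDef
    exact ⟨x * g, by rwa [← cjP_cjP]⟩

/-- A function supported on a normal subgroup of index `p` with the values of an induced
function. -/
theorem eq_indFun_of_transversal {H : Type u} [Group H] [Fintype H] (K : Subgroup H) (u₀ : H)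
    (hfree : ∀ m, m < p → u₀ ^ m ∈ K → m = 0) (hcov : ∀ h : H, ∃ m, m < p ∧ (u₀ ^ m)⁻¹ * h ∈ K)
    (φ : K → ℂ) (hφ : IsClassFunction K φ) (h : H) :
    Cfsg.indFun K φ h =
      ∑ m ∈ Finset.range p, Cfsg.extendByZero K φ ((u₀ ^ m)⁻¹ * h * u₀ ^ m) := by
  classical
  have hcl : ∀ (z : H) (k : K), Cfsg.extendByZero K φ ((k : H)⁻¹ * z * k) =
      Cfsg.extendByZero K φ z := by
    intro z k
    by_cases hz : z ∈ K
    · have e : (k : H)⁻¹ * z * k = ((k⁻¹ * ⟨z, hz⟩ * k : K) : H) := rfl
      rw [e, extendByZero_coe]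
      refine Eq.trans ?_ (extendByZero_coe K φ ⟨z, hz⟩).symm
      have h' := hφ ⟨z, hz⟩ k⁻¹
      rwa [inv_inv] at h' 
    · rw [extendByZero_not_mem K φ hz, extendByZero_not_mem K φ]
      exact fun h' => hz (by simpa [mul_assoc] using K.mul_mem (K.mul_mem k.2 h') (K.inv_mem k.2))
  have hinj : ∀ m, m < p → ∀ m', m' < p → ∀ k k' : K, u₀ ^ m * (k : H) = u₀ ^ m' * k' → m = m' := by
    intro m hm m' hm' k k' he
    rcases le_total m m' with hle | hle
    · rw [← Nat.add_sub_cancel' hle, pow_add, mul_assoc] at he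
      have h2 := mul_left_cancel he
      have := hfree (m' - m) (by omega) (by
        rw [eq_mul_inv_of_mul_eq h2.symm]; exact K.mul_mem k.2 (K.inv_mem k'.2))
      omega
    · rw [← Nat.add_sub_cancel' hle, pow_add, mul_assoc] at he
      have h2 := mul_left_cancel he
      have := hfree (m - m') (by omega) (by
        rw [eq_mul_inv_of_mul_eq h2]; exact K.mul_mem k'.2 (K.inv_mem k.2))
      omega
  have hsum : ∑ x : H, Cfsg.extendByZero K φ (x⁻¹ * h * x) =
      ∑ q ∈ Finset.range p ×ˢ (Finset.univ : Finset K),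
        Cfsg.extendByZero K φ ((u₀ ^ q.1)⁻¹ * h * u₀ ^ q.1) := by
    refine (Finset.sum_bij (fun q _ => u₀ ^ q.1 * (q.2 : H)) (fun _ _ => Finset.mem_univ _)
      ?_ ?_ ?_).symm
    · rintro ⟨m, k⟩ hq ⟨m', k'⟩ hq' he
      simp only [Finset.mem_product, Finset.mem_range, Finset.mem_univ, and_true] at hq hq'
      obtain rfl := hinj m hq m' hq' k k' he
      exact Prod.ext rfl (Subtype.ext (mul_left_cancel he))
    · intro x _
      obtain ⟨m, hm, hmK⟩ := hcov x
      exact ⟨(m, ⟨_, hmK⟩), Finset.mem_product.2 ⟨Finset.mem_range.2 hm, Finset.mem_univ _⟩,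
        mul_inv_cancel_left _ _⟩
    · rintro ⟨m, k⟩ -
      rw [← hcl _ k]
      congr 1
      group
  rw [indFun_apply, hsum, Finset.sum_product]
  simp only [Finset.sum_const, Finset.card_univ, nsmul_eq_mul, ← Nat.card_eq_fintype_card]
  rw [← Finset.mul_sum, inv_mul_cancel_left₀ (Nat.cast_ne_zero.2 Nat.card_pos.ne')]

/-- The case of a point which is a relative trace. -/
theorem starFun_prim_zero (hM : IsPModular p M) (hη : IsStarFn p a η) (χ : IrrCharacter G)
    (hU : IsPGroup p U) (hSU : S ≤ Subgroup.centralizer (U : Set G))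
    (hS : ∀ s ∈ S, ¬ p ∣ orderOf s) {j : invAlg (resField M) (U ⊔ S)} (hj : IsPrim j)
    (h0 : brTrunc U (j : MonoidAlgebra (resField M) G) = 0)
    (ih : ∀ V : Subgroup G, V < U → ∀ i : MonoidAlgebra (resField M) G, i * i = i →
      IsInvElt (V ⊔ S) i →
      IsGeneralizedCharacter ↥(V ⊔ S) fun h : ↥(V ⊔ S) => starFun p a η χ i (h : G)) :
    IsGeneralizedCharacter ↥(U ⊔ S) fun h : ↥(U ⊔ S) =>
      starFun p a η χ (j : MonoidAlgebra (resField M) G) (h : G) := by
  classical
  haveI := DefOne.isAlgClosed_resField (M := M)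
  obtain ⟨V, u₀, α, hVU, hN, hu₀, hu₀p, hfree, hcov, hαi, hjαj, hsum⟩ :=
    exists_trace_of_br_eq_zero hU hSU hS hj h0
  have hVp : IsPGroup p V := hU.to_le hVU.le
  have hSV : S ≤ Subgroup.centralizer (V : Set G) := hSU.trans (Subgroup.centralizer_le hVU.le)
  have hNS : U ≤ Subgroup.normalizer ((V ⊔ S : Subgroup G) : Set G) := fun u hu =>
    mem_normalizer_of_cjS_eq (by
      have e2 : cjS u S = S := by
        ext g
        rw [mem_cjS]
        constructor
        · intro hg
          have h1 : Commute u (u⁻¹ * g * u) := Subgroup.mem_centralizer_iff.1 (hSU hg) u hu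
          have h2 : g = u⁻¹ * g * u := by
            calc g = u * (u⁻¹ * g * u) * u⁻¹ := by group
              _ = u⁻¹ * g * u * u * u⁻¹ := by rw [h1.eq]
              _ = u⁻¹ * g * u := by group
          exact h2 ▸ hg
        · intro hg
          have h1 : Commute u g := Subgroup.mem_centralizer_iff.1 (hSU hg) u hu
          rw [show u⁻¹ * g * u = g by rw [mul_assoc, ← h1.eq, inv_mul_cancel_left]]
          exact hg
      show (V ⊔ S).map _ = _
      rw [Subgroup.map_sup]
      exact congrArg₂ (· ⊔ ·) (cjS_eq_of_mem_normalizer (hN hu)) e2)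
  have hKH : V ⊔ S ≤ U ⊔ S := sup_le_sup_right hVU.le S
  have hjj : (j : MonoidAlgebra (resField M) G) * j = j := congrArg Subtype.val hj.idem
  let σ : invAlg (resField M) (V ⊔ S) ≃ₐ[resField M] invAlg (resField M) (V ⊔ S) :=
    cjInv u₀ (hNS hu₀)
  let e : invAlg (resField M) (V ⊔ S) :=
    ⟨(j : MonoidAlgebra (resField M) G), isInvElt_mono hKH j.2⟩
  let α' : invAlg (resField M) (V ⊔ S) := ⟨α, hαi⟩
  have hσp : ∀ x, (σ ^ p) x = x := fun x => Subtype.ext (by
    rw [coe_cjInv_pow]
    exact isInvElt_iff_cj.1 x.2 _ (Subgroup.mem_sup_left hu₀p))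
  have hsecGrp : ∀ x ∈ V ⊔ S, secGrp (pp p x) (rp p x) ≤ V ⊔ S := fun x hx =>
    secGrp_parts_le hVp hSV hS hx
  obtain ⟨w, hw, hwsum⟩ := exists_weights (k := resField M) (p := p) Fact.out σ hσp (e := e)
    (a := α') (Subtype.ext hjj)
    (Subtype.ext (isInvElt_iff_cj.1 j.2 _ (Subgroup.mem_sup_left hu₀)))
    (Subtype.ext hjαj)
    (Subtype.ext (by
      rw [AddSubmonoidClass.coe_finset_sum]
      simp only [σ, coe_cjInv_pow]
      exact hsum))
    (fun (i : invAlg (resField M) (V ⊔ S)) (h : ↥(V ⊔ S)) =>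
      starFun p a η χ (i : MonoidAlgebra (resField M) G) (h : G))
    (fun D hid hO => by
      funext h
      rw [Finset.sum_apply, AddSubmonoidClass.coe_finset_sum]
      exact starTerm_sum hM (isSec_parts _) χ D (fun i => (i : MonoidAlgebra (resField M) G))
        (fun i hi => congrArg Subtype.val (hid i hi))
        (fun i _ => isInvElt_mono (hsecGrp _ h.2) i.2)
        fun i hi i' hi' hne => congrArg Subtype.val (hO i hi i' hi' hne))
    (fun i i' x y hi hi' _ _ h3 h4 => by
      funext h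
      have e3 := congrArg Subtype.val h3
      have e4 := congrArg Subtype.val h4
      show starFun p a η χ _ _ = starFun p a η χ _ _
      rw [← e3, ← e4]
      have i3 : (x : MonoidAlgebra (resField M) G) * y * ((x : MonoidAlgebra (resField M) G) * y) =
          (x : MonoidAlgebra (resField M) G) * y := by
        rw [show (x : MonoidAlgebra (resField M) G) * y = i from e3]
        exact congrArg Subtype.val hi.idem
      have i4 : (y : MonoidAlgebra (resField M) G) * x * ((y : MonoidAlgebra (resField M) G) * x) =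
          (y : MonoidAlgebra (resField M) G) * x := by
        rw [show (y : MonoidAlgebra (resField M) G) * x = i' from e4]
        exact congrArg Subtype.val hi'.idem
      exact starTerm_equiv hM (isSec_parts _) χ (isInvElt_mono (hsecGrp _ h.2) x.2)
        (isInvElt_mono (hsecGrp _ h.2) y.2) i3 i4)
  -- vanishing off `V`
  have hzero : ∀ u ∈ U, u ∉ V → ∀ s ∈ S,
      starFun p a η χ (j : MonoidAlgebra (resField M) G) (u * s) = 0 := by
    intro u hu huV s hs
    have hsec := isSec_of_mem hU hSU hS hu hs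
    rw [starFun_of_isSec hsec]
    refine starTerm_eq_zero hM hsec χ (gaExt fun g => ?_)
    rw [MonoidAlgebra.coeff_zero, Finsupp.coe_zero, Pi.zero_apply]
    by_cases hg : g ∈ Subgroup.centralizer (Subgroup.zpowers u : Set G)
    · rw [coeff_brTrunc_pos hg, ← hsum, MonoidAlgebra.coeff_sum, Finset.sum_apply']
      obtain ⟨i, hip, hiV⟩ := hcov u hu
      have hpowmem : ∀ t : ℕ, (u₀ ^ (i * t))⁻¹ * u ^ t ∈ V := by
        intro t
        induction t with
        | zero => simp [V.one_mem]
        | succ t iht =>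
          have hn := hN hu
          have h1 : (u₀ ^ (i * t))⁻¹ * u ^ t ∈ V := iht
          have h2 : u⁻¹ * ((u₀ ^ (i * t))⁻¹ * u ^ t) * u ∈ V := by
            have := (Subgroup.mem_normalizer_iff.1 (inv_mem hn) _).1 h1
            rwa [inv_inv] at this
          have e' : (u₀ ^ (i * (t + 1)))⁻¹ * u ^ (t + 1) =
              (u₀ ^ i)⁻¹ * u * (u⁻¹ * ((u₀ ^ (i * t))⁻¹ * u ^ t) * u) := by
            rw [Nat.mul_succ, pow_add, pow_succ u t]
            group
          rw [e']
          exact V.mul_mem hiV h2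
      have hconst : ∀ m ∈ Finset.range p, (cj (u₀ ^ m) α).coeff g = α.coeff g := by
        intro m hm
        have hi0 : i ≠ 0 := by
          rintro rfl
          rw [pow_zero, inv_one, one_mul] at hiV
          exact huV hiV
        obtain ⟨t, -, ht⟩ := Nat.exists_mul_mod_eq_one_of_coprime
          (show i.Coprime p from (((Fact.out : p.Prime).coprime_iff_not_dvd).2 fun h =>
            absurd (Nat.le_of_dvd (Nat.pos_of_ne_zero hi0) h) (not_le.2 hip)).symm)
          (Fact.out : p.Prime).one_lt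
        have h1 := hpowmem (t * m)
        have e1 : u₀ ^ (i * (t * m)) = u₀ ^ m * (u₀ ^ p) ^ (i * t / p * m) := by
          rw [← pow_mul, ← pow_add]
          congr 1
          have := Nat.div_add_mod (i * t) p
          rw [ht] at this
          calc i * (t * m) = i * t * m := (mul_assoc _ _ _).symm
            _ = (p * (i * t / p) + 1) * m := by rw [this]
            _ = m + p * (i * t / p * m) := by ring
        set v := (u₀ ^ m)⁻¹ * u ^ (t * m) with hv
        have hvV : v ∈ V := by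
          rw [e1, _root_.mul_inv_rev, mul_assoc] at h1
          exact (V.mul_mem_cancel_left (V.inv_mem (V.pow_mem hu₀p _))).1 h1
        have h3 : cj (u₀ ^ m) α = cj (u ^ (t * m)) α := by
          rw [show u ^ (t * m) = u₀ ^ m * v by rw [hv, mul_inv_cancel_left], ← cj_cj,
            isInvElt_iff_cj.1 hαi v (Subgroup.mem_sup_left hvV)]
        have h4 : Commute (u ^ (t * m)) g :=
          ((show Commute g u from mem_centralizer_zpowers.1 hg).symm).pow_left _
        rw [h3, coeff_cj, mul_assoc, ← h4.eq, inv_mul_cancel_left]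
      rw [Finset.sum_congr rfl hconst, Finset.sum_const, Finset.card_range, nsmul_eq_mul,
        CharP.cast_eq_zero, zero_mul]
    · rw [coeff_brTrunc_neg hg]
  -- comparison with induced functions
  set H := U ⊔ S with hH
  set K := (V ⊔ S).subgroupOf H with hK
  let u₀' : ↥H := ⟨u₀, Subgroup.mem_sup_left hu₀⟩
  let ι : K →* ↥(V ⊔ S) := MonoidHom.mk' (fun k => ⟨((k : ↥H) : G), k.2⟩) fun _ _ => rfl
  let φ : invAlg (resField M) (V ⊔ S) → K → ℂ := fun i k =>
    starFun p a η χ (i : MonoidAlgebra (resField M) G) ((k : ↥H) : G)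
  have hφgen : ∀ i : invAlg (resField M) (V ⊔ S), IsPrim i → IsGeneralizedCharacter K (φ i) :=
    fun i hi => IsGeneralizedCharacter.comp (ih V hVU _ (congrArg Subtype.val hi.idem) i.2) ι
  have hfree' : ∀ m, m < p → u₀' ^ m ∈ K → m = 0 := fun m hm hmK => by
    refine hfree m hm ?_
    have h1 : u₀ ^ m ∈ V ⊔ S := hmK
    have h2 := (pp_rp_of_mem hVp hSV hS h1).1
    have h3 : IsSec p (u₀ ^ m) 1 := isSec_of_mem hU hSU hS (pow_mem hu₀ m) S.one_mem
    have h4 := h3.pp_eq
    rw [mul_one] at h4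
    rwa [h4] at h2
  have hcov' : ∀ h : ↥H, ∃ m, m < p ∧ (u₀' ^ m)⁻¹ * h ∈ K := fun h => by
    obtain ⟨u, hu, s, hs, e1⟩ := exists_mul_of_mem_sup hSU h.2
    obtain ⟨m, hm, hmV⟩ := hcov u hu
    refine ⟨m, hm, ?_⟩
    show (u₀ ^ m)⁻¹ * (h : G) ∈ V ⊔ S
    rw [← e1, ← mul_assoc]
    exact mul_mem (Subgroup.mem_sup_left hmV) (Subgroup.mem_sup_right hs)
  have hgen : IsGeneralizedCharacter ↥H
      (∑ i ∈ w.support, ((w i : ℤ) : ℂ) • Cfsg.indFun K (φ i)) :=
    isGeneralizedCharacter_sum _ fun i hi =>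
      IsGeneralizedCharacter.int_smul (IsGeneralizedCharacter.indFun K (hφgen i (hw i hi).1)) _
  convert hgen using 1
  funext h
  rw [Finset.sum_apply]
  simp only [Pi.smul_apply, smul_eq_mul]
  rw [Finset.sum_congr rfl fun i hi => by rw [eq_indFun_of_transversal K u₀' hfree' hcov' (φ i)
    (IsGeneralizedCharacter.isClassFunction (hφgen i (hw i hi).1))]]
  obtain ⟨u, hu, s, hs, e1⟩ := exists_mul_of_mem_sup hSU h.2
  by_cases huV : u ∈ V
  · have hhK : (h : G) ∈ V ⊔ S := e1 ▸ mul_mem (Subgroup.mem_sup_left huV) (Subgroup.mem_sup_right hs)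
    have h1 := congrFun hwsum ⟨(h : G), hhK⟩
    rw [Finsupp.sum, Finset.sum_apply] at h1
    refine h1.trans (Finset.sum_congr rfl fun i hi => ?_)
    rw [Pi.smul_apply, Finset.sum_apply, nsmul_eq_mul, Int.cast_natCast]
    congr 1
    refine Finset.sum_congr rfl fun m _ => ?_
    set g := u₀ ^ m with hg
    have hgN : g ∈ Subgroup.normalizer ((V ⊔ S : Subgroup G) : Set G) := hNS (pow_mem hu₀ m)
    have hmem : g⁻¹ * (h : G) * g ∈ V ⊔ S := by
      have h1 := (Subgroup.mem_normalizer_iff.1 (inv_mem hgN) (h : G)).1 hhK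
      rwa [inv_inv] at h1
    have e2 : ((u₀' ^ m)⁻¹ * h * u₀' ^ m : ↥H) = ((⟨(u₀' ^ m)⁻¹ * h * u₀' ^ m, hmem⟩ : K) : ↥H) :=
      rfl
    rw [e2, extendByZero_coe]
    show starFun p a η χ (((σ ^ m) i : invAlg (resField M) (V ⊔ S)) : MonoidAlgebra _ G) (h : G) =
      starFun p a η χ (i : MonoidAlgebra (resField M) G) (g⁻¹ * (h : G) * g)
    rw [coe_cjInv_pow, show (h : G) = g * (g⁻¹ * (h : G) * g) * g⁻¹ by group,
      starFun_conj hM hη χ g _ (congrArg Subtype.val (hw i hi).1.idem)
        (isInvElt_mono (hsecGrp _ hmem) i.2)]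
    congr 1
    group
  · rw [← e1, hzero u hu huV s hs]
    refine (Finset.sum_eq_zero fun i _ => ?_).symm
    rw [Finset.sum_eq_zero fun m _ => extendByZero_not_mem K (φ i) ?_, mul_zero]
    intro hmK
    have h1 : (u₀ ^ m)⁻¹ * (h : G) * u₀ ^ m ∈ V ⊔ S := hmK
    have h2 := (Subgroup.mem_normalizer_iff.1 (hNS (pow_mem hu₀ m)) _).1 h1
    rw [show u₀ ^ m * ((u₀ ^ m)⁻¹ * (h : G) * u₀ ^ m) * (u₀ ^ m)⁻¹ = (h : G) by group, ← e1] at h2
    have h3 := (pp_rp_of_mem hVp hSV hS h2).1
    rw [(isSec_of_mem hU hSU hS hu hs).pp_eq] at h3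
    exact huV h3

/-- The star function of an invariant idempotent is a generalized character of the subgroup. -/
theorem isGeneralizedCharacter_starFun_sup (hM : IsPModular p M) (hmax : IsMax p (Ek M B) a)
    (hη : IsStarFn p a η) (χ : IrrCharacter G) :
    ∀ U : Subgroup G, IsPGroup p U → ∀ S : Subgroup G, S ≤ Subgroup.centralizer (U : Set G) →
      (∀ s ∈ S, ¬ p ∣ orderOf s) → ∀ ε : MonoidAlgebra (resField M) G, ε * ε = ε →
      IsInvElt (U ⊔ S) ε →
      IsGeneralizedCharacter ↥(U ⊔ S) fun h : ↥(U ⊔ S) => starFun p a η χ ε (h : G) := by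
  classical
  haveI := DefOne.isAlgClosed_resField (M := M)
  intro U
  induction hn : Nat.card U using Nat.strong_induction_on generalizing U with
  | _ n ih =>
    intro hU S hSU hS ε hε hεi
    obtain ⟨Sp⟩ := nonempty_splitting (k := resField M) (A := invAlg (resField M) (U ⊔ S))
    obtain ⟨D, hD, hO, hs⟩ := Sp.exists_decomp ⟨ε, hεi⟩ (Subtype.ext hε)
    have hD' : IsGeneralizedCharacter ↥(U ⊔ S) (∑ j ∈ D, fun h : ↥(U ⊔ S) =>
        starFun p a η χ (j : MonoidAlgebra (resField M) G) (h : G)) := by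
      refine isGeneralizedCharacter_sum _ fun j hj => ?_
      by_cases h0 : brTrunc U (j : MonoidAlgebra (resField M) G) = 0
      · refine starFun_prim_zero hM hη χ hU hSU hS (hD j hj).1 h0 fun V hV i hi hii => ?_
        refine ih _ ?_ V rfl (hU.to_le hV.le) S (hSU.trans (Subgroup.centralizer_le hV.le)) hS i
          hi hii
        rw [← hn]
        exact lt_of_le_of_ne (Subgroup.card_le_of_le hV.le) fun he => hV.ne
          (Subgroup.eq_of_le_of_card_ge hV.le he.ge)
      · exact starFun_prim_pos hM hmax hη χ hU hSU hS (hD j hj).1 h0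
    convert hD' using 1
    funext h
    rw [Finset.sum_apply]
    have hsum : ε = ∑ j ∈ D, (j : MonoidAlgebra (resField M) G) := by
      rw [← AddSubmonoidClass.coe_finset_sum, hs]
    rw [hsum]
    exact starTerm_sum hM (isSec_parts _) χ D (fun i => (i : MonoidAlgebra (resField M) G))
      (fun i hi => congrArg Subtype.val (hD i hi).1.idem)
      (fun i _ => isInvElt_mono (secGrp_parts_le hU hSU hS h.2) i.2)
      fun i hi i' hi' hne => congrArg Subtype.val (hO i hi i' hi' hne)

variable (p a η) in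
/-- The star product. -/
noncomputable def star (χ : IrrCharacter G) : G → ℂ := starFun p a η χ 1

theorem isClassFunction_star (hM : IsPModular p M) (hη : IsStarFn p a η) (χ : IrrCharacter G) :
    IsClassFunction G (star p a η χ) := fun g h => by
  rw [star]
  conv_lhs => rw [show (1 : MonoidAlgebra (resField M) G) = cj h 1 from (map_one _).symm]
  exact starFun_conj hM hη χ h g (mul_one 1) (isInvElt_one _)

/-- Brauer's criterion: the star product is a generalized character. -/
theorem isGeneralizedCharacter_star (hM : IsPModular p M) (hmax : IsMax p (Ek M B) a)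
    (hη : IsStarFn p a η) (χ : IrrCharacter G) : IsGeneralizedCharacter G (star p a η χ) := by
  classical
  refine isGeneralizedCharacter_of_elementary (isClassFunction_star hM hη χ) fun E q hq hE => ?_
  have hp : p.Prime := Fact.out
  set N := Nat.card E with hN
  set m := p ^ N.factorization p with hm
  set n := N / p ^ N.factorization p with hn
  have hco : Nat.Coprime m n := (Nat.coprime_ordCompl hp Nat.card_pos.ne').pow_left _
  have hmn : Nat.card E ∣ m * n := (Nat.ordProj_mul_ordCompl_eq_self N p).symm.dvd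
  have hnm : Nat.card E ∣ n * m := by rwa [mul_comm]
  let π := hallHom hq hE hco hmn
  let π' := hallHom hq hE hco.symm hnm
  set U := π.range.map E.subtype with hUdef
  set S := π'.range.map E.subtype with hSdef
  have hU : IsPGroup p U := by
    obtain ⟨i, -, hi⟩ := (Nat.dvd_prime_pow hp).1 (card_range_hallHom_dvd hq hE hco hmn)
    refine IsPGroup.of_card (n := i) ?_
    rw [hUdef, Subgroup.card_map_of_injective (Subgroup.subtype_injective E), hi]
  have hS : ∀ s ∈ S, ¬ p ∣ orderOf s := by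
    intro s hs hd
    have h1 := (hd.trans (Subgroup.orderOf_dvd_natCard S hs))
    rw [hSdef, Subgroup.card_map_of_injective (Subgroup.subtype_injective E)] at h1
    exact Nat.not_dvd_ordCompl hp Nat.card_pos.ne'
      (h1.trans (card_range_hallHom_dvd hq hE hco.symm hnm))
  have hSU : S ≤ Subgroup.centralizer (U : Set G) := by
    rintro _ ⟨_, ⟨y, rfl⟩, rfl⟩
    refine Subgroup.mem_centralizer_iff.2 ?_
    rintro _ ⟨_, ⟨x, rfl⟩, rfl⟩
    exact congrArg (E.subtype) (hallHom_commute hq hE hco hmn (a := π x) (b := π' y)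
      (hallExp_pow_pow hco (pow_card_mul hmn x))
      (hallExp_pow_pow hco.symm (pow_card_mul hnm y)))
  have hE' : ∀ e : E, (e : G) ∈ U ⊔ S := fun e => by
    rw [← hallExp_mul hco (pow_card_mul hmn e), Subgroup.coe_mul]
    exact mul_mem (Subgroup.mem_sup_left ⟨π e, ⟨e, rfl⟩, rfl⟩)
      (Subgroup.mem_sup_right ⟨π' e, ⟨e, rfl⟩, rfl⟩)
  exact IsGeneralizedCharacter.comp
    (isGeneralizedCharacter_starFun_sup hM hmax hη χ U hU S hSU hS 1 (mul_one 1) (isInvElt_one _))
    (Subgroup.inclusion (fun x hx => hE' ⟨x, hx⟩))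

end Cfsg.Agent.Star
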