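/-
The star product on the sections: values, inner products, constituents.
-/
import Cfsg.Agent.Lib.Star.Gen
import Cfsg.Agent.Lib.BrauerPairs.AbelianInertia
import Cfsg.Agent.Lib.BrauerPairs.Contribution
import Cfsg.Agent.Lib.Blocks.SubsectionRow

set_option linter.unusedSectionVars false
set_option linter.style.haveILetI false

namespace Cfsg.Agent.Star

open Cfsg MonoidAlgebra Cfsg.Agent.Blocks Cfsg.Agent.BrauerPairs Cfsg.Agent.Char
open scoped ComplexConjugate

universe u

variable {G : Type u} [Group G] [Fintype G] {p : ℕ} [Fact p.Prime] {M : Ideal AlgInt} [M.IsPrime]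
  {B : Set (IrrCharacter G)} {a : Pr (resField M) G} {η : G → ℂ}

/-- Induction from the centraliser of a `p`-element is inclusion of the pair in the block. -/
theorem induced_iff_pairOf (hM : IsPModular p M) (hB : IsPBlock M B) {u : G}
    (hu : ∃ i, orderOf u = p ^ i) {C : Subgroup G}
    (hC : C = Subgroup.centralizer ({u} : Set G)) {b : Set (IrrCharacter C)}
    (hb : IsPBlock M b) :
    IsInducedBlock M C b B ↔ IsPairOf p ⊤ (Ek M B) (Subgroup.zpowers u, zB M C b) := by
  obtain ⟨i, hi⟩ := hu
  have hC' : C = Subgroup.centralizer (Subgroup.zpowers u : Set G) := by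
    rw [centralizer_zpowers_eq]; exact hC
  have hself := pairOf_self (M := M) hb
    (IsPGroup.of_card (n := i) (by rw [Nat.card_zpowers, hi]) : IsPGroup p (Subgroup.zpowers u))
    (by rw [hC]; exact zpowers_le_centralizer_self u) hC'
  exact ⟨fun h => pairOf_of_induced hM h hself hC'.ge,
    fun h => induced_of_pairOf hM hb hB hself hC'.ge h⟩

section Orth

variable {H : Type*} [Group H] [Fintype H]

theorem blockPart_regular_orth {b b' : Set (IrrCharacter H)} (hM : IsPModular p M)
    (hb : IsPBlock M b) (hb' : IsPBlock M b') (hne : b ≠ b') (f g : H → ℂ)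
    [DecidablePred fun s : H => ¬ p ∣ orderOf s] :
    ∑ s ∈ Finset.univ.filter (fun s : H => ¬ p ∣ orderOf s),
      blockPart b f s * conj (blockPart b' g s) = 0 := by
  classical
  simp only [blockPart_eq_sum, map_sum, map_mul, Finset.sum_mul_sum]
  rw [Finset.sum_comm]
  refine Finset.sum_eq_zero fun φ hφ => ?_
  rw [Finset.sum_comm]
  refine Finset.sum_eq_zero fun ψ hψ => ?_
  rw [Finset.sum_congr rfl fun s _ => show
    classInner f (φ : H → ℂ) * (φ : H → ℂ) s *
      (conj (classInner g (ψ : H → ℂ)) * conj ((ψ : H → ℂ) s)) =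
    classInner f (φ : H → ℂ) * conj (classInner g (ψ : H → ℂ)) *
      ((φ : H → ℂ) s * conj ((ψ : H → ℂ) s)) by ring, ← Finset.mul_sum,
    sum_regular_eq_zero hM fun h => hne (isPBlock_eq_of_mem hb hb'
      (isPBlock_mem_of_sameBlock hb (Finset.mem_filter.1 hφ).2 h) (Finset.mem_filter.1 hψ).2),
    mul_zero]

/-- The block part of a blockwise scaled function. -/
theorem blockPart_scale {b : Set (IrrCharacter H)} (hb : IsPBlock M b)
    (v : Set (IrrCharacter H) → ℂ) (f : H → ℂ) (s : H) :
    blockPart b (fun w => ∑ b' ∈ blocks M H, v b' * blockPart b' f w) s =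
      v b * blockPart b f s := by
  classical
  have e : (fun w => ∑ b' ∈ blocks M H, v b' * blockPart b' f w) =
      ∑ φ : IrrCharacter H, (v (blockOf M (φ : H → ℂ)) * classInner f (φ : H → ℂ)) • (φ : H → ℂ) := by
    funext w
    simp only [blockPart_eq_sum, Finset.mul_sum, Finset.sum_apply, Pi.smul_apply, smul_eq_mul,
      Finset.sum_filter]
    rw [Finset.sum_comm]
    refine Finset.sum_congr rfl fun φ _ => ?_
    rw [Finset.sum_eq_single (blockOf M (φ : H → ℂ)), if_pos (self_mem_blockOf φ)]
    · ring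
    · intro b' hb' hne
      rw [if_neg fun h => hne (isPBlock_eq_blockOf (mem_blocks.1 hb') h), mul_zero]
    · exact fun h => absurd (mem_blocks.2 (isPBlock_blockOf φ)) h
  rw [e, blockPart_eq_sum, blockPart_eq_sum, Finset.mul_sum]
  refine Finset.sum_congr rfl fun φ hφ => ?_
  rw [classInner_combination, ← isPBlock_eq_blockOf hb (Finset.mem_filter.1 hφ).2]
  ring

end Orth

/-! ## The values on a section -/

variable [CharP (resField M) p]

theorem blks_eq_image (H : Subgroup G) [DecidableEq (MonoidAlgebra (resField M) G)] :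
    blks (resField M) H = (blocks M H).image (zB M H) := by
  ext z
  rw [mem_blks, Finset.mem_image]
  constructor
  · intro hz
    obtain ⟨b, hb, rfl⟩ := exists_eq_zB hz
    exact ⟨b, mem_blocks.2 hb, rfl⟩
  · rintro ⟨b, hb, rfl⟩
    exact isBlk_zB H (mem_blocks.1 hb)

theorem starTerm_one (hM : IsPModular p M) {u s : G} (h : IsSec p u s) (χ : IrrCharacter G) :
    starTerm p a η χ 1 u s = ∑ b ∈ blocks M (secC u), val p a η u (zB M (secC u) b) *
      blockPart b (secFun u (secC u) (χ : G → ℂ))
        ⟨s, h.secGrp_le_secC (mem_secGrp_right u s)⟩ := by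
  classical
  rw [starTerm, blks_eq_image, Finset.sum_image fun b hb b' hb' e =>
    zB_injective _ (mem_blocks.1 hb) (mem_blocks.1 hb') e]
  refine Finset.sum_congr rfl fun b hb => ?_
  rw [comp, brTrunc_one, one_mul, tau_zB hM h (secC_eq u) (mem_blocks.1 hb) χ]

/-- The second main theorem for pairs. -/
theorem blockPart_eq_zero_of_not_pair (hM : IsPModular p M) (hB : IsPBlock M B) {u : G}
    (hu : ∃ i, orderOf u = p ^ i) {χ : IrrCharacter G} (hχ : χ ∈ B)
    {b : Set (IrrCharacter (secC u))} (hb : IsPBlock M b)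
    (hn : ¬ IsPairOf p ⊤ (Ek M B) (Subgroup.zpowers u, zB M (secC u) b))
    {s : secC u} (hs : ¬ p ∣ orderOf s) :
    blockPart b (secFun u (secC u) (χ : G → ℂ)) s = 0 :=
  blockPart_secFun_eq_zero hM hu (secC_eq u) hB hχ hb
    (fun h => hn ((induced_iff_pairOf hM hB hu (secC_eq u) hb).1 h)) hs

theorem exists_subLE_of_pairOf (hmax : IsMax p (Ek M B) a) {b : Pr (resField M) G}
    (hb : IsPairOf p ⊤ (Ek M B) b) : ∃ g, SubLE p ⊤ (cjP g b) a := by
  obtain ⟨x, -, hx⟩ := exists_conj_subLE hmax.pairOf hb hmax.isDef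
  exact ⟨x, hx⟩

theorem pairOf_of_subLE (hmax : IsMax p (Ek M B) a) {b : Pr (resField M) G} {g : G}
    (hg : SubLE p ⊤ (cjP g b) a) : IsPairOf p ⊤ (Ek M B) b := by
  have h := (hg.pairOf_iff.2 hmax.pairOf).cj' (Subgroup.mem_top g⁻¹)
  rwa [cjP_cjP, inv_mul_cancel, cjP_one] at h

theorem val_mul (hmax : IsMax p (Ek M B) a) {η' : G → ℂ} (hη : IsStarFn p a η)
    (hη' : IsStarFn p a η') (hηη : IsStarFn p a fun x => η x * η' x) (u : G)
    (z : MonoidAlgebra (resField M) G) :
    val p a η u z * val p a η' u z = val p a (fun x => η x * η' x) u z := by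
  by_cases h : ∃ g, SubLE p ⊤ (cjP g ((Subgroup.zpowers u, z) : Pr (resField M) G)) a
  · obtain ⟨g, hg⟩ := h
    rw [val_eq hη hg, val_eq hη' hg, val_eq hηη hg]
  · push Not at h
    rw [val_eq_zero h, val_eq_zero h, val_eq_zero h, mul_zero]

/-- On the regular elements the star product is a multiple of the character. -/
theorem val_one (hmax : IsMax p (Ek M B) a) (hη : IsStarFn p a η) {z : MonoidAlgebra (resField M) G}
    (hz : IsPairOf p ⊤ (Ek M B) (Subgroup.zpowers (1 : G), z)) : val p a η 1 z = η 1 := by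
  obtain ⟨g, hg⟩ := exists_subLE_of_pairOf hmax hz
  rw [val_eq hη hg]
  simp

theorem star_regular (hM : IsPModular p M) (hB : IsPBlock M B) (hmax : IsMax p (Ek M B) a)
    (hη : IsStarFn p a η) {χ : IrrCharacter G} (hχ : χ ∈ B) {x : G} (hx : ¬ p ∣ orderOf x) :
    star p a η χ x = η 1 * (χ : G → ℂ) x := by
  classical
  have h : IsSec p 1 x := ⟨⟨0, by simp⟩, hx, Commute.one_left x⟩
  rw [star, ← one_mul x, starFun_of_isSec h, starTerm_one hM h, one_mul]
  have hcl : IsClassFunction (secC (1 : G)) (secFun 1 (secC (1 : G)) (χ : G → ℂ)) :=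
    isClassFunction_secFun (secC_eq 1) (IsCharacter.isClassFunction (irr_isCharacter χ))
  have hs := sum_blockPart (M := M) hcl ⟨x, h.secGrp_le_secC (mem_secGrp_right 1 x)⟩
  rw [show secFun 1 (secC (1 : G)) (χ : G → ℂ) ⟨x, h.secGrp_le_secC (mem_secGrp_right 1 x)⟩ =
    (χ : G → ℂ) x by rw [secFun, one_mul]] at hs
  rw [← hs, Finset.mul_sum]
  refine Finset.sum_congr rfl fun b hb => ?_
  by_cases hp : IsPairOf p ⊤ (Ek M B) (Subgroup.zpowers (1 : G), zB M (secC (1 : G)) b)
  · rw [val_one hmax hη hp]
  · rw [blockPart_eq_zero_of_not_pair hM hB h.pow hχ (mem_blocks.1 hb) hp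
      (by rw [← Subgroup.orderOf_coe]; exact hx), mul_zero, mul_zero]

open scoped Classical in
/-- The sums over the sections. -/
theorem sum_eq_sum_sections (F : G → ℂ) :
    ∑ x, F x = ∑ u : G, if (∃ i, orderOf u = p ^ i) then
      ∑ s ∈ (Finset.univ : Finset (secC u)).filter (fun s => ¬ p ∣ orderOf s), F (u * (s : G))
      else 0 := by
  classical
  rw [← Finset.sum_fiberwise (Finset.univ : Finset G) (pp p) F]
  refine Finset.sum_congr rfl fun u _ => ?_
  split_ifs with hu
  · refine (Finset.sum_bij (fun (s : secC u) _ => u * (s : G)) ?_ ?_ ?_ (fun _ _ => rfl)).symm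
    · intro s hs
      refine Finset.mem_filter.2 ⟨Finset.mem_univ _, IsSec.pp_eq ⟨hu, ?_, ?_⟩⟩
      · rw [Subgroup.orderOf_coe]; exact (Finset.mem_filter.1 hs).2
      · exact ((mem_secC.1 s.2).symm : u * (s : G) = s * u)
    · exact fun s _ t _ e => Subtype.ext (mul_left_cancel e)
    · intro x hx
      have hpx := (Finset.mem_filter.1 hx).2
      have hsec := isSec_parts (p := p) x
      rw [hpx] at hsec
      refine ⟨⟨rp p x, mem_secC.2 hsec.comm.eq.symm⟩, Finset.mem_filter.2 ⟨Finset.mem_univ _, ?_⟩, ?_⟩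
      · rw [← Subgroup.orderOf_coe]; exact hsec.reg
      · show u * rp p x = x
        rw [← hpx, pp_mul_rp]
  · refine Finset.sum_eq_zero fun x hx => absurd ?_ hu
    rw [← (Finset.mem_filter.1 hx).2]
    exact (isSec_parts (p := p) x).pow

theorem starFun_section (hM : IsPModular p M) {u : G} (hu : ∃ i, orderOf u = p ^ i)
    (χ : IrrCharacter G) {s : secC u} (hs : ¬ p ∣ orderOf s) :
    star p a η χ (u * (s : G)) = ∑ b ∈ blocks M (secC u), val p a η u (zB M (secC u) b) *
      blockPart b (secFun u (secC u) (χ : G → ℂ)) s := by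
  have h : IsSec p u (s : G) :=
    ⟨hu, by rwa [Subgroup.orderOf_coe], ((mem_secC.1 s.2).symm : u * (s : G) = s * u)⟩
  rw [star, starFun_of_isSec h, starTerm_one hM h]

/-- The block parts of the star product on a section. -/
theorem blockPart_secFun_star (hM : IsPModular p M) {u : G} (hu : ∃ i, orderOf u = p ^ i)
    (χ : IrrCharacter G) {b : Set (IrrCharacter (secC u))} (hb : IsPBlock M b) {s : secC u}
    (hs : ¬ p ∣ orderOf s) :
    blockPart b (secFun u (secC u) (star p a η χ)) s =
      val p a η u (zB M (secC u) b) * blockPart b (secFun u (secC u) (χ : G → ℂ)) s := by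
  classical
  rw [← blockPart_scale hb (fun b' => val p a η u (zB M (secC u) b')) _ s]
  refine mul_left_cancel₀ (Nat.cast_ne_zero.2 (Nat.card_pos (α := secC u)).ne' :
    (Nat.card (secC u) : ℂ) ≠ 0) ?_
  rw [← sum_regular_pair hM hb _ hs, ← sum_regular_pair hM hb _ hs]
  refine Finset.sum_congr rfl fun w hw => ?_
  rw [show secFun u (secC u) (star p a η χ) w = star p a η χ (u * (w : G)) from rfl,
    starFun_section hM hu χ (Finset.mem_filter.1 hw).2]

open scoped Classical in
/-- The inner product of two star products. -/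
theorem classInner_star (hM : IsPModular p M) {η' : G → ℂ} (χ ψ : IrrCharacter G) :
    classInner (star p a η χ) (star p a η' ψ) = (Nat.card G : ℂ)⁻¹ *
      ∑ u : G, if (∃ i, orderOf u = p ^ i) then
        ∑ b ∈ blocks M (secC u), val p a η u (zB M (secC u) b) *
          conj (val p a η' u (zB M (secC u) b)) *
          ∑ s ∈ (Finset.univ : Finset (secC u)).filter (fun s => ¬ p ∣ orderOf s),
            blockPart b (secFun u (secC u) (χ : G → ℂ)) s *
              conj (blockPart b (secFun u (secC u) (ψ : G → ℂ)) s)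
        else 0 := by
  classical
  unfold classInner
  rw [sum_eq_sum_sections (p := p)]
  congr 1
  refine Finset.sum_congr rfl fun u _ => ?_
  split_ifs with hu
  · rw [Finset.sum_congr rfl fun s hs => by
      rw [starFun_section hM hu χ (Finset.mem_filter.1 hs).2,
        starFun_section hM hu ψ (Finset.mem_filter.1 hs).2, map_sum, Finset.sum_mul_sum]]
    rw [Finset.sum_comm]
    refine Finset.sum_congr rfl fun b hb => ?_
    rw [Finset.sum_comm, Finset.sum_eq_single b]
    · rw [Finset.mul_sum]
      exact Finset.sum_congr rfl fun s _ => by rw [map_mul]; ring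
    · intro b' hb' hne
      rw [Finset.sum_congr rfl fun s _ => show
        val p a η u (zB M (secC u) b) * blockPart b (secFun u (secC u) (χ : G → ℂ)) s *
          conj (val p a η' u (zB M (secC u) b') *
            blockPart b' (secFun u (secC u) (ψ : G → ℂ)) s) =
        val p a η u (zB M (secC u) b) * conj (val p a η' u (zB M (secC u) b')) *
          (blockPart b (secFun u (secC u) (χ : G → ℂ)) s *
            conj (blockPart b' (secFun u (secC u) (ψ : G → ℂ)) s)) by rw [map_mul]; ring,
        ← Finset.mul_sum, blockPart_regular_orth hM (mem_blocks.1 hb) (mem_blocks.1 hb')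
          (Ne.symm hne), mul_zero]
    · exact fun h => absurd hb h
  · rfl

/-- The star product only involves characters of the block. -/
theorem classInner_star_eq_zero (hM : IsPModular p M) (hB : IsPBlock M B) {χ ψ : IrrCharacter G}
    (hχ : χ ∈ B) (hψ : ψ ∉ B) : classInner (star p a η χ) (ψ : G → ℂ) = 0 := by
  classical
  unfold classInner
  rw [sum_eq_sum_sections (p := p)]
  refine mul_eq_zero_of_right _ (Finset.sum_eq_zero fun u _ => ?_)
  split_ifs with hu
  · have hcl : IsClassFunction (secC u) (secFun u (secC u) (ψ : G → ℂ)) :=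
      isClassFunction_secFun (secC_eq u) (IsCharacter.isClassFunction (irr_isCharacter ψ))
    rw [Finset.sum_congr rfl fun s hs => by
      rw [starFun_section hM hu χ (Finset.mem_filter.1 hs).2,
        show (ψ : G → ℂ) (u * (s : G)) = secFun u (secC u) (ψ : G → ℂ) s from rfl,
        ← sum_blockPart (M := M) hcl s, map_sum, Finset.sum_mul_sum]]
    rw [Finset.sum_comm]
    refine Finset.sum_eq_zero fun b hb => ?_
    rw [Finset.sum_comm]
    refine Finset.sum_eq_zero fun b' hb' => ?_
    by_cases hne : b = b'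
    · subst hne
      refine Finset.sum_eq_zero fun s hs => ?_
      by_cases hp : IsPairOf p ⊤ (Ek M B) (Subgroup.zpowers u, zB M (secC u) b)
      · have hind := (induced_iff_pairOf hM hB hu (secC_eq u) (mem_blocks.1 hb)).2 hp
        rw [blockPart_secFun_eq_zero hM hu (secC_eq u) (isPBlock_blockOf ψ) (self_mem_blockOf ψ)
          (mem_blocks.1 hb) (fun h => hψ (by
            rw [isInducedBlock_unique hind h]; exact self_mem_blockOf ψ))
          (Finset.mem_filter.1 hs).2, map_zero, mul_zero]
      · rw [blockPart_eq_zero_of_not_pair hM hB hu hχ (mem_blocks.1 hb) hp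
          (Finset.mem_filter.1 hs).2, mul_zero, zero_mul]
    · simp only [mul_assoc, ← Finset.mul_sum]
      rw [blockPart_regular_orth hM (mem_blocks.1 hb) (mem_blocks.1 hb') hne, mul_zero]
  · rfl

end Cfsg.Agent.Star
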