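/-
Multiplying the characters of a block by the stable linear characters of a defect group.
-/
import Cfsg.Agent.Lib.Star.Sections
import Cfsg.Agent.Lib.BrauerPairs.NilpotentRankOne

set_option linter.unusedSectionVars false
set_option linter.style.haveILetI false

namespace Cfsg.Agent.Star

open Cfsg MonoidAlgebra Cfsg.Agent.Blocks Cfsg.Agent.BrauerPairs Cfsg.Agent.Char
open scoped ComplexConjugate

universe u

variable {G : Type u} [Group G] [Fintype G] {p : ℕ} [Fact p.Prime] {M : Ideal AlgInt} [M.IsPrime]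
  [CharP (resField M) p] {B : Set (IrrCharacter G)} {a : Pr (resField M) G}

/-- A linear character of the defect group, extended by zero. -/
noncomputable def chFun {P : Subgroup G} (lam : P →* ℂˣ) (x : G) : ℂ := by
  classical
  exact if h : x ∈ P then (lam ⟨x, h⟩ : ℂ) else 0

theorem chFun_mem {P : Subgroup G} (lam : P →* ℂˣ) {x : G} (h : x ∈ P) :
    chFun lam x = (lam ⟨x, h⟩ : ℂ) := by
  classical
  rw [chFun, dif_pos h]

theorem chFun_one {P : Subgroup G} (lam : P →* ℂˣ) : chFun lam 1 = 1 := by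
  rw [chFun_mem lam P.one_mem, show (⟨1, P.one_mem⟩ : P) = 1 from rfl, map_one, Units.val_one]

theorem chFun_mul {P : Subgroup G} (lam mu : P →* ℂˣ) :
    (fun x => chFun lam x * chFun mu x) = chFun (lam * mu) := by
  classical
  funext x
  by_cases h : x ∈ P
  · rw [chFun_mem lam h, chFun_mem mu h, chFun_mem _ h, MonoidHom.mul_apply, Units.val_mul]
  · simp [chFun, h]

/-- Constancy on the fusion classes. -/
def IsTriv (p : ℕ) (a : Pr (resField M) G) (lam : a.1 →* ℂˣ) : Prop :=
  ∀ (g : G) (b : Pr (resField M) G), SubLE p ⊤ b a → SubLE p ⊤ (cjP g b) a →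
    ∀ u ∈ b.1, ∀ (h₁ : u ∈ a.1) (h₂ : g * u * g⁻¹ ∈ a.1),
      lam ⟨g * u * g⁻¹, h₂⟩ = lam ⟨u, h₁⟩

theorem isTriv_one : IsTriv p a (1 : a.1 →* ℂˣ) := fun _ _ _ _ _ _ _ _ => rfl

theorem IsTriv.mul {lam mu : a.1 →* ℂˣ} (h : IsTriv p a lam) (h' : IsTriv p a mu) :
    IsTriv p a (lam * mu) := fun g b hb hgb u hu h₁ h₂ => by
  rw [MonoidHom.mul_apply, MonoidHom.mul_apply, h g b hb hgb u hu h₁ h₂,
    h' g b hb hgb u hu h₁ h₂]

theorem isStarFn_chFun {lam : a.1 →* ℂˣ} (h : IsTriv p a lam) : IsStarFn p a (chFun lam) := by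
  refine ⟨IsGeneralizedCharacter.of_isCharacter ?_, fun g b hb hgb u hu => ?_⟩
  · convert irr_isCharacter ⟨_, isIrrCharacter_linear lam⟩ using 1
    funext v
    exact chFun_mem lam v.2
  · rw [chFun_mem lam (hgb.le (mem_cjS_of_eq (g := g) hu)), chFun_mem lam (hb.le hu),
      h g b hb hgb u hu]

theorem conj_chFun_mul_self {P : Subgroup G} (lam : P →* ℂˣ) {x : G} (h : x ∈ P) :
    chFun lam x * conj (chFun lam x) = 1 := by
  rw [chFun_mem lam h, Complex.mul_conj']
  have hfin : IsOfFinOrder (lam ⟨x, h⟩) := lam.isOfFinOrder (isOfFinOrder_of_finite _)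
  have h1 : ((lam ⟨x, h⟩ : ℂˣ) : ℂ) ^ orderOf (lam ⟨x, h⟩) = 1 := by
    rw [← Units.val_pow_eq_pow_val, pow_orderOf_eq_one, Units.val_one]
  rw [Complex.norm_eq_one_of_pow_eq_one h1 hfin.orderOf_pos.ne']
  simp

theorem val_chFun_mul_conj (hmax : IsMax p (Ek M B) a) {lam : a.1 →* ℂˣ} (h : IsTriv p a lam)
    {u : G} {z : MonoidAlgebra (resField M) G}
    (hz : IsPairOf p ⊤ (Ek M B) (Subgroup.zpowers u, z)) :
    val p a (chFun lam) u z * conj (val p a (chFun lam) u z) = 1 := by
  obtain ⟨g, hg⟩ := exists_subLE_of_pairOf hmax hz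
  rw [val_eq (isStarFn_chFun h) hg,
    conj_chFun_mul_self lam (hg.le (mem_cjS_of_eq (g := g) (Subgroup.mem_zpowers u)))]

theorem val_chFun_one (hmax : IsMax p (Ek M B) a) {u : G} {z : MonoidAlgebra (resField M) G}
    (hz : IsPairOf p ⊤ (Ek M B) (Subgroup.zpowers u, z)) :
    val p a (chFun (1 : a.1 →* ℂˣ)) u z = 1 := by
  obtain ⟨g, hg⟩ := exists_subLE_of_pairOf hmax hz
  rw [val_eq (isStarFn_chFun isTriv_one) hg,
    chFun_mem _ (hg.le (mem_cjS_of_eq (g := g) (Subgroup.mem_zpowers u))), MonoidHom.one_apply,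
    Units.val_one]

/-- The trivial linear character fixes the block. -/
theorem star_chFun_one (hM : IsPModular p M) (hB : IsPBlock M B) (hmax : IsMax p (Ek M B) a)
    {χ : IrrCharacter G} (hχ : χ ∈ B) :
    star p a (chFun (1 : a.1 →* ℂˣ)) χ = (χ : G → ℂ) := by
  classical
  funext x
  have hsec := isSec_parts (p := p) x
  let s : secC (pp p x) := ⟨rp p x, mem_secC.2 hsec.comm.eq.symm⟩
  have hs : ¬ p ∣ orderOf s := by rw [← Subgroup.orderOf_coe]; exact hsec.reg
  have h1 := starFun_section (a := a) (η := chFun (1 : a.1 →* ℂˣ)) hM hsec.pow χ hs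
  rw [show pp p x * (s : G) = x from pp_mul_rp x] at h1
  rw [h1]
  have hcl : IsClassFunction (secC (pp p x)) (secFun (pp p x) (secC (pp p x)) (χ : G → ℂ)) :=
    isClassFunction_secFun (secC_eq _) (IsCharacter.isClassFunction (irr_isCharacter χ))
  refine (Finset.sum_congr rfl fun b hb => ?_).trans ((sum_blockPart (M := M) hcl s).trans ?_)
  · by_cases hp : IsPairOf p ⊤ (Ek M B)
      (Subgroup.zpowers (pp p x), zB M (secC (pp p x)) b)
    · rw [val_chFun_one hmax hp, one_mul]
    · rw [blockPart_eq_zero_of_not_pair hM hB hsec.pow hχ (mem_blocks.1 hb) hp hs, mul_zero]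
  · show (χ : G → ℂ) (pp p x * (s : G)) = _
    rw [show pp p x * (s : G) = x from pp_mul_rp x]

/-- Multiplication by a stable linear character permutes the block. -/
theorem exists_linMul (hM : IsPModular p M) (hB : IsPBlock M B) (hmax : IsMax p (Ek M B) a)
    {lam : a.1 →* ℂˣ} (h : IsTriv p a lam) {χ : IrrCharacter G} (hχ : χ ∈ B) :
    ∃ ψ : IrrCharacter G, ψ ∈ B ∧ (ψ : G → ℂ) = star p a (chFun lam) χ := by
  classical
  have hgen := isGeneralizedCharacter_star hM hmax (isStarFn_chFun h) χ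
  have hnorm : classInner (star p a (chFun lam) χ) (star p a (chFun lam) χ) = 1 := by
    rw [← classInner_self_irr χ.2]
    conv_rhs => rw [← star_chFun_one hM hB hmax hχ]
    rw [classInner_star hM, classInner_star hM]
    congr 1
    refine Finset.sum_congr rfl fun u _ => ?_
    split_ifs with hu
    · refine Finset.sum_congr rfl fun b hb => ?_
      by_cases hp : IsPairOf p ⊤ (Ek M B) (Subgroup.zpowers u, zB M (secC u) b)
      · rw [val_chFun_mul_conj hmax h hp, val_chFun_one hmax hp, map_one, mul_one]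
      · rw [Finset.sum_eq_zero (fun s hs => by
          rw [blockPart_eq_zero_of_not_pair hM hB hu hχ (mem_blocks.1 hb) hp
            (Finset.mem_filter.1 hs).2, zero_mul]), mul_zero, mul_zero]
    · rfl
  have hone : star p a (chFun lam) χ 1 = (χ : G → ℂ) 1 := by
    rw [star_regular hM hB hmax (isStarFn_chFun h) hχ (by simp [(Fact.out : p.Prime).ne_one]),
      chFun_one, one_mul]
  rcases IsGeneralizedCharacter.of_norm_one hgen hnorm with hi | hi
  · refine ⟨⟨_, hi⟩, ?_, rfl⟩
    by_contra hne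
    have h0 := classInner_star_eq_zero (a := a) (η := chFun lam) hM hB hχ hne
    rw [classInner_self_irr hi] at h0
    exact one_ne_zero h0
  · exfalso
    have h1 : (-star p a (chFun lam) χ) 1 = _ := irr_one_eq_charDegree (⟨_, hi⟩ : IrrCharacter G)
    rw [Pi.neg_apply, hone, irr_one_eq_charDegree χ] at h1
    have h2 := charDegree_pos χ
    have h3 : (-((charDegree (χ : G → ℂ) : ℂ))).re = _ := congrArg Complex.re h1
    simp only [Complex.neg_re, Complex.natCast_re] at h3
    have h4 : (0 : ℝ) < (charDegree (χ : G → ℂ) : ℝ) := by exact_mod_cast h2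
    linarith [Nat.cast_nonneg (α := ℝ)
      (charDegree (((⟨_, hi⟩ : IrrCharacter G) : IrrCharacter G) : G → ℂ))]

/-- Composing two multiplications. -/
theorem star_star (hM : IsPModular p M) (hmax : IsMax p (Ek M B) a) {lam mu : a.1 →* ℂˣ}
    (hl : IsTriv p a lam) (hm : IsTriv p a mu) {χ ψ : IrrCharacter G}
    (hψ : (ψ : G → ℂ) = star p a (chFun mu) χ) :
    star p a (chFun lam) ψ = star p a (chFun (lam * mu)) χ := by
  classical
  funext x
  have hsec := isSec_parts (p := p) x
  let s : secC (pp p x) := ⟨rp p x, mem_secC.2 hsec.comm.eq.symm⟩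
  have hs : ¬ p ∣ orderOf s := by rw [← Subgroup.orderOf_coe]; exact hsec.reg
  rw [show x = pp p x * (s : G) from (pp_mul_rp x).symm,
    starFun_section hM hsec.pow ψ hs, starFun_section hM hsec.pow χ hs]
  refine Finset.sum_congr rfl fun b hb => ?_
  rw [hψ, blockPart_secFun_star hM hsec.pow χ (mem_blocks.1 hb) hs, ← mul_assoc,
    val_mul hmax (isStarFn_chFun hl) (isStarFn_chFun hm)
      (by rw [chFun_mul]; exact isStarFn_chFun (hl.mul hm)), chFun_mul]

/-! ## Central subsections -/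

/-- The subsection of a central element of the defect group is major, and no character of the
block vanishes on it. -/
theorem exists_central_subsection (hM : IsPModular p M) (hB : IsPBlock M B)
    (hmax : IsMax p (Ek M B) a) {z : G} (hz : z ∈ a.1)
    (hzc : z ∈ Subgroup.centralizer (a.1 : Set G)) {χ : IrrCharacter G} (hχ : χ ∈ B) :
    ∃ b : Set (IrrCharacter (secC z)), IsPBlock M b ∧
      SubLE p ⊤ (Subgroup.zpowers z, zB M (secC z) b) a ∧
      ∃ s : secC z, ¬ p ∣ orderOf s ∧ blockPart b (secFun z (secC z) (χ : G → ℂ)) s ≠ 0 := by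
  classical
  obtain ⟨k, hk⟩ := IsPGroup.iff_orderOf.1 hmax.pair.pgroup ⟨z, hz⟩
  rw [← Subgroup.orderOf_coe] at hk
  obtain ⟨f, hf, -⟩ := existsUnique_below hmax.pair (Subgroup.zpowers_le.2 hz)
  obtain ⟨b, hb, hbf⟩ := exists_eq_zB (H := secC z) (hf.left hmax.pair).blk
  replace hbf : zB M (secC z) b = f := hbf
  subst hbf
  refine ⟨b, hb, hf, ?_⟩
  have hx : ∃ i, orderOf z = p ^ i := ⟨k, hk⟩
  have hp := hf.pairOf_iff.2 hmax.pairOf
  have hind := (induced_iff_pairOf hM hB hx (secC_eq z) hb).2 hp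
  have hPC : a.1 ≤ secC z := fun v hv =>
    mem_secC.2 (Subgroup.mem_centralizer_iff.1 hzc v hv)
  have hCa : Subgroup.centralizer (a.1 : Set G) ≤ secC z := fun v hv =>
    mem_secC.2 (Subgroup.mem_centralizer_iff.1 hv z hz).symm
  have hN : a.1 ≤ Subgroup.normalizer (Subgroup.zpowers z : Set G) :=
    hPC.trans (inf_le_right.trans (Subgroup.centralizer_le_normalizer _))
  obtain ⟨f', hf', -⟩ := existsUnique_nsub hmax.pair (Subgroup.zpowers_le.2 hz) hN
  obtain rfl : f' = zB M (secC z) b :=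
    (existsUnique_below hmax.pair (Subgroup.zpowers_le.2 hz)).unique
      (Relation.ReflTransGen.single hf') hf
  have hpH : IsPairOf p (secC z) (zB M (secC z) b) a :=
    ⟨(isPair_sub_iff hCa).2 ⟨hmax.pair, hPC⟩, isBlk_zB _ hb, hf'.occ⟩
  have hnoT := hmax.pairOf.noExt hmax.isDef
  have hnoH : NoExt p (secC z) a := fun c hc => by
    have hCc : Subgroup.centralizer (c.1 : Set G) ≤ secC z :=
      (Subgroup.centralizer_le hc.le).trans hCa
    exact hnoT c ⟨hmax.pair, ((isPair_sub_iff hCc).1 hc.right).1, hc.le, hc.normal, hc.inv, hc.occ⟩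
  have hdd : blockDefect p b = blockDefect p B :=
    blockDefect_eq_of_subgroupOf hM hind ((isDefectGroup_iff hB a.1).2 hmax.isDef) hPC
      ((isDefectGroup_subgroupOf_iff hb hPC).2 (hnoH.isDefGrp hpH))
  obtain ⟨χ₀, hχ₀, h0⟩ := exists_heightZero hM hB
  by_contra hzero
  push Not at hzero
  set f₀ := secFun z (secC z) (χ₀ : G → ℂ) with hf₀
  set v := blockPart b f₀ with hv
  have hvs : ∀ w, v w = ∑ φ ∈ Finset.univ.filter (· ∈ b),
      classInner f₀ (φ : secC z → ℂ) * (φ : secC z → ℂ) w := blockPart_eq_sum b f₀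
  have hvb : blockPart b v = v := by
    rw [show v = bcomb b (fun φ => classInner f₀ (φ : secC z → ℂ)) from funext hvs,
      blockPart_bcomb]
  have hvc : IsClassFunction (secC z) v := fun g h => by
    rw [hvs, hvs]
    exact Finset.sum_congr rfl fun φ _ => by rw [irr_conj_invariant]
  obtain ⟨c, ⟨m, hc⟩, hcm⟩ := exists_section_mult hx (secC_eq z)
  have hvR : ∀ w, MemLocalRing M (conj (v w)) := fun w => by
    refine mem_locRing_of_isIntegral (IsIntegral.map (starRingEnd ℂ).toIntAlgHom ?_)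
    rw [hvs]
    refine IsIntegral.sum _ fun φ _ => IsIntegral.mul ?_ (irr_isIntegral φ w)
    rw [hcm]
    obtain ⟨n, hn⟩ := IsCharacter.exists_classInner_nat
      (IsCharacter.restrict (irr_isCharacter χ₀) (secC z)) (irr_isCharacter φ)
    rw [hn]
    exact IsIntegral.mul (by exact_mod_cast isIntegral_algebraMap (R := ℤ) (A := ℂ) (x := (n : ℤ)))
      (IsIntegral.of_pow (pow_pos (Fact.out : p.Prime).pos m) ((hc φ).1 ▸ isIntegral_one))
  have hscale : ∀ φ : IrrCharacter G, regPair p (blockScale p b) (secFun z (secC z) (φ : G → ℂ)) v =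
      contrib p z b φ χ₀ := fun φ => by
    rw [regPair_blockPart hM hb _ _ hvb, regPair_eq_sum, contrib, blockScale]
    push_cast
    rfl
  have h1 := (regPair_major hM hx (secC_eq z) hind hdd hχ hχ₀ h0 hvc hvR).2
  refine contrib_not_mem hM hx (secC_eq z) hind hχ₀ hχ₀ h0 h0 ?_
  rw [← hscale]
  refine h1.1 ?_
  rw [hscale, contrib, Finset.sum_eq_zero (fun s hs => by
    rw [hzero s (Finset.mem_filter.1 hs).2, zero_mul]), mul_zero, zero_div]
  exact memLocalIdeal_zero

/-- A fixed character forces the linear character to be trivial on the centre. -/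
theorem lam_eq_one_of_fixed (hM : IsPModular p M) (hB : IsPBlock M B) (hmax : IsMax p (Ek M B) a)
    {lam : a.1 →* ℂˣ} (h : IsTriv p a lam) {χ : IrrCharacter G} (hχ : χ ∈ B)
    (hfix : star p a (chFun lam) χ = (χ : G → ℂ)) {z : G} (hz : z ∈ a.1)
    (hzc : z ∈ Subgroup.centralizer (a.1 : Set G)) : lam ⟨z, hz⟩ = 1 := by
  obtain ⟨b, hb, hle, s, hs, hne⟩ := exists_central_subsection hM hB hmax hz hzc hχ
  obtain ⟨k, hk⟩ := IsPGroup.iff_orderOf.1 hmax.pair.pgroup ⟨z, hz⟩
  rw [← Subgroup.orderOf_coe] at hk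
  have h1 := blockPart_secFun_star (a := a) (η := chFun lam) hM ⟨k, hk⟩ χ hb hs
  rw [hfix, val_eq (g := 1) (isStarFn_chFun h) (by rw [cjP_one]; exact hle), one_mul, inv_one,
    mul_one, chFun_mem lam hz] at h1
  refine Units.ext ?_
  rw [Units.val_one]
  exact mul_right_cancel₀ hne (h1.symm.trans (one_mul _).symm)

end Cfsg.Agent.Star
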