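/-
The stable linear characters act freely modulo the characters trivial on the centre.
-/
import Cfsg.Agent.Lib.Star.Linear
import Mathlib.GroupTheory.FiniteAbelian.Duality
import Mathlib.Analysis.Complex.Polynomial.Basic
import Mathlib.RingTheory.RootsOfUnity.AlgebraicallyClosed
import Mathlib.GroupTheory.GroupAction.Quotient

set_option linter.unusedSectionVars false
set_option linter.style.haveILetI false

namespace Cfsg.Agent.Star

open Cfsg MonoidAlgebra Cfsg.Agent.Blocks Cfsg.Agent.BrauerPairs Cfsg.Agent.Char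

universe u

theorem index_dvd_card_of_stabilizer {Γ X : Type*} [Group Γ] [MulAction Γ X] [Finite X]
    (K : Subgroup Γ) (h : ∀ x : X, MulAction.stabilizer Γ x ≤ K) : K.index ∣ Nat.card X := by
  classical
  haveI : Fintype (MulAction.orbitRel.Quotient Γ X) := Fintype.ofFinite _
  rw [Nat.card_congr (MulAction.selfEquivSigmaOrbits' Γ X), Nat.card_sigma]
  refine Finset.dvd_sum fun ω _ => ?_
  rw [MulAction.orbitRel.Quotient.orbit_eq_orbit_out ω Quotient.out_eq',
    Nat.card_congr (MulAction.orbitEquivQuotientStabilizer Γ ω.out)]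
  exact Subgroup.index_dvd_of_le (h _)

variable {G : Type u} [Group G] [Fintype G] {p : ℕ} [Fact p.Prime] {M : Ideal AlgInt} [M.IsPrime]
  [CharP (resField M) p] {B : Set (IrrCharacter G)} {a : Pr (resField M) G}

/-- The divisibility for the characters of a given height. -/
theorem center_index_dvd_card (hM : IsPModular p M) (hB : IsPBlock M B)
    (hmax : IsMax p (Ek M B) a) (F : Subgroup G)
    (hF : ∀ (g : G) (b : Pr (resField M) G), SubLE p ⊤ b a → SubLE p ⊤ (cjP g b) a →
      ∀ u ∈ b.1, u⁻¹ * (g * u * g⁻¹) ∈ F)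
    (hcomm : ∀ g ∈ a.1, ∀ u ∈ a.1, u⁻¹ * (g * u * g⁻¹) ∈ F) (h : ℕ) :
    ((a.1 ⊓ Subgroup.centralizer (a.1 : Set G) ⊓ F).subgroupOf
        (a.1 ⊓ Subgroup.centralizer (a.1 : Set G))).index ∣
      Nat.card {χ : IrrCharacter G // χ ∈ B ∧ blockHeight p B (χ : G → ℂ) = h} := by
  classical
  let F' : Subgroup a.1 := F.subgroupOf a.1
  haveI hN : F'.Normal := ⟨fun n hn g => by
    have h1 : (n : G)⁻¹ * ((g : G) * n * (g : G)⁻¹) ∈ F := hcomm g g.2 n n.2
    show (g : G) * n * (g : G)⁻¹ ∈ F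
    have h2 := F.mul_mem (show (n : G) ∈ F from hn) h1
    rwa [mul_inv_cancel_left] at h2⟩
  letI : CommGroup (a.1 ⧸ F') :=
    { (inferInstance : Group (a.1 ⧸ F')) with
      mul_comm := fun x y => by
        induction x using QuotientGroup.induction_on with
        | _ x =>
          induction y using QuotientGroup.induction_on with
          | _ y =>
            rw [← QuotientGroup.mk_mul, ← QuotientGroup.mk_mul, QuotientGroup.eq]
            show ((x : G) * y)⁻¹ * ((y : G) * x) ∈ F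
            have h1 := hcomm (x : G)⁻¹ (inv_mem x.2) (y : G) y.2
            convert h1 using 1
            group }
  let π : a.1 →* a.1 ⧸ F' := QuotientGroup.mk' F'
  let Z : Subgroup G := a.1 ⊓ Subgroup.centralizer (a.1 : Set G)
  let ι : Z →* a.1 := Subgroup.inclusion inf_le_left
  let Zb : Subgroup (a.1 ⧸ F') := (π.comp ι).range
  let res : ((a.1 ⧸ F') →* ℂˣ) →* (Zb →* ℂˣ) := MonoidHom.domRestrictHom Zb ℂˣ
  have hres : Function.Surjective res := MonoidHom.domRestrict_surjective ℂ Zb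
  have htriv : ∀ mu : (a.1 ⧸ F') →* ℂˣ, IsTriv p a (mu.comp π) := by
    intro mu g b hb hgb u hu h₁ h₂
    show mu (π _) = mu (π _)
    refine congrArg mu (QuotientGroup.eq.2 ?_).symm
    exact hF g b hb hgb u hu
  let X := {χ : IrrCharacter G // χ ∈ B ∧ blockHeight p B (χ : G → ℂ) = h}
  choose act hact1 hact2 using fun (mu : (a.1 ⧸ F') →* ℂˣ) (χ : X) =>
    exists_linMul hM hB hmax (htriv mu) χ.2.1
  have hh : ∀ mu χ, blockHeight p B (act mu χ : G → ℂ) = h := by
    intro mu χ
    have e : (act mu χ : G → ℂ) 1 = (χ.1 : G → ℂ) 1 := by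
      rw [hact2, star_regular hM hB hmax (isStarFn_chFun (htriv mu)) χ.2.1
        (by simp [(Fact.out : p.Prime).ne_one]), chFun_one, one_mul]
    have e2 : charDegree (act mu χ : G → ℂ) = charDegree (χ.1 : G → ℂ) := by
      rw [charDegree, charDegree, e]
    have h2 := χ.2.2
    rw [blockHeight] at h2 ⊢
    rw [e2]
    exact h2
  letI : SMul ((a.1 ⧸ F') →* ℂˣ) X := ⟨fun mu χ => ⟨act mu χ, hact1 mu χ, hh mu χ⟩⟩
  letI : MulAction ((a.1 ⧸ F') →* ℂˣ) X :=
    { one_smul := fun χ => Subtype.ext (Subtype.ext (by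
        show (act 1 χ : G → ℂ) = _
        rw [hact2, MonoidHom.one_comp, star_chFun_one hM hB hmax χ.2.1]))
      mul_smul := fun mu nu χ => Subtype.ext (Subtype.ext (by
        show (act (mu * nu) χ : G → ℂ) = (act mu ⟨act nu χ, hact1 nu χ, hh nu χ⟩ : G → ℂ)
        rw [hact2, hact2, star_star hM hmax (htriv mu) (htriv nu) (hact2 nu χ), MonoidHom.mul_comp])) }
  have hdvd := index_dvd_card_of_stabilizer (Γ := (a.1 ⧸ F') →* ℂˣ) (X := X) res.ker ?_
  · rw [Subgroup.index_ker, MonoidHom.range_eq_top.2 hres, Subgroup.card_top] at hdvd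
    rw [CommGroup.card_monoidHom_of_hasEnoughRootsOfUnity Zb ℂ] at hdvd
    convert hdvd using 1
    rw [show Nat.card Zb = (π.comp ι).ker.index from (Subgroup.index_ker (π.comp ι)).symm]
    congr 1
    ext z
    rw [MonoidHom.mem_ker, Subgroup.mem_subgroupOf, MonoidHom.comp_apply,
      show π (ι z) = QuotientGroup.mk (ι z) from rfl, QuotientGroup.eq_one_iff]
    show ((z : G) ∈ Z ⊓ F) ↔ (z : G) ∈ F
    exact ⟨fun h => h.2, fun h => ⟨z.2, h⟩⟩
  · intro χ mu he
    rw [MulAction.mem_stabilizer_iff] at he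
    have he' : (act mu χ : G → ℂ) = (χ.1 : G → ℂ) :=
      congrArg (fun x : X => (x.1 : G → ℂ)) he
    rw [hact2] at he'
    refine MonoidHom.mem_ker.2 (MonoidHom.ext ?_)
    rintro ⟨_, z, rfl⟩
    exact lam_eq_one_of_fixed hM hB hmax (htriv mu) χ.2.1 he' z.2.1 z.2.2

end Cfsg.Agent.Star
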