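/-
The stable linear characters act freely on the characters of height zero.
-/
import Cfsg.Agent.Lib.Star.CenterCount
import Cfsg.Agent.Lib.BrauerPairs.InducedPairs
import Cfsg.Agent.Lib.Blocks.HeightsApp

set_option linter.unusedSectionVars false
set_option linter.style.haveILetI false

namespace Cfsg.Agent.Star

open Cfsg MonoidAlgebra Cfsg.Agent.Blocks Cfsg.Agent.BrauerPairs Cfsg.Agent.Char
  Cfsg.Agent.Blocks.Orbit
open scoped ComplexConjugate

universe u

section Singular

variable {G : Type u} [Group G] [Fintype G] {p : ℕ} {M : Ideal AlgInt} [M.IsPrime]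

/-- The traces of an idempotent at a regular element are orthogonal to the singular columns. -/
theorem sum_conj_mul_chiTr_eq_zero (hM : IsPModular p M) {s c : G} (hs : ¬ p ∣ orderOf s)
    (hc : p ∣ orderOf c) {x : MonoidAlgebra (locRing M) G} (hx : x * x = x)
    (hi : IsInvElt (Subgroup.zpowers s) x) :
    ∑ φ : IrrCharacter G, conj ((φ : G → ℂ) c) * chiTr φ x s = 0 := by
  classical
  obtain ⟨d, w, hdw, hcd, ⟨j, hdj⟩, hw⟩ := exists_isPPart hM.1 c
  have hm := not_dvd_mul_orders hM hs hw
  have hD : ∀ {y : MonoidAlgebra (locRing M) G}, y * y = y → IsInvElt (Subgroup.zpowers s) y →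
      TraceDatum M (shiftPerm 1 d⁻¹) (lMat y) (permMat (shiftPerm s w))
        (orderOf s * orderOf w) := fun {y} hy hyi =>
    traceDatum_lMat hy (hyi _ (one_mem _)) (hyi _ (Subgroup.mem_zpowers s)) (Commute.one_left s)
      hcd.inv_left (by rw [pow_mul, pow_orderOf_eq_one, one_pow])
      (by rw [mul_comm, pow_mul, pow_orderOf_eq_one, one_pow])
  have hσ := shiftPerm_pow_eq_one (p := p) (a := (1 : G)) (b := d⁻¹) (i := 0) (j := j)
    (by simp) (by rw [orderOf_inv, hdj])
  have hd1 : d ≠ 1 := by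
    rintro rfl
    rw [one_mul] at hdw
    exact hw (hdw ▸ hc)
  have h := trace_perm_congr hM hσ hσ hm (hD hx hi)
    (hD (mul_zero 0) (fun _ _ _ => by simp)) (Equiv.refl _) ?_ (by ext a b; rfl)
  · rw [sum_lMat_shift, sum_lMat_shift, inv_inv, inv_one, one_mul, hdw] at h
    simpa [chiTr_zero] using h
  · refine Matrix.ext fun a b => ?_
    have ha : (1 : G) * (a : G) = a * d⁻¹ := mul_inv_eq_iff_eq_mul.1 a.2
    rw [one_mul] at ha
    exact absurd (inv_eq_one.1 (mul_eq_left.1 ha.symm)) hd1

/-- A class function vanishing on the regular elements is killed by idempotents. -/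
theorem sum_coeff_mul_eq_zero (hM : IsPModular p M) {s : G} (hs : ¬ p ∣ orderOf s)
    {x : MonoidAlgebra (locRing M) G} (hx : x * x = x) (hi : IsInvElt (Subgroup.zpowers s) x)
    {g : G → ℂ} (hg : IsClassFunction G g) (h0 : ∀ w, ¬ p ∣ orderOf w → g w = 0) :
    ∑ a, (x.coeff a : ℂ) * g (s * a) = 0 := by
  classical
  have e : ∀ w, g w = ∑ φ : IrrCharacter G, classInner g (φ : G → ℂ) * (φ : G → ℂ) w := fun w => by
    conv_lhs => rw [classFunction_eq_sum hg]
    simp [Finset.sum_apply]
  calc ∑ a, (x.coeff a : ℂ) * g (s * a)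
      = ∑ φ : IrrCharacter G, classInner g (φ : G → ℂ) * chiTr φ x s := by
        simp only [e (s * _), chiTr, Finset.mul_sum]
        rw [Finset.sum_comm]
        exact Finset.sum_congr rfl fun φ _ => Finset.sum_congr rfl fun a _ => by ring
    _ = (Nat.card G : ℂ)⁻¹ * ∑ c, g c * ∑ φ : IrrCharacter G,
          conj ((φ : G → ℂ) c) * chiTr φ x s := by
        unfold classInner
        simp only [Finset.mul_sum, Finset.sum_mul]
        rw [Finset.sum_comm]
        exact Finset.sum_congr rfl fun c _ => Finset.sum_congr rfl fun φ _ => by ring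
    _ = 0 := by
        refine mul_eq_zero_of_right _ (Finset.sum_eq_zero fun c _ => ?_)
        by_cases hc : p ∣ orderOf c
        · rw [sum_conj_mul_chiTr_eq_zero hM hs hc hx hi, mul_zero]
        · rw [h0 c hc, zero_mul]

/-- Convolution with the coefficients of a block gives the block part. -/
theorem sum_blockCoeff_shift (b : Set (IrrCharacter G)) {f : G → ℂ} (hf : IsClassFunction G f)
    (σ : G) : ∑ c, blockCoeff b c * f (σ * c) = blockPart b f σ := by
  classical
  have hN : (Nat.card G : ℂ) ≠ 0 := Nat.cast_ne_zero.2 Nat.card_pos.ne'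
  have e : ∑ c, blockCoeff b c * f (σ * c) = ∑ x, blockCoeff b (σ⁻¹ * x) * f x :=
    Fintype.sum_equiv (Equiv.mulLeft σ) _ _ fun c => by simp
  rw [e]
  refine mul_left_cancel₀ hN ?_
  rw [blockPart_eq_pair, mul_inv_cancel_left₀ hN]
  have hj : ∀ j : G, ∑ x, blockCoeff b (σ⁻¹ * x) * f x =
      ∑ x, blockCoeff b (σ⁻¹ * j * x * j⁻¹) * f x := fun j => by
    refine (Fintype.sum_equiv (MulAut.conj j).toEquiv _ _ fun x => ?_).symm
    simp only [MulEquiv.toEquiv_eq_coe, MulEquiv.coe_toEquiv, MulAut.conj_apply]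
    rw [hf x j]
    simp only [mul_assoc]
  calc (Nat.card G : ℂ) * ∑ x, blockCoeff b (σ⁻¹ * x) * f x
      = ∑ j : G, ∑ x, blockCoeff b (σ⁻¹ * j * x * j⁻¹) * f x := by
        rw [← Finset.sum_congr rfl fun j _ => hj j, Finset.sum_const, Finset.card_univ,
          ← Nat.card_eq_fintype_card, nsmul_eq_mul]
    _ = ∑ x, f x * blockPair b σ x := by
        rw [Finset.sum_comm]
        refine Finset.sum_congr rfl fun x _ => ?_
        rw [← Finset.sum_mul, sum_blockCoeff_twist, mul_comm (f x), blockPair]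
        congr 1
        refine Finset.sum_congr rfl fun φ _ => ?_
        rw [map_mul, irr_inv, Complex.conj_conj]

end Singular

variable {G : Type u} [Group G] [Fintype G] {p : ℕ} [Fact p.Prime] {M : Ideal AlgInt} [M.IsPrime]
  [CharP (resField M) p]

/-- Traces at idempotents cut by a block of a subgroup. -/
theorem chiTr_emb_mul_blockEltR {C : Subgroup G} {b : Set (IrrCharacter C)} (hb : IsPBlock M b)
    (χ : IrrCharacter G) (x : MonoidAlgebra (locRing M) C) (u : G)
    (hf : IsClassFunction C (secFun u C (χ : G → ℂ))) (σ : C) :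
    chiTr χ (emb C (x * blockEltR M b)) (u * σ) =
      ∑ a : C, (x.coeff a : ℂ) * blockPart b (secFun u C (χ : G → ℂ)) (σ * a) := by
  classical
  have e : chiTr χ (emb C (x * blockEltR M b)) (u * σ) =
      ∑ c : C, (((x * blockEltR M b).coeff c : locRing M) : ℂ) *
        secFun u C (χ : G → ℂ) (σ * c) := by
    rw [chiTr, ← Finset.sum_subset (Finset.subset_univ ((Finset.univ : Finset C).image Subtype.val))
      fun v _ hv => by
        rw [coeff_emb_notMem C _ fun h => hv (Finset.mem_image.2 ⟨⟨v, h⟩, Finset.mem_univ _, rfl⟩)]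
        simp,
      Finset.sum_image fun a _ b _ h => Subtype.ext h]
    exact Finset.sum_congr rfl fun c _ => by
      rw [coeff_emb_coe, secFun, Subgroup.coe_mul, mul_assoc]
  rw [e]
  simp only [coeff_mul_univ, AddSubmonoidClass.coe_finsetSum, MulMemClass.coe_mul,
    Finset.sum_mul]
  rw [Finset.sum_comm]
  refine Finset.sum_congr rfl fun a _ => ?_
  rw [← sum_blockCoeff_shift b hf (σ * a), Finset.mul_sum]
  refine Fintype.sum_equiv (Equiv.mulLeft a⁻¹) _ _ fun c => ?_
  simp only [Equiv.coe_mulLeft, coeff_blockEltR hb, mul_assoc, mul_inv_cancel_left]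

/-- The vanishing of the block part kills the traces of the idempotents of that block. -/
theorem chiTr_eq_zero_of_section (hM : IsPModular p M) {u s : G} (h : IsSec p u s)
    (χ : IrrCharacter G) {e : MonoidAlgebra (locRing M) G} (he : e * e = e)
    (hei : IsInvElt (secGrp u s) e) {b : Set (IrrCharacter (secC u))} (hb : IsPBlock M b)
    (hz : ∀ w : secC u, ¬ p ∣ orderOf w → blockPart b (secFun u (secC u) (χ : G → ℂ)) w = 0)
    (hsel : brTrunc (Subgroup.zpowers u) (resG e) * zB M (secC u) b =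
      brTrunc (Subgroup.zpowers u) (resG e)) : chiTr χ e (u * s) = 0 := by
  classical
  set ε := brTrunc (Subgroup.zpowers u) (resG e) with hεdef
  have hei' : IsInvElt (secGrp u s) (resG e) := fun v hv g => by
    rw [coeff_resG, coeff_resG, hei v hv g]
  have hεi : IsInvElt (secGrp u s) ε := isInvElt_brTrunc h.secGrp_le_normalizer hei'
  have hεε : ε * ε = ε := by
    rw [hεdef, ← brTrunc_mul h.pgroup (isInvElt_mono le_sup_left hei')
      (isInvElt_mono le_sup_left hei'), ← map_mul, he]
  have hεs : ∀ g, g ∉ (secC u) → ε.coeff g = 0 := fun g hg =>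
    coeff_brTrunc_neg fun hh => hg ⟨Subgroup.mem_top _, hh⟩
  set ε' := restr (secC u) ε with hε'def
  have hε'emb : emb (secC u) ε' = ε := emb_restr hεs
  have hε'ε : ε' * ε' = ε' := emb_injective (secC u) (by rw [map_mul, hε'emb, hεε])
  set K : Subgroup (secC u) := (secGrp u s).subgroupOf (secC u) with hK
  have hε'i : IsInvElt K ε' := fun v hv g => hεi (v : G) hv (g : G)
  obtain ⟨x, hx, hxi, hxr⟩ := exists_idem_lift hε'ε hε'i
  set y := x * blockEltR M b with hy
  have hcl := isClassElt_blockEltR (M := M) b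
  have hyy : y * y = y := by
    rw [hy, mul_assoc x, ← mul_assoc (blockEltR M b), hcl.comm x, mul_assoc x, ← mul_assoc,
      ← mul_assoc, hx, mul_assoc, Cfsg.Agent.Blocks.blockEltR_idem hb]
  have hyi : IsInvElt K y := isInvElt_mul' hxi (IsClassElt.isInvElt hcl K)
  have hEi : IsInvElt (secGrp u s) (emb (secC u) y) := by
    intro v hv g
    have hvC : v ∈ (secC u) := h.secGrp_le_secC hv
    by_cases hg : g ∈ (secC u)
    · rw [coeff_emb_mem (secC u) _ hg, coeff_emb_mem (secC u) _ (mul_mem (mul_mem hvC hg) (inv_mem hvC))]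
      exact hyi ⟨v, hvC⟩ hv ⟨g, hg⟩
    · rw [coeff_emb_notMem (secC u) _ hg, coeff_emb_notMem (secC u)]
      exact fun h' => hg (by simpa [mul_assoc] using mul_mem (mul_mem (inv_mem hvC) h') hvC)
  have hEr : resG (emb (secC u) y) = ε := by
    rw [hy, map_mul, map_mul, resG_emb_blockEltR, resG_emb, hxr, hε'emb]
    exact hsel
  rw [chiTr_congr hM h.pow h.reg h.comm (mem_secGrp_left u s) (mem_secGrp_right u s) he
    (by rw [← map_mul, hyy]) hei hEi (fun g hg => by
      rw [← coeff_resG, ← coeff_resG, hEr, hεdef,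
        coeff_brTrunc_pos (by rwa [centralizer_zpowers_eq])]) χ]
  let σ : (secC u) := ⟨s, h.secGrp_le_secC (mem_secGrp_right u s)⟩
  have hf : IsClassFunction (secC u) (secFun u (secC u) (χ : G → ℂ)) :=
    isClassFunction_secFun (secC_eq u) (IsCharacter.isClassFunction (irr_isCharacter χ))
  refine (chiTr_emb_mul_blockEltR hb χ x u hf σ).trans ?_
  refine sum_coeff_mul_eq_zero hM (by rw [← Subgroup.orderOf_coe]; exact h.reg) hx
    (isInvElt_mono (Subgroup.zpowers_le.2 (show σ ∈ K from mem_secGrp_right u s)) hxi) ?_ hz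
  intro g k
  rw [blockPart_eq_sum, blockPart_eq_sum]
  exact Finset.sum_congr rfl fun φ _ => by rw [irr_conj_invariant]

section Height

variable {B : Set (IrrCharacter G)} {P : Subgroup G}
  {e : Set (IrrCharacter (Subgroup.centralizer (P : Set G)))}

/-- A Brauer pair of a block gives block induction from the centraliser. -/
theorem induced_of_zI (hM : IsPModular p M) (hB : IsPBlock M B) (he : IsPBlock M e)
    (hp : IsPairOf p ⊤ (Ek M B) (zI M ⟨P, e⟩)) :
    IsInducedBlock M (Subgroup.centralizer (P : Set G)) e B := by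
  refine ⟨he, hB, fun ξ hξ χ hχ g => ?_⟩
  rw [inducedCentralChar_eq (M := M), ← omegaR_classSum (M := M) χ g]
  set y := classSum (locRing M) g
  have hy : IsClassElt y := isClassElt_classSum g
  have hyR : IsClassElt (restr (Subgroup.centralizer (P : Set G)) y) := isClassElt_restr (IsClassElt.isInvElt hy (Subgroup.centralizer (P : Set G)))
  have hyk : IsClassElt (resG y) := IsClassElt.map hy _
  have hwH : InZ (Subgroup.centralizer (P : Set G)) (emb (Subgroup.centralizer (P : Set G)) (restr (Subgroup.centralizer (P : Set G)) (resG y))) :=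
    inZ_emb (isClassElt_restr (IsClassElt.isInvElt hyk (Subgroup.centralizer (P : Set G))))
  have h1 : lam (zB M (Subgroup.centralizer (P : Set G)) e) (emb (Subgroup.centralizer (P : Set G)) (restr (Subgroup.centralizer (P : Set G)) (resG y))) =
      res M ⟨omegaR ξ (restr (Subgroup.centralizer (P : Set G)) y), omegaR_memLocalRing ξ hyR⟩ := by
    rw [lam_zB (Subgroup.centralizer (P : Set G)) he hξ hwH, restr_emb, restr_resG, omegaK_resG _ hyR]
  have h2 : lam (Ek M B) (resG y) = res M ⟨omegaR χ y, omegaR_memLocalRing χ hy⟩ := by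
    rw [lam_Ek hB hχ hyk, omegaK_resG _ hy]
  have h5 := lam_brTrunc hp.pair.pgroup hp.pair.le hp.blk hp.pair.blk hp.occ
    (isClassElt_iff_inZ_top.2 hyk)
  rw [h2, show brTrunc (zI M ⟨P, e⟩).1 (resG y) = emb (Subgroup.centralizer (P : Set G)) (restr (Subgroup.centralizer (P : Set G)) (resG y)) from
    brTrunc_eq_emb_restr P (resG y), show (zI M ⟨P, e⟩).2 = zB M (Subgroup.centralizer (P : Set G)) e from rfl, h1] at h5
  exact res_eq_res_iff.1 h5

/-- A fixed character has block values in the ideal on the regular elements of the centraliser. -/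
theorem chiTr_block_mem_of_fixed (hM : IsPModular p M) (he : IsPBlock M e)
    (hmax : IsMax p (Ek M B) (zI M ⟨P, e⟩)) {lam : P →* ℂˣ}
    (htriv : IsTriv p (zI M ⟨P, e⟩) lam) {χ : IrrCharacter G}
    (hfix : star p (zI M ⟨P, e⟩) (chFun lam) χ = (χ : G → ℂ)) {v : G} (hv : v ∈ P)
    (hlam : lam ⟨v, hv⟩ ≠ 1) {s : G} (hs : s ∈ Subgroup.centralizer (P : Set G))
    (hsr : ¬ p ∣ orderOf s) :
    MemLocalIdeal M (chiTr χ
      (emb (Subgroup.centralizer (P : Set G)) (blockEltR M e)) s) := by
  classical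
  haveI := DefOne.isAlgClosed_resField (M := M)
  set S := Subgroup.zpowers s with hSdef
  have hP : IsPGroup p P := hmax.pairOf.pair.pgroup
  have hSC : S ≤ (Subgroup.centralizer (P : Set G)) := Subgroup.zpowers_le.2 hs
  have hS : ∀ t ∈ S, ¬ p ∣ orderOf t := fun t ht hd =>
    hsr (hd.trans (orderOf_dvd_of_mem_zpowers ht))
  have hzB : IsBlk (Subgroup.centralizer (P : Set G)) (zB M (Subgroup.centralizer (P : Set G)) e) := isBlk_zB (Subgroup.centralizer (P : Set G)) he
  have hzs : ∀ g, g ∉ (Subgroup.centralizer (P : Set G)) → (zB M (Subgroup.centralizer (P : Set G)) e).coeff g = 0 := hzB.inZ.supp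
  have hei : IsInvElt (P ⊔ S) (zB M (Subgroup.centralizer (P : Set G)) e) :=
    isInvElt_sup (isInvElt_of_supp_centralizer hzs) fun t ht => hzB.inZ.inv t (hSC ht)
  have hinvC : IsInvElt (Subgroup.centralizer (P : Set G)) (emb (Subgroup.centralizer (P : Set G)) (blockEltR M e)) := by
    intro t ht g
    by_cases hg : g ∈ (Subgroup.centralizer (P : Set G))
    · rw [coeff_emb_mem (Subgroup.centralizer (P : Set G)) _ hg, coeff_emb_mem (Subgroup.centralizer (P : Set G)) _ (mul_mem (mul_mem ht hg) (inv_mem ht))]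
      exact isClassElt_blockEltR e ⟨g, hg⟩ ⟨t, ht⟩
    · rw [coeff_emb_notMem (Subgroup.centralizer (P : Set G)) _ hg, coeff_emb_notMem (Subgroup.centralizer (P : Set G))]
      exact fun h => hg (by simpa [mul_assoc] using mul_mem (mul_mem (inv_mem ht) h) ht)
  obtain ⟨Spl⟩ := nonempty_splitting (k := resField M) (A := invAlg (resField M) (P ⊔ S))
  obtain ⟨D, hD, hO, hsum⟩ := Spl.exists_decomp ⟨zB M (Subgroup.centralizer (P : Set G)) e, hei⟩ (Subtype.ext hzB.idem)
  have hsum' : ∑ j ∈ D, (j : MonoidAlgebra (resField M) G) = zB M (Subgroup.centralizer (P : Set G)) e := by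
    rw [← AddSubmonoidClass.coe_finsetSum, hsum]
  have h1s : IsSec p 1 s := ⟨⟨0, by simp⟩, hsr, Commute.one_left s⟩
  have hsecle : secGrp 1 s ≤ P ⊔ S :=
    secGrp_le (one_mem _) (Subgroup.mem_sup_right (Subgroup.mem_zpowers s))
  have htot : chiTr χ (emb (Subgroup.centralizer (P : Set G)) (blockEltR M e)) s =
      ∑ j ∈ D, tau χ 1 s (j : MonoidAlgebra (resField M) G) := by
    rw [← tau_sum hM h1s χ D (fun j => (j : MonoidAlgebra (resField M) G))
      (fun j hj => congrArg Subtype.val (hD j hj).1.idem)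
      (fun j _ => isInvElt_mono hsecle j.2)
      (fun j hj j' hj' hne => congrArg Subtype.val (hO j hj j' hj' hne)), hsum',
      tau_eq hM h1s (Subgroup.centralizer (P : Set G)).one_mem hs χ (by rw [← map_mul, Cfsg.Agent.Blocks.blockEltR_idem he]) hinvC
        hzB.idem (isInvElt_mono hsecle hei)
        (fun g _ => by rw [← resG_emb_blockEltR (Subgroup.centralizer (P : Set G)) e, coeff_resG]), one_mul]
  rw [htot]
  refine memLocalIdeal_sum _ _ fun j hj => ?_
  obtain ⟨hjP, hej, hje⟩ := hD j hj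
  have hjj : (j : MonoidAlgebra (resField M) G) * j = j := congrArg Subtype.val hjP.idem
  obtain ⟨ê, hê, hêi, hêr⟩ := exists_idem_lift hjj j.2
  have hsj : s ∈ P ⊔ S := Subgroup.mem_sup_right (Subgroup.mem_zpowers s)
  rw [tau_eq hM h1s (one_mem _) hsj χ hê hêi hjj (isInvElt_mono hsecle j.2)
    (fun g _ => by rw [← hêr, coeff_resG]), one_mul]
  suffices hex : ∃ t ∈ P, chiTr χ ê (t * s) = 0 by
    obtain ⟨t, ht, h0⟩ := hex
    obtain ⟨k, hk⟩ := IsPGroup.iff_orderOf.1 hP ⟨t, ht⟩
    rw [← Subgroup.orderOf_coe] at hk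
    have hts : Commute t s := Subgroup.mem_centralizer_iff.1 hs t ht
    have h := char_congr_regular hM (isCharacter_chiTr χ hê hêi)
      (x := (⟨t, Subgroup.mem_sup_left ht⟩ : ↥(P ⊔ S))) (y := ⟨s, hsj⟩) (Subtype.ext hts.eq)
      (by rw [← Subgroup.orderOf_coe]; exact hk) (by rw [← Subgroup.orderOf_coe]; exact hsr)
    simp only [Subgroup.coe_mul] at h
    rw [h0, zero_sub] at h
    simpa using MemLocalIdeal.sub memLocalIdeal_zero h
  by_cases hne : brTrunc P (j : MonoidAlgebra (resField M) G) = 0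
  · obtain ⟨V, u₀, α, -, -, hu₀, -, -, -, -, -, hαsum⟩ :=
      exists_trace_of_br_eq_zero (k := resField M) hP hSC hS hjP hne
    refine ⟨u₀, hu₀, ?_⟩
    have hsec := isSec_of_mem hP hSC hS hu₀ (Subgroup.mem_zpowers s)
    rw [chiTr_congr hM hsec.pow hsec.reg hsec.comm (H := P ⊔ S) (Subgroup.mem_sup_left hu₀) hsj hê
      (mul_zero 0) hêi (fun _ _ _ => by simp) (fun g hg => ?_) χ, chiTr_zero]
    rw [← coeff_resG, hêr, ← hαsum, MonoidAlgebra.coeff_sum, Finset.sum_apply',
      MonoidAlgebra.coeff_zero, Finsupp.coe_zero, Pi.zero_apply, map_zero]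
    have hconst : ∀ m ∈ Finset.range p, (cj (u₀ ^ m) α).coeff g = α.coeff g := by
      intro m _
      have hc : Commute g (u₀ ^ m) :=
        Commute.pow_right (Subgroup.mem_centralizer_singleton_iff.1 hg) m
      rw [coeff_cj, mul_assoc, hc.eq, inv_mul_cancel_left]
    rw [Finset.sum_congr rfl hconst, Finset.sum_const, Finset.card_range, nsmul_eq_mul,
      CharP.cast_eq_zero, zero_mul]
  · refine ⟨v, hv, ?_⟩
    have hsec := isSec_of_mem hP hSC hS hv (Subgroup.mem_zpowers s)
    have hjz : brTrunc P (j : MonoidAlgebra (resField M) G) * zB M (Subgroup.centralizer (P : Set G)) e =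
        brTrunc P (j : MonoidAlgebra (resField M) G) := by
      conv_rhs => rw [← show (j : MonoidAlgebra (resField M) G) * zB M (Subgroup.centralizer (P : Set G)) e = j from
        congrArg Subtype.val hje]
      rw [brTrunc_mul hP (isInvElt_mono le_sup_left j.2) (isInvElt_mono le_sup_left hei),
        brTrunc_eq_self hzs]
    obtain ⟨f, hf, -⟩ := existsUnique_below hmax.pairOf.pair
      (Subgroup.zpowers_le.2 hv : Subgroup.zpowers v ≤ (zI M ⟨P, e⟩).1)
    obtain ⟨b, hb, hbf⟩ := exists_eq_zB (H := secC v) (hf.left hmax.pairOf.pair).blk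
    replace hbf : zB M (secC v) b = f := hbf
    subst hbf
    have hbr := brTrunc_mul_below hP hSC hjP hne hmax.pairOf.pair hjz _ _ hf
    refine chiTr_eq_zero_of_section hM hsec χ hê
      (isInvElt_mono (secGrp_le (Subgroup.mem_sup_left hv) hsj) hêi) hb (fun w hw => ?_)
      (by rw [hêr]; exact hbr)
    have h1 := blockPart_secFun_star (a := zI M ⟨P, e⟩) (η := chFun lam) hM hsec.pow χ hb hw
    have hval : val p (zI M ⟨P, e⟩) (chFun lam) v (zB M (secC v) b) = (lam ⟨v, hv⟩ : ℂ) := by
      have h2 := val_eq (g := 1) (isStarFn_chFun htriv)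
        (show SubLE p ⊤ (cjP 1 ((Subgroup.zpowers v, zB M (secC v) b) : Pr (resField M) G))
          (zI M ⟨P, e⟩) by rw [cjP_one]; exact hf)
      refine h2.trans ?_
      rw [one_mul, inv_one, mul_one]
      exact chFun_mem lam hv
    rw [hfix, hval] at h1
    by_contra h0
    exact hlam (Units.ext (mul_right_cancel₀ h0 ((one_mul _).trans h1)).symm)

/-- A fixed character of height zero forces the linear character to be trivial. -/
theorem lam_eq_one_of_fixed_heightZero (hM : IsPModular p M) (hB : IsPBlock M B)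
    (he : IsPBlock M e) (hmax : IsMax p (Ek M B) (zI M ⟨P, e⟩)) {lam : P →* ℂˣ}
    (htriv : IsTriv p (zI M ⟨P, e⟩) lam) {χ : IrrCharacter G} (hχ : χ ∈ B)
    (h0 : blockHeight p B (χ : G → ℂ) = 0)
    (hfix : star p (zI M ⟨P, e⟩) (chFun lam) χ = (χ : G → ℂ)) : lam = 1 := by
  classical
  by_contra hne
  obtain ⟨⟨v, hv⟩, hlam⟩ : ∃ w : P, lam w ≠ 1 := by
    by_contra hc
    push Not at hc
    exact hne (MonoidHom.ext hc)
  have hind := induced_of_zI hM hB he hmax.pairOf
  obtain ⟨ψ, hψ⟩ := isPBlock_nonempty he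
  refine (restrict_mult_congr (p := p) hM hind χ hψ).1 ?_ ⟨hχ, h0⟩
  set w : (Subgroup.centralizer (P : Set G)) → ℂ := fun c => chiTr χ (emb (Subgroup.centralizer (P : Set G)) (blockEltR M e)) (c : G) with hw
  have hinvC : IsInvElt (Subgroup.centralizer (P : Set G)) (emb (Subgroup.centralizer (P : Set G)) (blockEltR M e)) := by
    intro t ht g
    by_cases hg : g ∈ (Subgroup.centralizer (P : Set G))
    · rw [coeff_emb_mem (Subgroup.centralizer (P : Set G)) _ hg, coeff_emb_mem (Subgroup.centralizer (P : Set G)) _ (mul_mem (mul_mem ht hg) (inv_mem ht))]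
      exact isClassElt_blockEltR e ⟨g, hg⟩ ⟨t, ht⟩
    · rw [coeff_emb_notMem (Subgroup.centralizer (P : Set G)) _ hg, coeff_emb_notMem (Subgroup.centralizer (P : Set G))]
      exact fun h => hg (by simpa [mul_assoc] using mul_mem (mul_mem (inv_mem ht) h) ht)
  have hwc : IsCharacter (Subgroup.centralizer (P : Set G)) w := isCharacter_chiTr χ
    (by rw [← map_mul, Cfsg.Agent.Blocks.blockEltR_idem he]) hinvC
  set r : (Subgroup.centralizer (P : Set G)) → ℂ := fun c => (χ : G → ℂ) (c : G) with hr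
  have hsec1 : secFun 1 (Subgroup.centralizer (P : Set G)) (χ : G → ℂ) = r := funext fun c => by rw [secFun, one_mul]
  have hrcl : IsClassFunction (Subgroup.centralizer (P : Set G)) r :=
    IsCharacter.isClassFunction (IsCharacter.restrict (irr_isCharacter χ) (Subgroup.centralizer (P : Set G)))
  have hwb : blockPart e r = w := funext fun c => by
    have h1 := chiTr_emb_mul_blockEltR he χ 1 1 (by rw [hsec1]; exact hrcl) c
    rw [one_mul, one_mul, hsec1] at h1
    rw [hw]
    show _ = chiTr χ (emb (Subgroup.centralizer (P : Set G)) (blockEltR M e)) (c : G)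
    rw [h1, Finset.sum_eq_single 1]
    · simp [MonoidAlgebra.one_def]
    · intro a _ ha
      simp [MonoidAlgebra.one_def, Ne.symm ha]
    · simp
  have hψv : blockPart e (ψ : (Subgroup.centralizer (P : Set G)) → ℂ) = (ψ : (Subgroup.centralizer (P : Set G)) → ℂ) := by
    rw [← bcomb_single e hψ, blockPart_bcomb]
  have hpair := regPair_blockPart (p := p) hM he 1 r hψv
  rw [hwb, regPair_eq_sum, regPair_eq_sum] at hpair
  simp only [Complex.ofReal_one, one_mul] at hpair
  have heq : classInner (regTr p r) (ψ : (Subgroup.centralizer (P : Set G)) → ℂ) = classInner (regTr p w) (ψ : (Subgroup.centralizer (P : Set G)) → ℂ) := by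
    rw [classInner_regTr hM.1, classInner_regTr hM.1, hpair]
  show MemLocalIdeal M (classInner (regTr p r) (ψ : (Subgroup.centralizer (P : Set G)) → ℂ) / (ψ : (Subgroup.centralizer (P : Set G)) → ℂ) 1)
  rw [heq, classInner_regTr_eq hM hwc ψ]
  have hψ1 := irr_one_ne_zero ψ
  rw [show omegaR ψ (regElt M p w hwc) * (ψ : (Subgroup.centralizer (P : Set G)) → ℂ) 1 * (ordPrime p (Subgroup.centralizer (P : Set G)) : ℂ)⁻¹ / (ψ : (Subgroup.centralizer (P : Set G)) → ℂ) 1 =
    (ordPrime p (Subgroup.centralizer (P : Set G)) : ℂ)⁻¹ * omegaR ψ (regElt M p w hwc) by field_simp]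
  refine MemLocalIdeal.mul_left (inv_ordPrime_mem hM)
    (omegaR_mem_of_resG_eq_zero ψ (isClassElt_regElt hwc) (gaExt fun c => ?_))
  rw [coeff_resG, MonoidAlgebra.coeff_zero, Finsupp.coe_zero, Pi.zero_apply, res_eq_zero_iff,
    coeff_regElt]
  by_cases hc : p ∣ orderOf c
  · rw [if_pos hc]; exact memLocalIdeal_zero
  · rw [if_neg hc]
    refine chiTr_block_mem_of_fixed hM he hmax htriv hfix hv hlam (c⁻¹).2 ?_
    rwa [Subgroup.orderOf_coe, orderOf_inv]

/-- The number of height zero characters is divisible by the focal index. -/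
theorem focal_index_dvd_card (hM : IsPModular p M) (hB : IsPBlock M B) (he : IsPBlock M e)
    (hmax : IsMax p (Ek M B) (zI M ⟨P, e⟩)) (F : Subgroup G)
    (hF : ∀ (g : G) (b : Pr (resField M) G), SubLE p ⊤ b (zI M ⟨P, e⟩) →
      SubLE p ⊤ (cjP g b) (zI M ⟨P, e⟩) → ∀ u ∈ b.1, u⁻¹ * (g * u * g⁻¹) ∈ F)
    (hcomm : ∀ g ∈ P, ∀ u ∈ P, u⁻¹ * (g * u * g⁻¹) ∈ F) :
    (F.subgroupOf P).index ∣
      Nat.card {χ : IrrCharacter G // χ ∈ B ∧ blockHeight p B (χ : G → ℂ) = 0} := by
  classical
  let F' : Subgroup P := F.subgroupOf P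
  haveI hN : F'.Normal := ⟨fun n hn g => by
    have h1 : (n : G)⁻¹ * ((g : G) * n * (g : G)⁻¹) ∈ F := hcomm g g.2 n n.2
    show (g : G) * n * (g : G)⁻¹ ∈ F
    have h2 := F.mul_mem (show (n : G) ∈ F from hn) h1
    rwa [mul_inv_cancel_left] at h2⟩
  letI : CommGroup (P ⧸ F') :=
    { (inferInstance : Group (P ⧸ F')) with
      mul_comm := fun x y => by
        induction x using QuotientGroup.induction_on with
        | _ x =>
          induction y using QuotientGroup.induction_on with
          | _ y =>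
            rw [← QuotientGroup.mk_mul, ← QuotientGroup.mk_mul, QuotientGroup.eq]
            show ((x : G) * y)⁻¹ * ((y : G) * x) ∈ F
            have h1 := hcomm (x : G)⁻¹ (inv_mem x.2) (y : G) y.2
            convert h1 using 1
            group }
  let π : P →* P ⧸ F' := QuotientGroup.mk' F'
  have htriv : ∀ mu : (P ⧸ F') →* ℂˣ, IsTriv p (zI M ⟨P, e⟩) (mu.comp π) := by
    intro mu g b hb hgb u hu h₁ h₂
    show mu (π _) = mu (π _)
    refine congrArg mu (QuotientGroup.eq.2 ?_).symm
    exact hF g b hb hgb u hu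
  let X := {χ : IrrCharacter G // χ ∈ B ∧ blockHeight p B (χ : G → ℂ) = 0}
  choose act hact1 hact2 using fun (mu : (P ⧸ F') →* ℂˣ) (χ : X) =>
    exists_linMul hM hB hmax (htriv mu) χ.2.1
  have hh : ∀ mu χ, blockHeight p B (act mu χ : G → ℂ) = 0 := by
    intro mu χ
    have e1 : (act mu χ : G → ℂ) 1 = (χ.1 : G → ℂ) 1 := by
      rw [hact2, star_regular hM hB hmax (isStarFn_chFun (htriv mu)) χ.2.1
        (by simp [(Fact.out : p.Prime).ne_one]), chFun_one, one_mul]
    have e2 : charDegree (act mu χ : G → ℂ) = charDegree (χ.1 : G → ℂ) := by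
      rw [charDegree, charDegree, e1]
    have h2 := χ.2.2
    rw [blockHeight] at h2 ⊢
    rw [e2]
    exact h2
  letI : SMul ((P ⧸ F') →* ℂˣ) X := ⟨fun mu χ => ⟨act mu χ, hact1 mu χ, hh mu χ⟩⟩
  letI : MulAction ((P ⧸ F') →* ℂˣ) X :=
    { one_smul := fun χ => Subtype.ext (Subtype.ext (by
        show (act 1 χ : G → ℂ) = _
        exact (hact2 1 χ).trans (star_chFun_one hM hB hmax χ.2.1)))
      mul_smul := fun mu nu χ => Subtype.ext (Subtype.ext (by
        show (act (mu * nu) χ : G → ℂ) = (act mu ⟨act nu χ, hact1 nu χ, hh nu χ⟩ : G → ℂ)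
        rw [hact2, hact2, star_star hM hmax (htriv mu) (htriv nu) (hact2 nu χ)]
        rfl)) }
  have hdvd := index_dvd_card_of_stabilizer (Γ := (P ⧸ F') →* ℂˣ) (X := X) ⊥ ?_
  · rw [Subgroup.index_bot, CommGroup.card_monoidHom_of_hasEnoughRootsOfUnity (P ⧸ F') ℂ] at hdvd
    exact hdvd
  · intro χ mu hmu
    rw [MulAction.mem_stabilizer_iff] at hmu
    have he' : (act mu χ : G → ℂ) = (χ.1 : G → ℂ) :=
      congrArg (fun x : X => (x.1 : G → ℂ)) hmu
    rw [hact2] at he'
    have h1 := lam_eq_one_of_fixed_heightZero hM hB he hmax (htriv mu) χ.2.1 χ.2.2 he'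
    refine Subgroup.mem_bot.2 (MonoidHom.ext fun q => ?_)
    induction q using QuotientGroup.induction_on with
    | _ x => exact DFunLike.congr_fun h1 x

end Height

end Cfsg.Agent.Star
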